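import Cfsg.Agent.Leech.ModTwo
import Cfsg.Prelude.Def_SporadicCombinatorics

/-!
# The Leech lattice modulo twice itself
-/

set_option autoImplicit false

namespace Cfsg.Agent.Leech.ModTwoLeech

open Module

/-- The dot product as a bilinear form. -/
def dotForm : LinearMap.BilinForm ℤ (GolayPt → ℤ) :=
  LinearMap.mk₂ ℤ (fun x y => ∑ i, x i * y i)
    (fun x x' y => by simp only [Pi.add_apply, add_mul, Finset.sum_add_distrib])
    (fun c x y => by
      simp only [Pi.smul_apply, smul_eq_mul, Finset.mul_sum, mul_assoc])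
    (fun x y y' => by simp only [Pi.add_apply, mul_add, Finset.sum_add_distrib])
    (fun c x y => by
      simp only [Pi.smul_apply, smul_eq_mul, Finset.mul_sum, mul_left_comm])

theorem dotForm_apply (x y : GolayPt → ℤ) : dotForm x y = dotInt x y := rfl

theorem dotForm_self (x : GolayPt → ℤ) : dotForm x x = sqNorm x := by
  change ∑ i, x i * x i = ∑ i, x i ^ 2
  exact Finset.sum_congr rfl fun i _ => (sq (x i)).symm

theorem dotForm_symm (x y : GolayPt → ℤ) : dotForm x y = dotForm y x := by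
  change ∑ i, x i * y i = ∑ i, y i * x i
  exact Finset.sum_congr rfl fun i _ => mul_comm _ _

/-- The lattice as a submodule. -/
abbrev lat : Submodule ℤ (GolayPt → ℤ) := AddSubgroup.toIntSubmodule leechLattice

/-- The counting argument `1 + N₄ / 2 + N₆ / 2 + N₈ / 48 = 2 ^ 24`: every vector of the lattice is
congruent modulo twice the lattice to one of norm at most `64`, and crosses have `48` members. -/
theorem leech_mod_two
    (hmin : ∀ x ∈ leechLattice, x ≠ 0 → 32 ≤ sqNorm x)
    (h4 : {x : GolayPt → ℤ | x ∈ leechLattice ∧ sqNorm x = 32}.ncard = 196560)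
    (h6 : {x : GolayPt → ℤ | x ∈ leechLattice ∧ sqNorm x = 48}.ncard = 16773120)
    (h8 : {x : GolayPt → ℤ | x ∈ leechLattice ∧ sqNorm x = 64}.ncard = 398034000) :
    (∀ x ∈ leechLattice, ∃ y ∈ leechLattice, sqNorm y ≤ 64 ∧ ∃ z ∈ leechLattice, x - y = 2 • z) ∧
      ∀ x ∈ leechLattice, sqNorm x = 64 → (cross x).ncard = 48 := by
  set b : LinearMap.BilinForm ℤ lat := dotForm.restrict lat with hb
  have hbs : ∀ x : lat, b x x = sqNorm (x : GolayPt → ℤ) := fun x => dotForm_self _
  have hrank : finrank ℤ lat ≤ 24 := by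
    have := Submodule.finrank_le lat
    rw [Module.finrank_fintype_fun_eq_card] at this
    simpa [GolayPt] using this
  have hcard : ∀ n : ℤ, {x : lat | b x x = n}.ncard =
      {x : GolayPt → ℤ | x ∈ leechLattice ∧ sqNorm x = n}.ncard := by
    intro n
    rw [← Set.ncard_image_of_injective _ (Subtype.val_injective : Function.Injective
      (fun x : lat => (x : GolayPt → ℤ)))]
    congr 1
    ext x
    constructor
    · rintro ⟨y, hy, rfl⟩
      exact ⟨y.2, (hbs y).symm.trans hy⟩
    · rintro ⟨hx, hxn⟩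
      exact ⟨⟨x, hx⟩, (hbs ⟨x, hx⟩).trans hxn, rfl⟩
  obtain ⟨H1, H2⟩ := Cfsg.Agent.Leech.ModTwo.main_count (L := lat) hrank 8 (by norm_num) b
    (fun x y => dotForm_symm _ _)
    (fun x hx => by
      rw [hbs]
      exact hmin x x.2 fun h => hx (Subtype.ext h))
    ((hcard _).trans h4) ((hcard _).trans h6) ((hcard _).trans h8)
  constructor
  · intro x hx
    obtain ⟨y, z, hy, hz⟩ := H1 ⟨x, hx⟩
    refine ⟨y, y.2, ?_, z, z.2, ?_⟩
    · rw [hbs] at hy
      exact hy
    · exact congrArg Subtype.val hz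
  · intro x hx hxn
    have := H2 ⟨x, hx⟩ ((hbs _).trans hxn)
    rw [← this, ← Set.ncard_image_of_injective _ (Subtype.val_injective : Function.Injective
      (fun x : lat => (x : GolayPt → ℤ)))]
    congr 1
    ext y
    constructor
    · rintro ⟨hy, hyn, z, hz, hxy⟩
      exact ⟨⟨y, hy⟩, ⟨(hbs _).trans (hyn.trans hxn), ⟨z, hz⟩, Subtype.ext hxy⟩, rfl⟩
    · rintro ⟨y, ⟨hyn, z, hz⟩, rfl⟩
      refine ⟨y.2, ?_, z, z.2, congrArg Subtype.val hz⟩
      rw [hbs] at hyn
      rw [hxn]
      exact hyn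

end Cfsg.Agent.Leech.ModTwoLeech
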