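import Cfsg.Agent.Leech.Co0Elts

/-!
Conway's maps: for a sextet `S` and a tetrad `T ∈ S`, subtract from every coordinate half the sum
over its tetrad, then change all signs on `T`.
-/

set_option autoImplicit false

namespace Cfsg.Agent.Leech.Xi

open Cfsg Cfsg.Agent.Leech.Code Cfsg.Agent.Leech.Basic Cfsg.Agent.Leech.Co0Elts

variable {S : Finset (Finset GolayPt)}

theorem octads_words {o : Finset GolayPt} (ho : o ∈ octads) : o ∈ Words := ho.1

theorem sextet_disjoint (hS : S ∈ sextets) {t u : Finset GolayPt} (ht : t ∈ S) (hu : u ∈ S)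
    (htu : t ≠ u) : Disjoint t u := by
  have h8 : (t ∪ u).card = 8 := (hS.2.2 t ht u hu htu).2
  have h1 := hS.2.1 t ht
  have h2 := hS.2.1 u hu
  have := Finset.card_union_add_card_inter t u
  rw [Finset.disjoint_iff_inter_eq_empty, ← Finset.card_eq_zero]
  omega

theorem sextet_biUnion (hS : S ∈ sextets) : S.biUnion id = Finset.univ := by
  rw [← Finset.card_eq_iff_eq_univ, Finset.card_biUnion]
  · simp only [id]
    rw [Finset.sum_congr rfl (fun t ht => hS.2.1 t ht), Finset.sum_const, hS.1, card_golayPt]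
    rfl
  · intro t ht u hu htu
    exact sextet_disjoint hS ht hu htu

theorem sextet_exists (hS : S ∈ sextets) (i : GolayPt) : ∃ t ∈ S, i ∈ t := by
  have h : i ∈ S.biUnion id := by rw [sextet_biUnion hS]; exact Finset.mem_univ i
  simpa using h

theorem sextet_unique (hS : S ∈ sextets) {t u : Finset GolayPt} (ht : t ∈ S) (hu : u ∈ S)
    {i : GolayPt} (hit : i ∈ t) (hiu : i ∈ u) : t = u := by
  by_contra h
  exact Finset.disjoint_left.1 (sextet_disjoint hS ht hu h) hit hiu

/-- The member of `S` containing `i` (union of all members containing `i`). -/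
def tet (S : Finset (Finset GolayPt)) (i : GolayPt) : Finset GolayPt :=
  (S.filter fun t => i ∈ t).biUnion id

theorem tet_eq (hS : S ∈ sextets) {t : Finset GolayPt} (ht : t ∈ S) {i : GolayPt} (hi : i ∈ t) :
    tet S i = t := by
  have : S.filter (fun t => i ∈ t) = {t} := by
    ext u
    rw [Finset.mem_filter, Finset.mem_singleton]
    exact ⟨fun h => sextet_unique hS h.1 ht h.2 hi, fun h => h ▸ ⟨ht, hi⟩⟩
  unfold tet
  rw [this, Finset.singleton_biUnion, id]

theorem sum_sextet (hS : S ∈ sextets) (c : Finset GolayPt) (f : GolayPt → ℤ) :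
    ∑ i ∈ c, f i = ∑ t ∈ S, ∑ i ∈ c ∩ t, f i := by
  have h1 : ∀ t, ∑ i ∈ c ∩ t, f i = ∑ i ∈ c, if i ∈ t then f i else 0 := fun t => by
    rw [Finset.sum_ite_mem]
  simp only [h1]
  rw [Finset.sum_comm]
  refine Finset.sum_congr rfl fun i _ => ?_
  obtain ⟨t, ht, hit⟩ := sextet_exists hS i
  rw [Finset.sum_eq_single t, if_pos hit]
  · intro u hu hut
    rw [if_neg]
    intro hiu
    exact hut (sextet_unique hS hu ht hiu hit)
  · intro h; exact absurd ht h

/-- Half the sum over the tetrad containing `i`. -/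
def hsum (S : Finset (Finset GolayPt)) (x : GolayPt → ℤ) (i : GolayPt) : ℤ :=
  (∑ j ∈ tet S i, x j) / 2

/-- Conway's map. -/
def xiMap (S : Finset (Finset GolayPt)) (T : Finset GolayPt) (x : GolayPt → ℤ) : GolayPt → ℤ :=
  fun i => if i ∈ T then -(x i - hsum S x i) else x i - hsum S x i

theorem xiMap_apply (S : Finset (Finset GolayPt)) (T : Finset GolayPt) (x : GolayPt → ℤ)
    (i : GolayPt) :
    xiMap S T x i = if i ∈ T then -(x i - hsum S x i) else x i - hsum S x i := rfl

/-- For a lattice vector, all tetrad sums of a sextet are even and congruent modulo 4. -/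
theorem exists_tau (hS : S ∈ sextets) {m : ℤ} {x : GolayPt → ℤ} (h : IsLeech m x) :
    ∃ τ : ℤ, ∀ t ∈ S, ∃ k : ℤ, ∑ i ∈ t, x i = 2 * k ∧ k ≡ τ [ZMOD 2] := by
  have hpair : ∀ t ∈ S, ∀ u ∈ S, t ≠ u → (∑ i ∈ t, x i) + ∑ i ∈ u, x i ≡ 0 [ZMOD 4] := by
    intro t ht u hu htu
    rw [← Finset.sum_union (sextet_disjoint hS ht hu htu)]
    exact h.code _ (octads_words (hS.2.2 t ht u hu htu))
  have hcard : S.card = 6 := hS.1
  obtain ⟨t₀, ht₀⟩ : S.Nonempty := by rw [← Finset.card_pos]; omega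
  have hex : ∀ t ∈ S, ∀ u ∈ S, ∃ v ∈ S, v ≠ t ∧ v ≠ u := by
    intro t ht u hu
    have : ((S.erase t).erase u).Nonempty := by
      rw [← Finset.card_pos]
      have h1 : (S.erase t).card = 5 := by rw [Finset.card_erase_of_mem ht, hcard]
      have h2 : (S.erase t).card - 1 ≤ ((S.erase t).erase u).card := Finset.pred_card_le_card_erase
      omega
    obtain ⟨v, hv⟩ := this
    rw [Finset.mem_erase, Finset.mem_erase] at hv
    exact ⟨v, hv.2.2, hv.2.1, hv.1⟩
  refine ⟨(∑ i ∈ t₀, x i) / 2, fun t ht => ⟨(∑ i ∈ t, x i) / 2, ?_⟩⟩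
  obtain ⟨u, hu, hut, hut₀⟩ := hex t ht t₀ ht₀
  obtain ⟨v, hv, hvt, hvu⟩ := hex t ht u hu
  have h1 := hpair t ht u hu hut.symm
  have h2 := hpair t ht v hv hvt.symm
  have h3 := hpair u hu v hv hvu.symm
  have h4 := hpair u hu t₀ ht₀ hut₀
  unfold Int.ModEq at *
  omega

/-- The contribution of a tetrad to codeword sums of `xiMap`. -/
theorem sum_xiMap_on (hS : S ∈ sextets) {T t : Finset GolayPt} (hT : T ∈ S) (ht : t ∈ S)
    (c : Finset GolayPt) (x : GolayPt → ℤ) {k : ℤ} (hk : ∑ i ∈ t, x i = 2 * k) :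
    ∑ i ∈ c ∩ t, xiMap S T x i =
      (if t = T then -1 else 1) * (∑ i ∈ c ∩ t, x i - (c ∩ t).card * k) := by
  have h1 : ∀ i ∈ c ∩ t, xiMap S T x i = (if t = T then -1 else 1) * (x i - k) := by
    intro i hi
    have hit : i ∈ t := (Finset.mem_inter.1 hi).2
    have h2 : hsum S x i = k := by
      unfold hsum; rw [tet_eq hS ht hit, hk]; omega
    rw [xiMap_apply, h2]
    by_cases htT : t = T
    · subst htT; rw [if_pos hit, if_pos rfl]; ring
    · have : i ∉ T := fun hiT => htT (sextet_unique hS ht hT hit hiT)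
      rw [if_neg this, if_neg htT]; ring
  rw [Finset.sum_congr rfl h1, ← Finset.mul_sum, Finset.sum_sub_distrib, Finset.sum_const,
    nsmul_eq_mul]

theorem even_or_odd_inter (hS : S ∈ sextets) {c : Finset GolayPt} (hc : c ∈ Words) :
    ∃ ε : ℤ, (ε = 0 ∨ ε = 1) ∧ ∀ t ∈ S, ((c ∩ t).card : ℤ) ≡ ε [ZMOD 2] := by
  have hpair : ∀ t ∈ S, ∀ u ∈ S, t ≠ u → ((c ∩ t).card : ℤ) + (c ∩ u).card ≡ 0 [ZMOD 2] := by
    intro t ht u hu htu
    have h1 : (c ∩ (t ∪ u)).card = (c ∩ t).card + (c ∩ u).card := by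
      rw [Finset.inter_union_distrib_left, Finset.card_union_of_disjoint]
      exact (sextet_disjoint hS ht hu htu).mono Finset.inter_subset_right Finset.inter_subset_right
    obtain ⟨r, hr⟩ := even_inter hc (octads_words (hS.2.2 t ht u hu htu))
    rw [h1] at hr
    unfold Int.ModEq
    omega
  have hcard : S.card = 6 := hS.1
  obtain ⟨t₀, ht₀⟩ : S.Nonempty := by rw [← Finset.card_pos]; omega
  refine ⟨((c ∩ t₀).card : ℤ) % 2, by omega, fun t ht => ?_⟩
  by_cases h : t = t₀
  · subst h; unfold Int.ModEq; omega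
  · have := hpair t ht t₀ ht₀ h
    unfold Int.ModEq at *
    omega

theorem isLeech_xiMap (hS : S ∈ sextets) {T : Finset GolayPt} (hT : T ∈ S) {m : ℤ}
    {x : GolayPt → ℤ} (h : IsLeech m x) : ∃ n, IsLeech n (xiMap S T x) := by
  obtain ⟨τ, hτ⟩ := exists_tau hS h
  choose! k hk using hτ
  have hcard : S.card = 6 := hS.1
  have hsumx : ∀ c : Finset GolayPt, ∑ i ∈ c, xiMap S T x i =
      ∑ t ∈ S, (if t = T then -1 else 1) * (∑ i ∈ c ∩ t, x i - (c ∩ t).card * k t) := fun c => by
    rw [sum_sextet hS c]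
    exact Finset.sum_congr rfl fun t ht => sum_xiMap_on hS hT ht c x (hk t ht).1
  have hsplit : ∀ f : Finset GolayPt → ℤ, ∑ t ∈ S, (if t = T then -1 else 1) * f t =
      ∑ t ∈ S, f t - 2 * f T := fun f => by
    have e : ∀ t, (if t = T then -1 else 1) * f t = f t - (if t = T then 2 * f t else 0) := fun t => by
      split_ifs <;> ring
    simp only [e, Finset.sum_sub_distrib, Finset.sum_ite_eq', hT, if_true]
  have hX : ∑ i, x i = 2 * ∑ t ∈ S, k t := by
    rw [sum_sextet hS Finset.univ, Finset.mul_sum]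
    refine Finset.sum_congr rfl fun t ht => ?_
    rw [Finset.univ_inter]; exact (hk t ht).1
  refine ⟨m + τ, fun i => ?_, ?_, fun c hc => ?_⟩
  · obtain ⟨t, ht, hit⟩ := sextet_exists hS i
    have h2 : hsum S x i = k t := by
      unfold hsum; rw [tet_eq hS ht hit, (hk t ht).1]; omega
    have h3 := h.par i
    have h4 := (hk t ht).2
    rw [xiMap_apply, h2]
    unfold Int.ModEq at *
    split_ifs <;> omega
  · rw [hsumx, hsplit]
    have e1 : ∀ t ∈ S, ∑ i ∈ Finset.univ ∩ t, x i - ((Finset.univ ∩ t).card : ℤ) * k t = -2 * k t := by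
      intro t ht
      rw [Finset.univ_inter, (hk t ht).1, hS.2.1 t ht]; push_cast; ring
    rw [Finset.sum_congr rfl e1, e1 T hT, ← Finset.mul_sum]
    have h1 := h.sum
    rw [hX] at h1
    have h4 := (hk T hT).2
    unfold Int.ModEq at *
    omega
  · rw [hsumx, hsplit, Finset.sum_sub_distrib, ← sum_sextet hS c]
    have h1 := h.code c hc
    have h2 := sum_of_par h.par (c ∩ T)
    have h4 := (hk T hT).2
    obtain ⟨ε, hε, hεt⟩ := even_or_odd_inter hS hc
    choose! r hr using fun t (ht : t ∈ S) => (Int.modEq_iff_dvd.1 (hεt t ht).symm)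
    have hr' : ∀ t ∈ S, ((c ∩ t).card : ℤ) = ε + 2 * r t := fun t ht => by
      have := hr t ht; linarith
    choose! q hq using fun t (ht : t ∈ S) => (Int.modEq_iff_dvd.1 (hk t ht).2.symm)
    have hq' : ∀ t ∈ S, k t = τ + 2 * q t := fun t ht => by
      have := hq t ht; linarith
    have e1 : ∑ t ∈ S, ((c ∩ t).card : ℤ) * k t =
        ε * ∑ t ∈ S, k t + 2 * τ * ∑ t ∈ S, r t + 4 * ∑ t ∈ S, r t * q t := by
      rw [Finset.mul_sum, Finset.mul_sum, Finset.mul_sum, ← Finset.sum_add_distrib,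
        ← Finset.sum_add_distrib]
      refine Finset.sum_congr rfl fun t ht => ?_
      rw [hr' t ht]
      have := hq' t ht
      rw [this]; ring
    have e2 : (c.card : ℤ) = 6 * ε + 2 * ∑ t ∈ S, r t := by
      have : (c.card : ℤ) = ∑ t ∈ S, ((c ∩ t).card : ℤ) := by
        have := sum_sextet hS c (fun _ => (1 : ℤ))
        simpa using this
      rw [this, Finset.sum_congr rfl hr', Finset.sum_add_distrib, Finset.sum_const, hcard,
        ← Finset.mul_sum]
      simp
    have h5 := h.sum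
    rw [hX] at h5
    rw [e1, hr' T hT]
    rw [hr' T hT] at h2
    obtain ⟨l, hl⟩ := four_dvd_card hc
    rw [hl] at e2
    have h6 := hq' T hT
    rw [h6]
    unfold Int.ModEq at *
    generalize ∑ t ∈ S, k t = K at *
    generalize ∑ t ∈ S, r t = R at *
    generalize ∑ t ∈ S, r t * q t = Q at *
    generalize ∑ i ∈ c, x i = X at *
    generalize ∑ i ∈ c ∩ T, x i = Y at *
    generalize q T = qT at *
    generalize r T = rT at *
    push_cast at e2
    rcases hε with rfl | rfl
    · -- all intersections even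
      obtain ⟨R', hR'⟩ : ∃ R', R = 2 * R' := ⟨l, by omega⟩
      subst hR'
      have e3 : m * (0 + 2 * rT) = 2 * (m * rT) := by ring
      rw [e3] at h2
      have e4 : X - (0 * K + 2 * τ * (2 * R') + 4 * Q) - 2 * (Y - (0 + 2 * rT) * (τ + 2 * qT)) =
        X - 2 * Y + 4 * (-(τ * R') - Q + rT * (τ + 2 * qT)) := by ring
      rw [e4]
      generalize (-(τ * R') - Q + rT * (τ + 2 * qT)) = Z
      omega
    · obtain ⟨R', hR'⟩ : ∃ R', R = 2 * R' + 1 := ⟨(R - 1) / 2, by omega⟩
      subst hR'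
      have e3 : m * (1 + 2 * rT) = m + 2 * (m * rT) := by ring
      rw [e3] at h2
      have e4 : X - (1 * K + 2 * τ * (2 * R' + 1) + 4 * Q) -
          2 * (Y - (1 + 2 * rT) * (τ + 2 * qT)) =
        X - K - 2 * Y + 4 * (-(τ * R') - Q + rT * (τ + 2 * qT) + qT) := by ring
      rw [e4]
      generalize (-(τ * R') - Q + rT * (τ + 2 * qT) + qT) = Z
      omega

theorem xiMap_mem (hS : S ∈ sextets) {T : Finset GolayPt} (hT : T ∈ S) {x : GolayPt → ℤ}
    (hx : x ∈ leechLattice) : xiMap S T x ∈ leechLattice := by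
  obtain ⟨m, hm⟩ := (mem_leech_iff_isLeech x).1 hx
  obtain ⟨n, hn⟩ := isLeech_xiMap hS hT hm
  exact hn.mem

/-- The sum over the tetrad of `i` is twice `hsum`, for lattice vectors. -/
theorem two_mul_hsum (hS : S ∈ sextets) {x : GolayPt → ℤ} (hx : x ∈ leechLattice) (i : GolayPt) :
    ∑ j ∈ tet S i, x j = 2 * hsum S x i := by
  obtain ⟨m, hm⟩ := (mem_leech_iff_isLeech x).1 hx
  obtain ⟨τ, hτ⟩ := exists_tau hS hm
  obtain ⟨t, ht, hit⟩ := sextet_exists hS i
  obtain ⟨k, hk, -⟩ := hτ t ht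
  unfold hsum
  rw [tet_eq hS ht hit, hk]
  omega

theorem hsum_add (hS : S ∈ sextets) {x y : GolayPt → ℤ} (hx : x ∈ leechLattice)
    (hy : y ∈ leechLattice) (i : GolayPt) : hsum S (x + y) i = hsum S x i + hsum S y i := by
  have h1 := two_mul_hsum hS hx i
  have h2 := two_mul_hsum hS hy i
  have h3 := two_mul_hsum hS (leechLattice.add_mem hx hy) i
  simp only [Pi.add_apply, Finset.sum_add_distrib] at h3
  omega

theorem xiMap_add (hS : S ∈ sextets) (T : Finset GolayPt) {x y : GolayPt → ℤ}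
    (hx : x ∈ leechLattice) (hy : y ∈ leechLattice) :
    xiMap S T (x + y) = xiMap S T x + xiMap S T y := by
  funext i
  rw [Pi.add_apply, xiMap_apply, xiMap_apply, xiMap_apply, hsum_add hS hx hy, Pi.add_apply]
  split_ifs <;> ring

theorem hsum_xiMap (hS : S ∈ sextets) {T : Finset GolayPt} (hT : T ∈ S) {x : GolayPt → ℤ}
    (hx : x ∈ leechLattice) (i : GolayPt) :
    hsum S (xiMap S T x) i = if i ∈ T then hsum S x i else -hsum S x i := by
  obtain ⟨t, ht, hit⟩ := sextet_exists hS i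
  have h1 := two_mul_hsum hS hx i
  have h2 := two_mul_hsum hS (xiMap_mem hS hT hx) i
  rw [tet_eq hS ht hit] at h1 h2
  have h3 := sum_xiMap_on hS hT ht Finset.univ x h1
  rw [Finset.univ_inter, hS.2.1 t ht, h2, h1] at h3
  by_cases htT : t = T
  · subst htT
    rw [if_pos rfl] at h3
    rw [if_pos hit]
    push_cast at h3
    omega
  · have : i ∉ T := fun hiT => htT (sextet_unique hS ht hT hit hiT)
    rw [if_neg htT] at h3
    rw [if_neg this]
    push_cast at h3
    omega

theorem xiMap_xiMap (hS : S ∈ sextets) {T : Finset GolayPt} (hT : T ∈ S) {x : GolayPt → ℤ}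
    (hx : x ∈ leechLattice) : xiMap S T (xiMap S T x) = x := by
  funext i
  rw [xiMap_apply S T (xiMap S T x), hsum_xiMap hS hT hx, xiMap_apply]
  split_ifs <;> ring

theorem sqNorm_xiMap (hS : S ∈ sextets) {T : Finset GolayPt} (hT : T ∈ S) {x : GolayPt → ℤ}
    (hx : x ∈ leechLattice) : sqNorm (xiMap S T x) = sqNorm x := by
  unfold sqNorm
  have _ := hT
  rw [sum_sextet hS Finset.univ, sum_sextet hS Finset.univ]
  refine Finset.sum_congr rfl fun t ht => ?_
  rw [Finset.univ_inter]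
  have hcard := hS.2.1 t ht
  obtain ⟨i₀, hi₀⟩ : t.Nonempty := by rw [← Finset.card_pos]; omega
  have h1 := two_mul_hsum hS hx i₀
  rw [tet_eq hS ht hi₀] at h1
  have h2 : ∀ i ∈ t, hsum S x i = hsum S x i₀ := fun i hi => by
    unfold hsum; rw [tet_eq hS ht hi, tet_eq hS ht hi₀]
  generalize hsum S x i₀ = k at *
  have h3 : ∀ i ∈ t, xiMap S T x i ^ 2 = x i ^ 2 - 2 * k * x i + k ^ 2 := fun i hi => by
    rw [xiMap_apply, h2 i hi]; split_ifs <;> ring
  rw [Finset.sum_congr rfl h3, Finset.sum_add_distrib, Finset.sum_sub_distrib, ← Finset.mul_sum, h1,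
    Finset.sum_const, hcard]
  simp
  ring

/-- Conway's map attached to a sextet `S` and a tetrad `T ∈ S`, as an element of `Co0`. -/
def xi (S : Finset (Finset GolayPt)) (T : Finset GolayPt) (hS : S ∈ sextets) (hT : T ∈ S) : ↥Co0 :=
  mkCo0 (xiMap S T) (xiMap S T) (fun _ hx => xiMap_mem hS hT hx) (fun _ hx => xiMap_mem hS hT hx)
    (fun _ hx => xiMap_xiMap hS hT hx) (fun _ hx => xiMap_xiMap hS hT hx)
    (fun _ hx _ hy => xiMap_add hS T hx hy) (fun _ hx => sqNorm_xiMap hS hT hx)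

theorem xi_coe (S : Finset (Finset GolayPt)) (T : Finset GolayPt) (hS : S ∈ sextets) (hT : T ∈ S)
    (v : leechLattice) : ((xi S T hS hT • v : leechLattice) : GolayPt → ℤ) = xiMap S T v := rfl

end Cfsg.Agent.Leech.Xi
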