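import Cfsg.Agent.Leech.Min
import Cfsg.Agent.Leech.Xi

/-!
`Co0` is transitive on the vectors of norm 32, and the stabiliser of such a vector `v` is
transitive on the norm-32 vectors `w` with inner product `-16` with `v`. Only sign changes on code
words and Conway's maps are used.
-/

set_option autoImplicit false

namespace Cfsg.Agent.Leech.Trans

open Cfsg Cfsg.Agent.Leech.Code Cfsg.Agent.Leech.Basic Cfsg.Agent.Leech.Co0Elts
  Cfsg.Agent.Leech.Xi Cfsg.Agent.Leech.Min

/-! ### Moves -/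

/-- `x` can be moved to `y` by an element of `Co0` fixing `v`. -/
def E (v x y : leechLattice) : Prop := ∃ g : ↥Co0, g • v = v ∧ g • x = y

theorem E.refl (v x : leechLattice) : E v x x := ⟨1, one_smul _ _, one_smul _ _⟩

theorem E.symm {v x y : leechLattice} (h : E v x y) : E v y x := by
  obtain ⟨g, hg, rfl⟩ := h
  exact ⟨g⁻¹, by rw [inv_smul_eq_iff]; exact hg.symm, inv_smul_smul g x⟩

theorem E.trans {v x y z : leechLattice} (h : E v x y) (h' : E v y z) : E v x z := by
  obtain ⟨g, hg, rfl⟩ := h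
  obtain ⟨g', hg', rfl⟩ := h'
  exact ⟨g' * g, by rw [mul_smul, hg, hg'], mul_smul _ _ _⟩

theorem E.sqNorm_eq {v x y : leechLattice} (h : E v x y) :
    sqNorm (y : GolayPt → ℤ) = sqNorm (x : GolayPt → ℤ) := by
  obtain ⟨g, -, rfl⟩ := h
  exact sqNorm_smul g x

theorem E.dot_eq {v x y : leechLattice} (h : E v x y) :
    dotInt (v : GolayPt → ℤ) (y : GolayPt → ℤ) = dotInt (v : GolayPt → ℤ) (x : GolayPt → ℤ) := by
  obtain ⟨g, hg, rfl⟩ := h
  rw [← dotInt_smul g v x, hg]

theorem smul_zero_co0 (g : ↥Co0) : g • (0 : leechLattice) = 0 := by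
  have := smul_add_co0 g 0 0
  rw [add_zero] at this
  simpa using this

/-- For every 4-set `T` there is an element of `Co0` acting on the coordinates in `T` by
subtracting half the sum over `T`, and preserving the set of vectors supported in `T`. -/
theorem exists_xi (T : Finset GolayPt) (hT : T.card = 4) : ∃ g : ↥Co0,
    (∀ v : leechLattice, ∀ i ∈ T, ((g • v : leechLattice) : GolayPt → ℤ) i =
      (v : GolayPt → ℤ) i - (∑ j ∈ T, (v : GolayPt → ℤ) j) / 2) ∧
    (∀ v : leechLattice, (∀ i, i ∉ T → (v : GolayPt → ℤ) i = 0) →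
      ∀ i, i ∉ T → ((g • v : leechLattice) : GolayPt → ℤ) i = 0) := by
  obtain ⟨S, hS, hTS⟩ := exists_sextet T hT
  have hcard : S.card = 6 := hS.1
  obtain ⟨T', hT'⟩ : (S.erase T).Nonempty := by
    rw [← Finset.card_pos, Finset.card_erase_of_mem hTS]; omega
  rw [Finset.mem_erase] at hT'
  refine ⟨xi S T' hS hT'.2, fun v i hi => ?_, fun v hv i hi => ?_⟩
  · rw [xi_coe, xiMap_apply]
    have hiT' : i ∉ T' := fun h => hT'.1 (sextet_unique hS hT'.2 hTS h hi)
    rw [if_neg hiT']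
    unfold hsum
    rw [tet_eq hS hTS hi]
  · rw [xi_coe, xiMap_apply]
    obtain ⟨t, ht, hit⟩ := sextet_exists hS i
    have htT : t ≠ T := fun h => hi (h ▸ hit)
    have h0 : hsum S (v : GolayPt → ℤ) i = 0 := by
      unfold hsum
      rw [tet_eq hS ht hit, Finset.sum_eq_zero]
      · rfl
      · intro j hj
        refine hv j fun hjT => htT (sextet_unique hS ht hTS hj hjT)
    rw [h0, hv i hi]
    split_ifs <;> rfl

theorem E_xi {v : leechLattice} (x : leechLattice) {T : Finset GolayPt} (hT : T.card = 4)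
    (hv0 : ∀ i, i ∉ T → (v : GolayPt → ℤ) i = 0) (hvs : ∑ i ∈ T, (v : GolayPt → ℤ) i = 0) :
    ∃ y : leechLattice, E v x y ∧ (∀ i ∈ T, (y : GolayPt → ℤ) i =
      (x : GolayPt → ℤ) i - (∑ j ∈ T, (x : GolayPt → ℤ) j) / 2) ∧
      ((∀ i, i ∉ T → (x : GolayPt → ℤ) i = 0) → ∀ i, i ∉ T → (y : GolayPt → ℤ) i = 0) := by
  obtain ⟨g, hg1, hg2⟩ := exists_xi T hT
  refine ⟨g • x, ⟨g, ?_, rfl⟩, hg1 x, hg2 x⟩
  apply Subtype.ext
  funext i
  by_cases hi : i ∈ T
  · rw [hg1 v i hi, hvs]; simp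
  · rw [hg2 v hv0 i hi, hv0 i hi]

theorem E_sgn {v : leechLattice} (x : leechLattice) {D : Finset GolayPt} (hD : D ∈ Words)
    (hv : ∀ i ∈ D, (v : GolayPt → ℤ) i = 0) :
    ∃ y : leechLattice, E v x y ∧ ∀ i, (y : GolayPt → ℤ) i =
      if i ∈ D then -(x : GolayPt → ℤ) i else (x : GolayPt → ℤ) i := by
  refine ⟨sgn D hD • x, ⟨sgn D hD, ?_, rfl⟩, fun i => rfl⟩
  apply Subtype.ext
  funext i
  rw [sgn_coe, sgnMap_apply]
  split_ifs with hi
  · rw [hv i hi]; rfl
  · rfl

/-- A code word through a given point and avoiding a given set of at most four points. -/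
theorem exists_word (k : GolayPt) (s : Finset GolayPt) (hs : s.card ≤ 4) (hk : k ∉ s) :
    ∃ D ∈ Words, k ∈ D ∧ ∀ i ∈ s, i ∉ D := by
  obtain ⟨T, hsT, hTu, hT4⟩ := Finset.exists_subsuperset_card_eq (s := s)
    (t := Finset.univ.erase k) (n := 4)
    (fun i hi => Finset.mem_erase.2 ⟨fun h => hk (h ▸ hi), Finset.mem_univ i⟩) hs
    (by rw [Finset.card_erase_of_mem (Finset.mem_univ k), Finset.card_univ, card_golayPt]; decide)
  have hkT : k ∉ T := fun h => (Finset.mem_erase.1 (hTu h)).1 rfl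
  obtain ⟨S, hS, hTS⟩ := exists_sextet T hT4
  obtain ⟨t, ht, hkt⟩ := sextet_exists hS k
  have htT : t ≠ T := fun h => hkT (h ▸ hkt)
  have hcard : S.card = 6 := hS.1
  obtain ⟨u, hu⟩ : ((S.erase T).erase t).Nonempty := by
    rw [← Finset.card_pos]
    have h1 : (S.erase T).card = 5 := by rw [Finset.card_erase_of_mem hTS, hcard]
    have h2 : (S.erase T).card - 1 ≤ ((S.erase T).erase t).card := Finset.pred_card_le_card_erase
    omega
  rw [Finset.mem_erase, Finset.mem_erase] at hu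
  refine ⟨t ∪ u, octads_words (hS.2.2 t ht u hu.2.2 hu.1.symm), Finset.mem_union_left _ hkt,
    fun i hi hiD => ?_⟩
  rcases Finset.mem_union.1 hiD with h | h
  · exact htT (sextet_unique hS ht hTS h (hsT hi))
  · exact hu.2.1 (sextet_unique hS hu.2.2 hTS h (hsT hi))

theorem card_four {p q k l : GolayPt} (hpq : p ≠ q) (hpk : p ≠ k) (hpl : p ≠ l) (hqk : q ≠ k)
    (hql : q ≠ l) (hkl : k ≠ l) : ({p, q, k, l} : Finset GolayPt).card = 4 := by
  rw [Finset.card_insert_of_notMem, Finset.card_insert_of_notMem, Finset.card_insert_of_notMem,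
    Finset.card_singleton]
  · simpa using hkl
  · simpa using ⟨hqk, hql⟩
  · simpa using ⟨hpq, hpk, hpl⟩

theorem sum_four {p q k l : GolayPt} (hpq : p ≠ q) (hpk : p ≠ k) (hpl : p ≠ l) (hqk : q ≠ k)
    (hql : q ≠ l) (hkl : k ≠ l) (f : GolayPt → ℤ) :
    ∑ i ∈ ({p, q, k, l} : Finset GolayPt), f i = f p + f q + f k + f l := by
  rw [Finset.sum_insert, Finset.sum_insert, Finset.sum_insert, Finset.sum_singleton]
  · ring
  · simpa using hkl
  · simpa using ⟨hqk, hql⟩
  · simpa using ⟨hpq, hpk, hpl⟩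

/-- A point outside a set of at most 23 points. -/
theorem exists_notMem (s : Finset GolayPt) (hs : s.card < 24) : ∃ k, k ∉ s := by
  by_contra h
  push Not at h
  have : s = Finset.univ := Finset.eq_univ_of_forall h
  rw [this, Finset.card_univ, card_golayPt] at hs
  exact absurd hs (by decide)

/-! ### The vectors with two coordinates `±4` -/

/-- The function with value `a` at `p`, `b` at `q`, zero elsewhere. -/
def two (p q : GolayPt) (a b : ℤ) : GolayPt → ℤ := fun i => if i = p then a else if i = q then b else 0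

theorem two_left (p q : GolayPt) (a b : ℤ) : two p q a b p = a := if_pos rfl

theorem two_right {p q : GolayPt} (h : p ≠ q) (a b : ℤ) : two p q a b q = b := by
  unfold two; rw [if_neg h.symm, if_pos rfl]

theorem two_other {p q i : GolayPt} (hp : i ≠ p) (hq : i ≠ q) (a b : ℤ) : two p q a b i = 0 := by
  unfold two; rw [if_neg hp, if_neg hq]

theorem two_swap {p q : GolayPt} (h : p ≠ q) (a b : ℤ) : two p q a b = two q p b a := by
  funext i
  by_cases hp : i = p
  · subst hp; rw [two_left, two_right h.symm]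
  · by_cases hq : i = q
    · subst hq; rw [two_left, two_right h]
    · rw [two_other hp hq, two_other hq hp]

theorem type4_two {p q : GolayPt} (h : p ≠ q) {a b : ℤ} (ha : a = 4 ∨ a = -4) (hb : b = 4 ∨ b = -4) :
    Type4 (two p q a b) :=
  ⟨p, q, h, by rwa [two_left], by rwa [two_right h], fun _ hp hq => two_other hp hq a b⟩

/-- `two p q a b` as a lattice vector. -/
def lv (p q : GolayPt) (a b : ℤ) (h : p ≠ q) (ha : a = 4 ∨ a = -4) (hb : b = 4 ∨ b = -4) :
    leechLattice := ⟨two p q a b, (isLeech_of_type4 (type4_two h ha hb)).mem⟩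

theorem lv_coe (p q : GolayPt) (a b : ℤ) (h : p ≠ q) (ha : a = 4 ∨ a = -4)
    (hb : b = 4 ∨ b = -4) : (lv p q a b h ha hb : GolayPt → ℤ) = two p q a b := rfl

theorem sqNorm_lv (p q : GolayPt) (a b : ℤ) (h : p ≠ q) (ha : a = 4 ∨ a = -4)
    (hb : b = 4 ∨ b = -4) : sqNorm (lv p q a b h ha hb : GolayPt → ℤ) = 32 :=
  sqNorm_of_type4 (type4_two h ha hb)

theorem dotInt_two {p q : GolayPt} (h : p ≠ q) (a b : ℤ) (x : GolayPt → ℤ) :
    dotInt (two p q a b) x = a * x p + b * x q := by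
  unfold dotInt
  rw [Finset.sum_eq_add p q h]
  · rw [two_left, two_right h]
  · intro i _ hi; rw [two_other hi.1 hi.2, zero_mul]
  · intro h'; exact absurd (Finset.mem_univ _) h'
  · intro h'; exact absurd (Finset.mem_univ _) h'

/-- Every vector of type 4 is of the form `two p q a b`. -/
theorem eq_two_of_type4 {x : GolayPt → ℤ} (h : Type4 x) : ∃ p q, p ≠ q ∧ ∃ a b,
    (a = 4 ∨ a = -4) ∧ (b = 4 ∨ b = -4) ∧ x = two p q a b := by
  obtain ⟨p, q, hpq, hp, hq, h0⟩ := h
  refine ⟨p, q, hpq, x p, x q, hp, hq, ?_⟩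
  funext i
  by_cases hip : i = p
  · subst hip; rw [two_left]
  · by_cases hiq : i = q
    · subst hiq; rw [two_right hpq]
    · rw [two_other hip hiq, h0 i hip hiq]

/-! ### The general steps -/

/-- From odd to even: it suffices to have a 4-set containing the support of `v`, on which `v` has
sum 0. -/
theorem step_odd {v x : leechLattice} {T : Finset GolayPt} (hT : T.card = 4)
    (hv0 : ∀ i, i ∉ T → (v : GolayPt → ℤ) i = 0) (hvs : ∑ i ∈ T, (v : GolayPt → ℤ) i = 0)
    {i : GolayPt} (hi : i ∈ T) (hodd : (x : GolayPt → ℤ) i % 2 = 1)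
    (hs : (∑ j ∈ T, (x : GolayPt → ℤ) j) % 4 = 2) :
    ∃ y : leechLattice, E v x y ∧ (y : GolayPt → ℤ) i % 2 = 0 := by
  obtain ⟨y, hE, hy, -⟩ := E_xi x hT hv0 hvs
  refine ⟨y, hE, ?_⟩
  rw [hy i hi]
  omega

/-- From type 2 to type 4. -/
theorem step_two {v x : leechLattice} (hx : sqNorm (x : GolayPt → ℤ) = 32) {p q k l : GolayPt}
    (hpq : p ≠ q) (hpk : p ≠ k) (hpl : p ≠ l) (hqk : q ≠ k) (hql : q ≠ l) (hkl : k ≠ l)
    (hv0 : ∀ i, i ∉ ({p, q, k, l} : Finset GolayPt) → (v : GolayPt → ℤ) i = 0)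
    (hvs : ∑ i ∈ ({p, q, k, l} : Finset GolayPt), (v : GolayPt → ℤ) i = 0)
    (hp : (x : GolayPt → ℤ) p = 2 ∨ (x : GolayPt → ℤ) p = -2)
    (hqp : (x : GolayPt → ℤ) q = -(x : GolayPt → ℤ) p)
    (hk : (x : GolayPt → ℤ) k = 2 ∨ (x : GolayPt → ℤ) k = -2)
    (hl : (x : GolayPt → ℤ) l = (x : GolayPt → ℤ) k) :
    ∃ y : leechLattice, E v x y ∧ Type4 (y : GolayPt → ℤ) := by
  obtain ⟨y, hE, hy, -⟩ := E_xi x (card_four hpq hpk hpl hqk hql hkl) hv0 hvs
  refine ⟨y, hE, ?_⟩
  rw [sum_four hpq hpk hpl hqk hql hkl] at hy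
  have hn : sqNorm (y : GolayPt → ℤ) = 32 := by rw [hE.sqNorm_eq, hx]
  have h1 := hy p (by simp)
  have h2 := hy q (by simp)
  have : ((y : GolayPt → ℤ) p = 4 ∨ (y : GolayPt → ℤ) p = -4) ∨
      ((y : GolayPt → ℤ) q = 4 ∨ (y : GolayPt → ℤ) q = -4) := by
    rw [hqp, hl] at h1 h2
    rcases hp with hp | hp <;> rcases hk with hk | hk <;> rw [hp, hk] at h1 h2 <;> omega
  rcases this with h | h
  · exact type4_of_coord y.2 hn h
  · exact type4_of_coord y.2 hn h

/-- Among three values `±2`, two are equal. -/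
theorem exists_eq_pair {x : GolayPt → ℤ} {B : Finset GolayPt} (hB : 3 ≤ B.card)
    (h2 : ∀ i ∈ B, x i = 2 ∨ x i = -2) : ∃ k ∈ B, ∃ l ∈ B, k ≠ l ∧ x l = x k := by
  obtain ⟨k, hk, l, hl, hkl, h⟩ := Finset.exists_ne_map_eq_of_card_lt_of_maps_to
    (s := B) (t := ({2, -2} : Finset ℤ)) (f := x)
    (by
      have : ({2, -2} : Finset ℤ).card ≤ 2 := Finset.card_le_two
      omega)
    (fun i hi => by
      have := h2 i hi
      simpa using this)
  exact ⟨k, hk, l, hl, hkl, h.symm⟩

/-! ### Transitivity on minimal vectors -/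

/-- Sign of one coordinate can be flipped while fixing up to four others. -/
theorem flip_one {v : leechLattice} (x : leechLattice) (k : GolayPt) (s : Finset GolayPt)
    (hs : s.card ≤ 4) (hk : k ∉ s) (hv : ∀ i, i ∉ s → (v : GolayPt → ℤ) i = 0) :
    ∃ y : leechLattice, E v x y ∧ (y : GolayPt → ℤ) k = -(x : GolayPt → ℤ) k ∧
      (∀ i ∈ s, (y : GolayPt → ℤ) i = (x : GolayPt → ℤ) i) ∧
      ∀ i, (x : GolayPt → ℤ) i = 0 → (y : GolayPt → ℤ) i = 0 := by
  obtain ⟨D, hD, hkD, hDs⟩ := exists_word k s hs hk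
  obtain ⟨y, hE, hy⟩ := E_sgn (v := v) x hD (fun i hi => hv i fun his => hDs i his hi)
  refine ⟨y, hE, ?_, fun i hi => ?_, fun i hi => ?_⟩
  · rw [hy k, if_pos hkD]
  · rw [hy i, if_neg (hDs i hi)]
  · rw [hy i, hi]; split_ifs <;> rfl

theorem zero_coe (i : GolayPt) : ((0 : leechLattice) : GolayPt → ℤ) i = 0 := rfl

/-- Every minimal vector can be moved to one of type 4. -/
theorem exists_type4 (x : leechLattice) (hx : sqNorm (x : GolayPt → ℤ) = 32) :
    ∃ y : leechLattice, E 0 x y ∧ Type4 (y : GolayPt → ℤ) := by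
  -- first the case of even vectors
  have heven : ∀ x : leechLattice, sqNorm (x : GolayPt → ℤ) = 32 →
      (∃ i, (x : GolayPt → ℤ) i % 2 = 0) → ∃ y : leechLattice, E 0 x y ∧ Type4 (y : GolayPt → ℤ) := by
    intro x hx ⟨i, hi⟩
    rcases type2_or_type4_of_coord x.2 hx hi with h | h
    · exact ⟨x, E.refl _ _, h⟩
    obtain ⟨A, hA, h2, h0, -⟩ := h
    have h8 : A.card = 8 := hA.2
    obtain ⟨p, hp, q, hq, hpq⟩ := Finset.one_lt_card.1 (show 1 < A.card by omega)
    -- make the signs at `p` and `q` different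
    obtain ⟨x', hE, hx'pq, hx'2⟩ : ∃ x' : leechLattice, E 0 x x' ∧
        (x' : GolayPt → ℤ) q = -(x' : GolayPt → ℤ) p ∧
        ∀ i ∈ A, (x' : GolayPt → ℤ) i = 2 ∨ (x' : GolayPt → ℤ) i = -2 := by
      by_cases hne : (x : GolayPt → ℤ) q = -(x : GolayPt → ℤ) p
      · exact ⟨x, E.refl _ _, hne, h2⟩
      · obtain ⟨D, hD, hqD, hpD⟩ := exists_word q {p} (by simp) (by simpa using hpq.symm)
        obtain ⟨y, hE, hy⟩ := E_sgn (v := 0) x hD (fun i _ => zero_coe i)
        refine ⟨y, hE, ?_, fun i hi => ?_⟩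
        · rw [hy q, hy p, if_pos hqD, if_neg (hpD p (by simp))]
          rcases h2 p hp with h | h <;> rcases h2 q hq with h' | h' <;> rw [h, h'] at hne <;>
            first | (exfalso; apply hne; norm_num; done) | rw [h, h']
        · rw [hy i]
          rcases h2 i hi with h | h <;> split_ifs <;> rw [h] <;> norm_num
    obtain ⟨k, hk, l, hl, hkl, hlk⟩ := exists_eq_pair (x := (x' : GolayPt → ℤ))
      (B := (A.erase p).erase q) (by
        have h1 : (A.erase p).card = 7 := by rw [Finset.card_erase_of_mem hp, h8]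
        have h2 : (A.erase p).card - 1 ≤ ((A.erase p).erase q).card :=
          Finset.pred_card_le_card_erase
        omega)
      (fun i hi => hx'2 i (Finset.mem_of_mem_erase (Finset.mem_of_mem_erase hi)))
    rw [Finset.mem_erase, Finset.mem_erase] at hk hl
    obtain ⟨y, hE', hy⟩ := step_two (v := 0) (x := x') (by rw [hE.sqNorm_eq, hx]) hpq
      hk.2.1.symm hl.2.1.symm hk.1.symm hl.1.symm hkl (fun i _ => zero_coe i)
      (Finset.sum_eq_zero fun i _ => zero_coe i) (hx'2 p hp) hx'pq (hx'2 k hk.2.2) hlk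
    exact ⟨y, hE.trans hE', hy⟩
  by_cases hi : ∃ i, (x : GolayPt → ℤ) i % 2 = 0
  · exact heven x hx hi
  push Not at hi
  have hodd : ∀ i, (x : GolayPt → ℤ) i % 2 = 1 := fun i => by have := hi i; omega
  obtain ⟨T, hT⟩ : ∃ T : Finset GolayPt, T.card = 4 := by
    obtain ⟨T, -, hT⟩ := Finset.exists_subset_card_eq
      (show 4 ≤ (Finset.univ : Finset GolayPt).card by rw [Finset.card_univ, card_golayPt]; decide)
    exact ⟨T, hT⟩
  obtain ⟨k, hk⟩ : T.Nonempty := by rw [← Finset.card_pos]; omega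
  -- make the sum over `T` congruent to 2 modulo 4
  have hTe : (T.erase k).card = 3 := by rw [Finset.card_erase_of_mem hk, hT]
  have hsplit : ∀ y : leechLattice, ∑ j ∈ T, (y : GolayPt → ℤ) j =
      (y : GolayPt → ℤ) k + ∑ j ∈ T.erase k, (y : GolayPt → ℤ) j := fun y =>
    (Finset.add_sum_erase T _ hk).symm
  have hpar3 : (∑ j ∈ T.erase k, (x : GolayPt → ℤ) j) % 2 = 1 := by
    have h1 := sum_of_par (m := 1) (x := (x : GolayPt → ℤ))
      (fun i => by unfold Int.ModEq; have := hodd i; omega) (T.erase k)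
    rw [hTe] at h1
    unfold Int.ModEq at h1
    push_cast at h1
    omega
  obtain ⟨x', hE, hodd', hs'⟩ : ∃ x' : leechLattice, E 0 x x' ∧ (x' : GolayPt → ℤ) k % 2 = 1 ∧
      (∑ j ∈ T, (x' : GolayPt → ℤ) j) % 4 = 2 := by
    by_cases h4 : (∑ j ∈ T, (x : GolayPt → ℤ) j) % 4 = 2
    · exact ⟨x, E.refl _ _, hodd k, h4⟩
    · obtain ⟨y, hE, hyk, hys, -⟩ := flip_one (v := 0) x k (T.erase k) (by omega)
        (by simp) (fun i _ => zero_coe i)
      refine ⟨y, hE, ?_, ?_⟩
      · rw [hyk]; have := hodd k; omega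
      · have e : ∑ j ∈ T.erase k, (y : GolayPt → ℤ) j = ∑ j ∈ T.erase k, (x : GolayPt → ℤ) j :=
          Finset.sum_congr rfl hys
        rw [hsplit] at h4 ⊢
        rw [hyk, e]
        have := hodd k
        generalize ∑ j ∈ T.erase k, (x : GolayPt → ℤ) j = s at *
        omega
  obtain ⟨y, hE', hy⟩ := step_odd (v := 0) (x := x') hT (fun i _ => zero_coe i)
    (Finset.sum_eq_zero fun i _ => zero_coe i) hk hodd' hs'
  obtain ⟨z, hE'', hz⟩ := heven y (by rw [hE'.sqNorm_eq, hE.sqNorm_eq, hx]) ⟨k, hy⟩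
  exact ⟨z, (hE.trans hE').trans hE'', hz⟩

theorem four_or : (4 : ℤ) = 4 ∨ (4 : ℤ) = -4 := Or.inl rfl

theorem neg_four_or : (-4 : ℤ) = 4 ∨ (-4 : ℤ) = -4 := Or.inr rfl

/-- The signs of a type 4 vector can be made positive. -/
theorem lv_pos {p q : GolayPt} (h : p ≠ q) {a b : ℤ} (ha : a = 4 ∨ a = -4) (hb : b = 4 ∨ b = -4) :
    E 0 (lv p q a b h ha hb) (lv p q 4 4 h four_or four_or) := by
  -- first make the sign at `p` positive, then at `q`
  have key : ∀ (p q : GolayPt) (h : p ≠ q) (b : ℤ) (hb : b = 4 ∨ b = -4),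
      E 0 (lv p q (-4) b h neg_four_or hb) (lv p q 4 b h four_or hb) := by
    intro p q h b hb
    obtain ⟨y, hE, hy1, hy2, hy3⟩ := flip_one (v := 0) (lv p q (-4) b h neg_four_or hb) p {q}
      (by simp) (by simpa using h) (fun i _ => zero_coe i)
    have : y = lv p q 4 b h four_or hb := by
      apply Subtype.ext
      funext i
      by_cases hip : i = p
      · subst hip; rw [hy1, lv_coe, lv_coe, two_left, two_left]; rfl
      · by_cases hiq : i = q
        · subst hiq; rw [hy2 _ (by simp), lv_coe, lv_coe, two_right h, two_right h]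
        · rw [hy3 i (by rw [lv_coe, two_other hip hiq]), lv_coe, two_other hip hiq]
    rwa [this] at hE
  have h1 : E 0 (lv p q a b h ha hb) (lv p q 4 b h four_or hb) := by
    rcases ha with rfl | rfl
    · exact E.refl _ _
    · exact key p q h b hb
  have h2 : E 0 (lv p q 4 b h four_or hb) (lv p q 4 4 h four_or four_or) := by
    rcases hb with rfl | rfl
    · exact E.refl _ _
    · have h3 := key q p h.symm 4 four_or
      have e1 : lv q p (-4) 4 h.symm neg_four_or four_or = lv p q 4 (-4) h four_or neg_four_or :=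
        Subtype.ext (two_swap h.symm _ _)
      have e2 : lv q p 4 4 h.symm four_or four_or = lv p q 4 4 h four_or four_or :=
        Subtype.ext (two_swap h.symm _ _)
      rwa [e1, e2] at h3
  exact h1.trans h2

/-- Disjoint pairs. -/
theorem lv_disjoint {p q k l : GolayPt} (hpq : p ≠ q) (hpk : p ≠ k) (hpl : p ≠ l) (hqk : q ≠ k)
    (hql : q ≠ l) (hkl : k ≠ l) :
    E 0 (lv p q 4 4 hpq four_or four_or) (lv k l 4 4 hkl four_or four_or) := by
  obtain ⟨y, hE, hy1, hy2⟩ := E_xi (v := 0) (lv p q 4 4 hpq four_or four_or)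
    (card_four hpq hpk hpl hqk hql hkl) (fun i _ => zero_coe i)
    (Finset.sum_eq_zero fun i _ => zero_coe i)
  rw [sum_four hpq hpk hpl hqk hql hkl, lv_coe, two_left, two_right hpq,
    two_other hpk.symm hqk.symm, two_other hpl.symm hql.symm] at hy1
  have : y = lv k l (-4) (-4) hkl neg_four_or neg_four_or := by
    apply Subtype.ext
    funext i
    rw [lv_coe]
    by_cases hik : i = k
    · subst hik
      rw [hy1 i (by simp), two_left, two_other hpk.symm hqk.symm]; rfl
    · by_cases hil : i = l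
      · subst hil
        rw [hy1 i (by simp), two_right hkl, two_other hpl.symm hql.symm]; rfl
      · rw [two_other hik hil]
        by_cases hip : i = p
        · subst hip
          rw [hy1 i (by simp), two_left]; rfl
        · by_cases hiq : i = q
          · subst hiq
            rw [hy1 i (by simp), two_right hpq]; rfl
          · refine hy2 (fun j hj => ?_) i (by simp [hip, hiq, hik, hil])
            rw [lv_coe, two_other]
            · rintro rfl; exact hj (by simp)
            · rintro rfl; exact hj (by simp)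
  rw [this] at hE
  exact hE.trans (lv_pos hkl neg_four_or neg_four_or)

theorem lv_any {p q p' q' : GolayPt} (hpq : p ≠ q) (hpq' : p' ≠ q') :
    E 0 (lv p q 4 4 hpq four_or four_or) (lv p' q' 4 4 hpq' four_or four_or) := by
  obtain ⟨k, hk⟩ := exists_notMem {p, q, p', q'} (lt_of_le_of_lt Finset.card_le_four (by decide))
  obtain ⟨l, hl⟩ := exists_notMem {k, p, q, p', q'} (lt_of_le_of_lt Finset.card_le_five (by decide))
  simp only [Finset.mem_insert, Finset.mem_singleton, not_or] at hk hl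
  have h1 := lv_disjoint hpq (Ne.symm hk.1) (Ne.symm hl.2.1) (Ne.symm hk.2.1) (Ne.symm hl.2.2.1)
    (Ne.symm hl.1)
  have h2 := lv_disjoint hpq' (Ne.symm hk.2.2.1) (Ne.symm hl.2.2.2.1) (Ne.symm hk.2.2.2)
    (Ne.symm hl.2.2.2.2) (Ne.symm hl.1)
  exact h1.trans h2.symm

theorem min_equiv (v w : leechLattice) (hv : sqNorm (v : GolayPt → ℤ) = 32)
    (hw : sqNorm (w : GolayPt → ℤ) = 32) : E 0 v w := by
  have key : ∀ x : leechLattice, sqNorm (x : GolayPt → ℤ) = 32 →
      ∃ p q, ∃ h : p ≠ q, E 0 x (lv p q 4 4 h four_or four_or) := by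
    intro x hx
    obtain ⟨y, hE, hy⟩ := exists_type4 x hx
    obtain ⟨p, q, hpq, a, b, ha, hb, e⟩ := eq_two_of_type4 hy
    have : y = lv p q a b hpq ha hb := Subtype.ext e
    rw [this] at hE
    exact ⟨p, q, hpq, hE.trans (lv_pos hpq ha hb)⟩
  obtain ⟨p, q, hpq, h1⟩ := key v hv
  obtain ⟨p', q', hpq', h2⟩ := key w hw
  exact (h1.trans (lv_any hpq hpq')).trans h2.symm

/-- `Co0` is transitive on the vectors of norm 32. -/
theorem co0_transitive_min (v w : leechLattice) (hv : sqNorm (v : GolayPt → ℤ) = 32)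
    (hw : sqNorm (w : GolayPt → ℤ) = 32) : ∃ g : ↥Co0, g • v = w := by
  obtain ⟨g, -, h⟩ := min_equiv v w hv hw
  exact ⟨g, h⟩

end Cfsg.Agent.Leech.Trans
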