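import Cfsg.Agent.Leech.Dot16
import Cfsg.Agent.SporadicA.GolayBase

set_option autoImplicit false

open Cfsg

namespace Cfsg.Agent.Leech.Dot16Count

open Finset Cfsg.Agent.SporadicA.GolayBase Cfsg.Agent.Leech.Dot16

theorem weightsOK : WeightsOK := fun _ hc => card_of_mem_supports hc

/-- counting a family of codewords cut out by a Boolean test on masks -/
theorem ncard_code (P : ℕ → Bool) (S : Set (Finset GolayPt))
    (hS : ∀ s, s ∈ S ↔ isCode (maskOf s) = true ∧ P (maskOf s) = true) :
    S.ncard = (List.range 4096).countP (fun i => P (enc i)) := by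
  have h1 : S = (((Finset.range 4096).filter fun i => P (enc i) = true).image
      (fun i => fin (enc i)) : Finset (Finset GolayPt)) := by
    ext s
    rw [hS, Finset.mem_coe, Finset.mem_image]
    constructor
    · rintro ⟨h, hP⟩
      obtain ⟨i, hi, hi'⟩ := isCode_iff_exists.1 h
      exact ⟨i, Finset.mem_filter.2 ⟨Finset.mem_range.2 hi, by rw [← hi']; exact hP⟩,
        by rw [← hi', fin_maskOf]⟩
    · rintro ⟨i, hi, rfl⟩
      rw [maskOf_fin (enc_lt i)]
      exact ⟨isCode_enc i, (Finset.mem_filter.1 hi).2⟩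
  rw [h1, Set.ncard_coe_finset, Finset.card_image_of_injOn]
  · rw [Finset.card_def, Finset.filter_val, Finset.range_val, ← Multiset.countP_eq_card_filter]
    have h2 : ∀ n, Multiset.countP (fun i => P (enc i) = true) (Multiset.range n) =
        (List.range n).countP (fun i => P (enc i)) := by
      intro n
      rw [← Multiset.coe_range, Multiset.coe_countP]
      congr 1
      funext i
      simp
    exact h2 4096
  · intro i hi j hj h
    rw [Finset.mem_coe, Finset.mem_filter, Finset.mem_range] at hi hj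
    exact enc_injOn hi.1 hj.1 (fin_injective (enc_lt i) (enc_lt j) h)

theorem mem_iff_testBit (s : Finset GolayPt) : none ∈ s ↔ (maskOf s).testBit 23 = true := by
  have := testBit_maskOf s none
  rw [show idx none = 23 from rfl] at this
  rw [this, decide_eq_true_iff]

theorem ncard_octads_in : {O : Finset GolayPt | O ∈ octads ∧ none ∈ O}.ncard = 253 := by
  rw [ncard_code (fun m => Nat.beq (popcount m) 8 && m.testBit 23)]
  · decide +kernel
  · intro s
    rw [Set.mem_ofPred_eq, mem_octads_iff, mem_iff_testBit, Bool.and_eq_true, Nat.beq_eq]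
    tauto

theorem ncard_octads_out : {O : Finset GolayPt | O ∈ octads ∧ none ∉ O}.ncard = 506 := by
  rw [ncard_code (fun m => Nat.beq (popcount m) 8 && !m.testBit 23)]
  · decide +kernel
  · intro s
    rw [Set.mem_ofPred_eq, mem_octads_iff, mem_iff_testBit, Bool.and_eq_true, Nat.beq_eq,
      Bool.not_eq_true']
    rw [Bool.not_eq_true]
    tauto

theorem ncard_dodecads_out : {D : Finset GolayPt | D ∈ dodecads ∧ none ∉ D}.ncard = 1288 := by
  rw [ncard_code (fun m => Nat.beq (popcount m) 12 && !m.testBit 23)]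
  · decide +kernel
  · intro s
    rw [Set.mem_ofPred_eq, mem_dodecads_iff, mem_iff_testBit, Bool.and_eq_true, Nat.beq_eq,
      Bool.not_eq_true']
    rw [Bool.not_eq_true]
    tauto

/-! ### the total count -/

noncomputable def octIn : Finset (Finset GolayPt) :=
  (Set.toFinite {O : Finset GolayPt | O ∈ octads ∧ none ∈ O}).toFinset
noncomputable def octOut : Finset (Finset GolayPt) :=
  (Set.toFinite {O : Finset GolayPt | O ∈ octads ∧ none ∉ O}).toFinset
noncomputable def dodOut : Finset (Finset GolayPt) :=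
  (Set.toFinite {O : Finset GolayPt | O ∈ dodecads ∧ none ∉ O}).toFinset

theorem mem_octIn {O : Finset GolayPt} : O ∈ octIn ↔ O ∈ octads ∧ none ∈ O := by
  rw [octIn, Set.Finite.mem_toFinset]; rfl
theorem mem_octOut {O : Finset GolayPt} : O ∈ octOut ↔ O ∈ octads ∧ none ∉ O := by
  rw [octOut, Set.Finite.mem_toFinset]; rfl
theorem mem_dodOut {O : Finset GolayPt} : O ∈ dodOut ↔ O ∈ dodecads ∧ none ∉ O := by
  rw [dodOut, Set.Finite.mem_toFinset]; rfl

theorem card_octIn : octIn.card = 253 := by
  rw [octIn, ← Set.ncard_eq_toFinset_card]; exact ncard_octads_in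
theorem card_octOut : octOut.card = 506 := by
  rw [octOut, ← Set.ncard_eq_toFinset_card]; exact ncard_octads_out
theorem card_dodOut : dodOut.card = 1288 := by
  rw [dodOut, ← Set.ncard_eq_toFinset_card]; exact ncard_dodecads_out

noncomputable def FA : Finset (GolayPt → ℤ) :=
  (Finset.univ : Finset (ZMod 23)).image fun k => vA none (some k)
noncomputable def FB : Finset (GolayPt → ℤ) :=
  (octIn.sigma fun O => (O.erase none).powersetCard 2).image fun p => vB p.1 p.2
noncomputable def FC : Finset (GolayPt → ℤ) := octOut.image fun O => vB O ∅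
noncomputable def FD : Finset (GolayPt → ℤ) := dodOut.image fun D => vD none D
noncomputable def FE : Finset (GolayPt → ℤ) :=
  (octOut.sigma fun O => O).image fun p => vE p.1 p.2

theorem card_FA : FA.card = 23 := by
  rw [FA, Finset.card_image_of_injective, Finset.card_univ, ZMod.card]
  intro k l h
  have := congrFun h (some k)
  simp only [vA, reduceCtorEq, if_false, if_true, Option.some.injEq] at this
  by_contra hkl
  rw [if_neg hkl] at this
  norm_num at this

theorem vB_inj {O O' N N' : Finset GolayPt} (h1 : N ⊆ O) (h2 : N' ⊆ O') (h : vB O N = vB O' N') :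
    O = O' ∧ N = N' := by
  constructor
  · ext i
    have := congrFun h i
    simp only [vB] at this
    by_cases a : i ∈ N
    · by_cases b : i ∈ N'
      · exact ⟨fun _ => h2 b, fun _ => h1 a⟩
      · by_cases c : i ∈ O' <;> simp [a, b, c] at this
    · by_cases b : i ∈ N'
      · by_cases c : i ∈ O <;> simp [a, b, c] at this
      · by_cases c : i ∈ O <;> by_cases d : i ∈ O' <;> simp [a, b, c, d] at this ⊢
  · ext i
    have := congrFun h i
    simp only [vB] at this
    by_cases a : i ∈ N
    · by_cases b : i ∈ N'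
      · exact ⟨fun _ => b, fun _ => a⟩
      · by_cases c : i ∈ O' <;> simp [a, b, c] at this
    · by_cases b : i ∈ N'
      · by_cases c : i ∈ O <;> simp [a, b, c] at this
      · exact ⟨fun h => absurd h a, fun h => absurd h b⟩

theorem card_FB : FB.card = 5313 := by
  rw [FB, Finset.card_image_of_injOn, Finset.card_sigma]
  · have : ∀ O ∈ octIn, ((O.erase none).powersetCard 2).card = 21 := by
      intro O hO
      rw [mem_octIn] at hO
      rw [Finset.card_powersetCard, Finset.card_erase_of_mem hO.2, octad_card hO.1]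
      decide
    rw [Finset.sum_congr rfl this, Finset.sum_const, card_octIn]
    norm_num
  · rintro ⟨O, N⟩ h ⟨O', N'⟩ h' heq
    rw [Finset.mem_coe, Finset.mem_sigma, Finset.mem_powersetCard] at h h'
    obtain ⟨h1, h2⟩ := vB_inj (h.2.1.trans (Finset.erase_subset _ _))
      (h'.2.1.trans (Finset.erase_subset _ _)) heq
    simp only at h1 h2
    subst h1; subst h2; rfl

theorem card_FC : FC.card = 506 := by
  rw [FC, Finset.card_image_of_injOn, card_octOut]
  intro O _ O' _ heq
  exact (vB_inj (by simp) (by simp) heq).1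

theorem card_FD : FD.card = 1288 := by
  rw [FD, Finset.card_image_of_injOn, card_dodOut]
  intro D hD D' hD' heq
  rw [Finset.mem_coe, mem_dodOut] at hD hD'
  ext i
  have := congrFun heq i
  simp only [vD] at this
  by_cases a : i = none
  · rw [a]; exact ⟨fun h => absurd h hD.2, fun h => absurd h hD'.2⟩
  · by_cases b : i ∈ D <;> by_cases c : i ∈ D' <;> simp [a, b, c] at this ⊢

theorem vE_inj {O O' : Finset GolayPt} {j j' : GolayPt} (h1 : j ∈ O) (h2 : j' ∈ O')
    (h : vE O j = vE O' j') : O = O' ∧ j = j' := by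
  have hj : j = j' := by
    have := congrFun h j
    simp only [vE, if_true] at this
    by_contra hne
    by_cases b : j ∈ O' <;> simp [hne, b] at this
  subst hj
  refine ⟨?_, rfl⟩
  ext i
  have := congrFun h i
  simp only [vE] at this
  by_cases a : i = j
  · rw [a]; exact ⟨fun _ => h2, fun _ => h1⟩
  · by_cases b : i ∈ O <;> by_cases c : i ∈ O' <;> simp [a, b, c] at this ⊢

theorem card_FE : FE.card = 4048 := by
  rw [FE, Finset.card_image_of_injOn, Finset.card_sigma]
  · have : ∀ O ∈ octOut, O.card = 8 := by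
      intro O hO
      rw [mem_octOut] at hO
      exact octad_card hO.1
    rw [Finset.sum_congr rfl this, Finset.sum_const, card_octOut]
    norm_num
  · rintro ⟨O, j⟩ h ⟨O', j'⟩ h' heq
    rw [Finset.mem_coe, Finset.mem_sigma] at h h'
    obtain ⟨h1, h2⟩ := vE_inj h.2 h'.2 heq
    simp only at h1 h2
    subst h1; subst h2; rfl

theorem val_FA {x : GolayPt → ℤ} (h : x ∈ FA) : x none = 4 := by
  rw [FA, Finset.mem_image] at h
  obtain ⟨k, -, rfl⟩ := h
  simp [vA]

theorem val_FB {x : GolayPt → ℤ} (h : x ∈ FB) : x none = 2 := by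
  rw [FB, Finset.mem_image] at h
  obtain ⟨⟨O, N⟩, h, rfl⟩ := h
  rw [Finset.mem_sigma, mem_octIn, Finset.mem_powersetCard] at h
  have : none ∉ N := fun hn => (Finset.mem_erase.1 (h.2.1 hn)).1 rfl
  simp [vB, this, h.1.2]

theorem val_FC {x : GolayPt → ℤ} (h : x ∈ FC) : x none = 0 := by
  rw [FC, Finset.mem_image] at h
  obtain ⟨O, h, rfl⟩ := h
  rw [mem_octOut] at h
  simp [vB, h.2]

theorem val_FD {x : GolayPt → ℤ} (h : x ∈ FD) : x none = 3 := by
  rw [FD, Finset.mem_image] at h
  obtain ⟨k, -, rfl⟩ := h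
  simp [vD]

theorem val_FE {x : GolayPt → ℤ} (h : x ∈ FE) : x none = 1 := by
  rw [FE, Finset.mem_image] at h
  obtain ⟨⟨O, j⟩, h, rfl⟩ := h
  rw [Finset.mem_sigma, mem_octOut] at h
  have : (none : GolayPt) ≠ j := fun hn => h.1.2 (hn ▸ h.2)
  simp [vE, this, h.1.2]

theorem set_eq : {x : GolayPt → ℤ | x ∈ leechSet ∧ sqNorm x = 32 ∧ dotInt (uv none) x = 16} =
    ((FA ∪ (FB ∪ (FC ∪ (FD ∪ FE))) : Finset (GolayPt → ℤ)) : Set (GolayPt → ℤ)) := by
  ext x
  rw [Set.mem_ofPred_eq, mem16_iff weightsOK, Finset.mem_coe, Finset.mem_union, Finset.mem_union,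
    Finset.mem_union, Finset.mem_union]
  refine or_congr ?_ (or_congr ?_ (or_congr ?_ (or_congr ?_ ?_)))
  · rw [FA, Finset.mem_image]
    constructor
    · rintro ⟨j, hj, rfl⟩
      obtain ⟨k, rfl⟩ := Option.ne_none_iff_exists'.1 hj
      exact ⟨k, Finset.mem_univ k, rfl⟩
    · rintro ⟨k, -, rfl⟩
      exact ⟨some k, by simp, rfl⟩
  · rw [FB, Finset.mem_image]
    constructor
    · rintro ⟨O, hO, N, hN, hd, hN2, rfl⟩
      exact ⟨⟨O, N⟩, by
        rw [Finset.mem_sigma, mem_octIn, Finset.mem_powersetCard]; exact ⟨⟨hO, hd⟩, hN, hN2⟩, rfl⟩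
    · rintro ⟨⟨O, N⟩, h, rfl⟩
      rw [Finset.mem_sigma, mem_octIn, Finset.mem_powersetCard] at h
      exact ⟨O, h.1.1, N, h.2.1, h.1.2, h.2.2, rfl⟩
  · rw [FC, Finset.mem_image]
    constructor
    · rintro ⟨O, hO, hd, rfl⟩
      exact ⟨O, mem_octOut.2 ⟨hO, hd⟩, rfl⟩
    · rintro ⟨O, hO, rfl⟩
      exact ⟨O, (mem_octOut.1 hO).1, (mem_octOut.1 hO).2, rfl⟩
  · rw [FD, Finset.mem_image]
    constructor
    · rintro ⟨O, hO, hd, rfl⟩
      exact ⟨O, mem_dodOut.2 ⟨hO, hd⟩, rfl⟩
    · rintro ⟨O, hO, rfl⟩
      exact ⟨O, (mem_dodOut.1 hO).1, (mem_dodOut.1 hO).2, rfl⟩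
  · rw [FE, Finset.mem_image]
    constructor
    · rintro ⟨O, hO, hd, j, hj, rfl⟩
      exact ⟨⟨O, j⟩, by rw [Finset.mem_sigma, mem_octOut]; exact ⟨⟨hO, hd⟩, hj⟩, rfl⟩
    · rintro ⟨⟨O, j⟩, h, rfl⟩
      rw [Finset.mem_sigma, mem_octOut] at h
      exact ⟨O, h.1.1, h.1.2, j, h.2, rfl⟩

/-- There are exactly 11178 vectors of `leechSet` of sum of squares 32 with inner product 16 with (5, 1^23). -/
theorem ncard_16 : {x : GolayPt → ℤ | x ∈ leechSet ∧ sqNorm x = 32 ∧
    dotInt (uv none) x = 16}.ncard = 11178 := by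
  rw [set_eq, Set.ncard_coe_finset, Finset.card_union_of_disjoint, Finset.card_union_of_disjoint,
    Finset.card_union_of_disjoint, Finset.card_union_of_disjoint, card_FA, card_FB, card_FC,
    card_FD, card_FE]
  · rw [Finset.disjoint_left]
    intro x h h'
    have := val_FD h; have := val_FE h'; omega
  · rw [Finset.disjoint_left]
    intro x h h'
    rw [Finset.mem_union] at h'
    have := val_FC h
    rcases h' with h' | h'
    · have := val_FD h'; omega
    · have := val_FE h'; omega
  · rw [Finset.disjoint_left]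
    intro x h h'
    rw [Finset.mem_union, Finset.mem_union] at h'
    have := val_FB h
    rcases h' with h' | h' | h'
    · have := val_FC h'; omega
    · have := val_FD h'; omega
    · have := val_FE h'; omega
  · rw [Finset.disjoint_left]
    intro x h h'
    rw [Finset.mem_union, Finset.mem_union, Finset.mem_union] at h'
    have := val_FA h
    rcases h' with h' | h' | h' | h'
    · have := val_FB h'; omega
    · have := val_FC h'; omega
    · have := val_FD h'; omega
    · have := val_FE h'; omega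

end Cfsg.Agent.Leech.Dot16Count
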