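import Cfsg.Agent.Leech.TransPair
import Cfsg.Agent.Leech.Dot16Count

/-!
Counting the minimal vectors of the Leech lattice by the difference of two coordinates, that is,
by the inner product with `4 e_p - 4 e_q`.
-/

set_option autoImplicit false

namespace Cfsg.Agent.Leech.CensusPair

open Cfsg Cfsg.Agent.Leech.Code Cfsg.Agent.Leech.Basic Cfsg.Agent.Leech.Co0Elts
  Cfsg.Agent.Leech.Xi Cfsg.Agent.Leech.Min Cfsg.Agent.Leech.Trans Cfsg.Agent.Leech.TransPair
  Cfsg.Agent.SporadicA

/-! ### Parity of subsets -/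

/-- Half of the subsets of a nonempty set have cardinality congruent to `n` modulo 2. -/
theorem card_parity {B : Finset GolayPt} (hB : B.Nonempty) (n : ℕ) :
    (B.powerset.filter fun R => Even (R.card + n)).card = 2 ^ (B.card - 1) := by
  classical
  obtain ⟨b, hb⟩ := hB
  have hflip : ∀ R : Finset GolayPt, (symmDiff R {b}).card % 2 = (R.card + 1) % 2 := by
    intro R
    have h := GolayBase.card_symmDiff_add R {b}
    rw [Finset.card_singleton] at h
    omega
  have hsub : ∀ R ∈ B.powerset, symmDiff R {b} ∈ B.powerset := by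
    intro R hR
    rw [Finset.mem_powerset] at *
    intro i hi
    rw [Finset.mem_symmDiff] at hi
    rcases hi with h | h
    · exact hR h.1
    · rw [Finset.mem_singleton] at h; rw [h.1]; exact hb
  have heq : (B.powerset.filter fun R => Even (R.card + n)).card =
      (B.powerset.filter fun R => ¬ Even (R.card + n)).card := by
    refine Finset.card_bij' (fun R _ => symmDiff R {b}) (fun R _ => symmDiff R {b})
      (fun R hR => ?_) (fun R hR => ?_) (fun R _ => ?_) (fun R _ => ?_)
    · rw [Finset.mem_filter] at *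
      refine ⟨hsub R hR.1, ?_⟩
      have := hflip R
      have h2 := hR.2
      rw [Nat.even_iff] at *
      omega
    · rw [Finset.mem_filter] at *
      refine ⟨hsub R hR.1, ?_⟩
      have := hflip R
      have h2 := hR.2
      rw [Nat.even_iff] at *
      omega
    · exact symmDiff_symmDiff_cancel_right _ _
    · exact symmDiff_symmDiff_cancel_right _ _
  have htot := Finset.card_filter_add_card_filter_not (s := B.powerset)
    (fun R => Even (R.card + n))
  rw [Finset.card_powerset] at htot
  obtain ⟨k, hk⟩ : ∃ k, B.card = k + 1 := ⟨B.card - 1, by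
    have : 0 < B.card := Finset.card_pos.2 ⟨b, hb⟩
    omega⟩
  rw [hk, pow_succ] at htot
  rw [hk, Nat.add_sub_cancel]
  omega

/-- The finset of points among `p, q` selected by two Booleans. -/
def sel (p q : GolayPt) (c d : Bool) : Finset GolayPt :=
  (if c then {p} else ∅) ∪ (if d then {q} else ∅)

theorem mem_sel {p q : GolayPt} {c d : Bool} {i : GolayPt} :
    i ∈ sel p q c d ↔ (c = true ∧ i = p) ∨ (d = true ∧ i = q) := by
  unfold sel
  cases c <;> cases d <;> simp

theorem card_sel {p q : GolayPt} (h : p ≠ q) (c d : Bool) :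
    (sel p q c d).card = c.toNat + d.toNat := by
  unfold sel
  cases c <;> cases d <;> simp [h]

/-- Even subsets of an octad with prescribed intersection with two points. -/
theorem card_even_pattern {A : Finset GolayPt} (h8 : A.card = 8) {p q : GolayPt} (hpq : p ≠ q)
    {a b c d : Bool} (ha : p ∈ A ↔ a = true) (hb : q ∈ A ↔ b = true) (hca : c = true → a = true)
    (hdb : d = true → b = true) :
    (A.powerset.filter fun S => Even S.card ∧ (p ∈ S ↔ c = true) ∧ (q ∈ S ↔ d = true)).card =
      2 ^ (7 - a.toNat - b.toNat) := by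
  classical
  set B := (A.erase p).erase q with hB
  have hBcard : B.card = 8 - a.toNat - b.toNat := by
    rw [hB]
    cases a <;> cases b
    · rw [Finset.erase_eq_of_notMem (s := A) (by simpa using ha),
        Finset.erase_eq_of_notMem (by simpa using hb), h8]; rfl
    · rw [Finset.erase_eq_of_notMem (s := A) (by simpa using ha),
        Finset.card_erase_of_mem (hb.2 rfl), h8]; rfl
    · rw [Finset.erase_eq_of_notMem, Finset.card_erase_of_mem (ha.2 rfl), h8]; · rfl
      intro h
      have := hb.1 (Finset.mem_of_mem_erase h)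
      exact absurd this (by decide)
    · rw [Finset.card_erase_of_mem, Finset.card_erase_of_mem (ha.2 rfl), h8]; · rfl
      exact Finset.mem_erase.2 ⟨hpq.symm, hb.2 rfl⟩
  have hBne : B.Nonempty := by
    rw [← Finset.card_pos, hBcard]
    cases a <;> cases b <;> decide
  have hpar := card_parity hBne (c.toNat + d.toNat)
  rw [hBcard] at hpar
  have e : 8 - a.toNat - b.toNat - 1 = 7 - a.toNat - b.toNat := by omega
  rw [e] at hpar
  rw [← hpar]
  have hselA : sel p q c d ⊆ A := by
    intro i hi
    rcases mem_sel.1 hi with ⟨hc, rfl⟩ | ⟨hd, rfl⟩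
    · exact ha.2 (hca hc)
    · exact hb.2 (hdb hd)
  have hBA : B ⊆ A := (Finset.erase_subset _ _).trans (Finset.erase_subset _ _)
  have hdisj : ∀ R ⊆ B, Disjoint R (sel p q c d) := by
    intro R hR
    rw [Finset.disjoint_left]
    intro i hi hi'
    have h1 := hR hi
    rw [hB, Finset.mem_erase, Finset.mem_erase] at h1
    rcases mem_sel.1 hi' with ⟨-, rfl⟩ | ⟨-, rfl⟩
    · exact h1.2.1 rfl
    · exact h1.1 rfl
  refine Finset.card_bij' (fun S _ => (S.erase p).erase q) (fun R _ => R ∪ sel p q c d)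
    (fun S hS => ?_) (fun R hR => ?_) (fun S hS => ?_) (fun R hR => ?_)
  · rw [Finset.mem_filter, Finset.mem_powerset] at *
    refine ⟨Finset.erase_subset_erase _ (Finset.erase_subset_erase _ hS.1), ?_⟩
    obtain ⟨-, hev, hp, hq⟩ := hS
    have : ((S.erase p).erase q).card + (c.toNat + d.toNat) = S.card := by
      cases c <;> cases d
      · rw [Finset.erase_eq_of_notMem (s := S) (by simpa using hp),
          Finset.erase_eq_of_notMem (by simpa using hq)]; rfl
      · rw [Finset.erase_eq_of_notMem (s := S) (by simpa using hp)]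
        exact Finset.card_erase_add_one (hq.2 rfl)
      · rw [Finset.erase_eq_of_notMem]
        · exact Finset.card_erase_add_one (hp.2 rfl)
        · intro h
          have := hq.1 (Finset.mem_of_mem_erase h)
          exact absurd this (by decide)
      · have h1 := Finset.card_erase_add_one (hp.2 rfl)
        have h2 := Finset.card_erase_add_one
          (Finset.mem_erase.2 ⟨hpq.symm, hq.2 rfl⟩ : q ∈ S.erase p)
        change _ + (1 + 1) = _
        omega
    rw [this]; exact hev
  · rw [Finset.mem_filter, Finset.mem_powerset] at *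
    obtain ⟨hR, hev⟩ := hR
    refine ⟨Finset.union_subset (hR.trans hBA) hselA, ?_, ?_, ?_⟩
    · rw [Finset.card_union_of_disjoint (hdisj R hR), card_sel hpq]; exact hev
    · rw [Finset.mem_union, mem_sel]
      have : p ∉ R := fun h => by
        have := hR h
        rw [hB, Finset.mem_erase, Finset.mem_erase] at this
        exact this.2.1 rfl
      simp [this, hpq]
    · rw [Finset.mem_union, mem_sel]
      have : q ∉ R := fun h => by
        have := hR h
        rw [hB, Finset.mem_erase] at this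
        exact this.1 rfl
      simp [this, hpq.symm]
  · rw [Finset.mem_filter, Finset.mem_powerset] at hS
    obtain ⟨hSA, -, hp, hq⟩ := hS
    ext i
    rw [Finset.mem_union, mem_sel, Finset.mem_erase, Finset.mem_erase]
    by_cases hip : i = p
    · subst hip; rw [hp]; simp [hpq]
    · by_cases hiq : i = q
      · subst hiq; rw [hq]; simp [hip]
      · simp [hip, hiq]
  · rw [Finset.mem_filter, Finset.mem_powerset] at hR
    have hR' := hR.1
    ext i
    rw [Finset.mem_erase, Finset.mem_erase, Finset.mem_union, mem_sel]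
    constructor
    · rintro ⟨h1, h2, h3 | h3⟩
      · exact h3
      · rcases h3 with h3 | h3
        · exact absurd h3.2 h2
        · exact absurd h3.2 h1
    · intro hi
      have := hR' hi
      rw [hB, Finset.mem_erase, Finset.mem_erase] at this
      exact ⟨this.1, this.2.1, Or.inl hi⟩

/-! ### The two base points, and counts of code words -/

/-- First base point. -/
abbrev P : GolayPt := none

/-- Second base point. -/
abbrev Q : GolayPt := some 0

theorem PQ : P ≠ Q := by decide

theorem mem_P_iff (s : Finset GolayPt) (a : Bool) :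
    (P ∈ s ↔ a = true) ↔ ((GolayBase.maskOf s).testBit 23 == a) = true := by
  have := GolayBase.testBit_maskOf s P
  rw [show GolayBase.idx P = 23 from rfl] at this
  rw [this]
  cases a <;> simp

theorem mem_Q_iff (s : Finset GolayPt) (a : Bool) :
    (Q ∈ s ↔ a = true) ↔ ((GolayBase.maskOf s).testBit 0 == a) = true := by
  have := GolayBase.testBit_maskOf s Q
  rw [show GolayBase.idx Q = 0 from rfl] at this
  rw [this]
  cases a <;> simp

/-- Number of octads with a given pattern on two points. -/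
def oct : Bool → Bool → ℕ
  | true, true => 77
  | true, false => 176
  | false, true => 176
  | false, false => 330

theorem count_oct (a b : Bool) : (List.range 4096).countP (fun i =>
    Nat.beq (GolayBase.popcount (GolayBase.enc i)) 8 && ((GolayBase.enc i).testBit 23 == a) &&
      ((GolayBase.enc i).testBit 0 == b)) = oct a b := by
  revert a b
  decide +kernel

theorem count_words (a b : Bool) : (List.range 4096).countP (fun i =>
    ((GolayBase.enc i).testBit 23 == a) && ((GolayBase.enc i).testBit 0 == b)) = 1024 := by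
  revert a b
  decide +kernel

theorem ncard_oct (a b : Bool) :
    {A : Finset GolayPt | A ∈ octads ∧ (P ∈ A ↔ a = true) ∧ (Q ∈ A ↔ b = true)}.ncard = oct a b := by
  rw [Dot16Count.ncard_code (fun m => Nat.beq (GolayBase.popcount m) 8 && (m.testBit 23 == a) &&
    (m.testBit 0 == b)), count_oct]
  intro s
  rw [Set.mem_ofPred_eq, GolayBase.mem_octads_iff, mem_P_iff, mem_Q_iff, Bool.and_eq_true,
    Bool.and_eq_true, Nat.beq_eq]
  tauto

theorem ncard_words (a b : Bool) :
    {A : Finset GolayPt | A ∈ Words ∧ (P ∈ A ↔ a = true) ∧ (Q ∈ A ↔ b = true)}.ncard = 1024 := by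
  rw [Dot16Count.ncard_code (fun m => (m.testBit 23 == a) && (m.testBit 0 == b)), count_words]
  intro s
  rw [Set.mem_ofPred_eq, GolayBase.mem_supports_iff, mem_P_iff, mem_Q_iff, Bool.and_eq_true]

open Classical in
/-- The octads, as a finset. -/
noncomputable def octF : Finset (Finset GolayPt) := Finset.univ.filter fun A => A ∈ octads

open Classical in
/-- The code words, as a finset. -/
noncomputable def wordF : Finset (Finset GolayPt) := Finset.univ.filter fun A => A ∈ Words

theorem mem_octF (A : Finset GolayPt) : A ∈ octF ↔ A ∈ octads := by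
  classical
  unfold octF; rw [Finset.mem_filter]; simp

theorem mem_wordF (A : Finset GolayPt) : A ∈ wordF ↔ A ∈ Words := by
  classical
  unfold wordF; rw [Finset.mem_filter]; simp

/-- The pattern of a set on the two base points. -/
def pat (A : Finset GolayPt) : Bool × Bool := (decide (P ∈ A), decide (Q ∈ A))

theorem pat_eq (A : Finset GolayPt) (a b : Bool) :
    pat A = (a, b) ↔ (P ∈ A ↔ a = true) ∧ (Q ∈ A ↔ b = true) := by
  unfold pat
  rw [Prod.mk.injEq]
  cases a <;> cases b <;> simp

theorem card_octF (ab : Bool × Bool) : (octF.filter fun A => pat A = ab).card = oct ab.1 ab.2 := by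
  rw [← ncard_oct ab.1 ab.2, ← Set.ncard_coe_finset]
  congr 1
  ext A
  rw [Finset.mem_coe, Finset.mem_filter, mem_octF]
  exact and_congr_right fun _ => pat_eq A ab.1 ab.2

theorem card_wordF (ab : Bool × Bool) : (wordF.filter fun A => pat A = ab).card = 1024 := by
  rw [← ncard_words ab.1 ab.2, ← Set.ncard_coe_finset]
  congr 1
  ext A
  rw [Finset.mem_coe, Finset.mem_filter, mem_wordF]
  exact and_congr_right fun _ => pat_eq A ab.1 ab.2

/-! ### Vectors of type 2 -/

/-- The vector with value `-2` on `S`, `2` on `A \ S`, zero elsewhere (`S ⊆ A`). -/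
def vec2 (A S : Finset GolayPt) : GolayPt → ℤ := fun i => if i ∈ S then -2 else if i ∈ A then 2 else 0

theorem vec2_apply (A S : Finset GolayPt) (i : GolayPt) :
    vec2 A S i = if i ∈ S then -2 else if i ∈ A then 2 else 0 := rfl

theorem type2_iff (x : GolayPt → ℤ) :
    Type2 x ↔ ∃ A ∈ octads, ∃ S, S ⊆ A ∧ Even S.card ∧ x = vec2 A S := by
  constructor
  · rintro ⟨A, hA, h2, h0, hev⟩
    refine ⟨A, hA, A.filter fun i => x i = -2, Finset.filter_subset _ _, hev, ?_⟩
    funext i
    rw [vec2_apply]
    by_cases hi : i ∈ A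
    · rcases h2 i hi with h | h
      · rw [if_neg (by rw [Finset.mem_filter]; omega), if_pos hi, h]
      · rw [if_pos (Finset.mem_filter.2 ⟨hi, h⟩), h]
    · rw [if_neg (fun h => hi (Finset.mem_filter.1 h).1), if_neg hi, h0 i hi]
  · rintro ⟨A, hA, S, hS, hev, rfl⟩
    refine ⟨A, hA, fun i hi => ?_, fun i hi => ?_, ?_⟩
    · rw [vec2_apply]; by_cases h : i ∈ S <;> simp [h, hi]
    · rw [vec2_apply, if_neg (fun h => hi (hS h)), if_neg hi]
    · have : (A.filter fun i => vec2 A S i = -2) = S := by
        ext i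
        rw [Finset.mem_filter, vec2_apply]
        by_cases h : i ∈ S
        · simp [h, hS h]
        · by_cases hi : i ∈ A <;> simp [h, hi]
      rw [this]; exact hev

theorem vec2_inj {A S A' S' : Finset GolayPt} (hS : S ⊆ A) (hS' : S' ⊆ A')
    (h : vec2 A S = vec2 A' S') : A = A' ∧ S = S' := by
  have key : ∀ i, (i ∈ A ↔ i ∈ A') ∧ (i ∈ S ↔ i ∈ S') := by
    intro i
    have hi := congrFun h i
    rw [vec2_apply, vec2_apply] at hi
    have h1 : i ∈ S → i ∈ A := fun h => hS h
    have h2 : i ∈ S' → i ∈ A' := fun h => hS' h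
    by_cases a : i ∈ A <;> by_cases b : i ∈ S <;> by_cases c : i ∈ A' <;> by_cases d : i ∈ S' <;>
      simp [a, b, c, d] at * 
  exact ⟨Finset.ext fun i => (key i).1, Finset.ext fun i => (key i).2⟩

/-- The coordinate of `vec2` in terms of Booleans. -/
def val2 (a c : Bool) : ℤ := if c then -2 else if a then 2 else 0

open Classical in
/-- The index set of the vectors of type 2 with difference `t`. -/
noncomputable def F2 (t : ℤ) : Finset ((_ : Finset GolayPt) × Finset GolayPt) :=
  octF.sigma fun A => A.powerset.filter fun S => Even S.card ∧ vec2 A S P - vec2 A S Q = t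

/-- Possible patterns of `S` given the pattern of `A`. -/
def pats (t : ℤ) (a b : Bool) : Finset (Bool × Bool) :=
  Finset.univ.filter fun cd => (cd.1 = true → a = true) ∧ (cd.2 = true → b = true) ∧
    val2 a cd.1 - val2 b cd.2 = t

theorem card_fibre {A : Finset GolayPt} (h8 : A.card = 8) (t : ℤ) {a b : Bool}
    (hab : pat A = (a, b)) :
    (A.powerset.filter fun S => Even S.card ∧ vec2 A S P - vec2 A S Q = t).card =
      (pats t a b).card * 2 ^ (7 - a.toNat - b.toNat) := by
  classical
  obtain ⟨ha, hb⟩ := (pat_eq A a b).1 hab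
  have hval : ∀ S ⊆ A, ∀ c d : Bool, pat S = (c, d) →
      vec2 A S P - vec2 A S Q = val2 a c - val2 b d := by
    intro S _ c d hcd
    obtain ⟨hc, hd⟩ := (pat_eq S c d).1 hcd
    rw [vec2_apply, vec2_apply]
    unfold val2
    simp only [ha, hb, hc, hd]
  rw [Finset.card_eq_sum_card_fiberwise (f := pat) (t := pats t a b)]
  · rw [Finset.sum_congr rfl (g := fun _ => 2 ^ (7 - a.toNat - b.toNat)), Finset.sum_const,
      smul_eq_mul]
    rintro ⟨c, d⟩ hcd
    unfold pats at hcd
    rw [Finset.mem_filter] at hcd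
    rw [← card_even_pattern h8 PQ ha hb hcd.2.1 hcd.2.2.1]
    congr 1
    ext S
    simp only [Finset.mem_filter, Finset.mem_powerset]
    constructor
    · rintro ⟨⟨hSA, hev, -⟩, hp⟩
      exact ⟨hSA, hev, (pat_eq S c d).1 hp⟩
    · rintro ⟨hSA, hev, hp⟩
      have hp' := (pat_eq S c d).2 hp
      exact ⟨⟨hSA, hev, (hval S hSA c d hp').trans hcd.2.2.2⟩, hp'⟩
  · intro S hS
    rw [Finset.mem_coe, Finset.mem_filter, Finset.mem_powerset] at hS
    rw [Finset.mem_coe]
    obtain ⟨hSA, -, ht⟩ := hS
    unfold pats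
    rw [Finset.mem_filter]
    refine ⟨Finset.mem_univ _, fun h => ?_, fun h => ?_, ?_⟩
    · exact ha.1 (hSA (of_decide_eq_true h))
    · exact hb.1 (hSA (of_decide_eq_true h))
    · exact (hval S hSA (pat S).1 (pat S).2 rfl).symm.trans ht

theorem card_F2 (t : ℤ) : (F2 t).card =
    ∑ ab : Bool × Bool, oct ab.1 ab.2 * ((pats t ab.1 ab.2).card * 2 ^ (7 - ab.1.toNat - ab.2.toNat)) := by
  classical
  unfold F2
  rw [Finset.card_sigma]
  rw [← Finset.sum_fiberwise_of_maps_to (s := octF) (t := Finset.univ) (g := pat)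
    (fun _ _ => Finset.mem_univ _)]
  refine Finset.sum_congr rfl fun ab _ => ?_
  rw [← card_octF ab, Finset.sum_congr rfl (g := fun _ =>
    (pats t ab.1 ab.2).card * 2 ^ (7 - ab.1.toNat - ab.2.toNat)), Finset.sum_const, smul_eq_mul]
  intro A hA
  rw [Finset.mem_filter, mem_octF] at hA
  exact card_fibre hA.1.2 t hA.2

open Classical in
/-- The vectors of type 2 with difference `t`. -/
noncomputable def I2 (t : ℤ) : Finset (GolayPt → ℤ) := (F2 t).image fun x => vec2 x.1 x.2

theorem card_I2 (t : ℤ) : (I2 t).card = (F2 t).card := by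
  unfold I2
  refine Finset.card_image_of_injOn ?_
  rintro ⟨A, S⟩ h ⟨A', S'⟩ h' heq
  unfold F2 at h h'
  simp only [Finset.mem_coe, Finset.mem_sigma, Finset.mem_filter, Finset.mem_powerset] at h h'
  obtain ⟨rfl, rfl⟩ := vec2_inj h.2.1 h'.2.1 heq
  rfl

theorem mem_I2 (t : ℤ) (x : GolayPt → ℤ) : x ∈ I2 t ↔ Type2 x ∧ x P - x Q = t := by
  unfold I2 F2
  simp only [Finset.mem_image, Finset.mem_sigma, Finset.mem_filter, Finset.mem_powerset, mem_octF]
  rw [type2_iff]
  constructor
  · rintro ⟨⟨A, S⟩, ⟨hA, hS, hev, ht⟩, rfl⟩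
    exact ⟨⟨A, hA, S, hS, hev, rfl⟩, ht⟩
  · rintro ⟨⟨A, hA, S, hS, hev, rfl⟩, ht⟩
    exact ⟨⟨A, S⟩, ⟨hA, hS, hev, ht⟩, rfl⟩

/-! ### Vectors of type 3 -/

/-- `∓3` at `r`, `±1` elsewhere, signs by `A`. -/
def vec3 (r : GolayPt) (A : Finset GolayPt) : GolayPt → ℤ := fun i =>
  if i = r then (if i ∈ A then -3 else 3) else (if i ∈ A then 1 else -1)

theorem vec3_apply (r : GolayPt) (A : Finset GolayPt) (i : GolayPt) : vec3 r A i =
    if i = r then (if i ∈ A then -3 else 3) else (if i ∈ A then 1 else -1) := rfl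

theorem cls_vec3 (r : GolayPt) (A : Finset GolayPt) : cls (vec3 r A) 1 = A := by
  ext i
  rw [mem_cls, vec3_apply]
  unfold Int.ModEq
  split_ifs with h h' h'
  · exact iff_of_true (by norm_num) h'
  · exact iff_of_false (by norm_num) h'
  · exact iff_of_true (by norm_num) h'
  · exact iff_of_false (by norm_num) h'

theorem type3_iff (x : GolayPt → ℤ) : Type3 x ↔ ∃ r, ∃ A ∈ Words, x = vec3 r A := by
  constructor
  · rintro ⟨r, hr, h1, hW⟩
    refine ⟨r, cls x 1, hW, ?_⟩
    funext i
    rw [vec3_apply]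
    by_cases hir : i = r
    · subst hir
      rw [if_pos rfl]
      rcases hr with h | h
      · rw [if_neg, h]; rw [mem_cls, h]; decide
      · rw [if_pos, h]; rw [mem_cls, h]; decide
    · rw [if_neg hir]
      rcases h1 i hir with h | h
      · rw [if_pos, h]; rw [mem_cls, h]
      · rw [if_neg, h]; rw [mem_cls, h]; decide
  · rintro ⟨r, A, hA, rfl⟩
    refine ⟨r, ?_, fun i hi => ?_, by rwa [cls_vec3]⟩
    · rw [vec3_apply, if_pos rfl]; split_ifs <;> simp
    · rw [vec3_apply, if_neg hi]; split_ifs <;> simp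

theorem vec3_inj {r r' : GolayPt} {A A' : Finset GolayPt} (h : vec3 r A = vec3 r' A') :
    r = r' ∧ A = A' := by
  have hA : A = A' := by rw [← cls_vec3 r A, h, cls_vec3]
  refine ⟨?_, hA⟩
  subst hA
  by_contra hne
  have := congrFun h r
  rw [vec3_apply, vec3_apply, if_pos rfl, if_neg hne] at this
  split_ifs at this

/-- The coordinate of `vec3` in terms of Booleans. -/
def val3 (r i : GolayPt) (a : Bool) : ℤ :=
  if i = r then (if a then -3 else 3) else (if a then 1 else -1)

/-- The possible patterns. -/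
def pats3 (t : ℤ) : Finset (GolayPt × (Bool × Bool)) :=
  Finset.univ.filter fun x => val3 x.1 P x.2.1 - val3 x.1 Q x.2.2 = t

/-- The index set of the vectors of type 3 with difference `t`. -/
noncomputable def F3 (t : ℤ) : Finset (GolayPt × Finset GolayPt) :=
  ((Finset.univ : Finset GolayPt) ×ˢ wordF).filter fun x => vec3 x.1 x.2 P - vec3 x.1 x.2 Q = t

theorem vec3_val (r : GolayPt) (A : Finset GolayPt) :
    vec3 r A P - vec3 r A Q = val3 r P (pat A).1 - val3 r Q (pat A).2 := by
  rw [vec3_apply, vec3_apply]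
  unfold val3 pat
  simp only [decide_eq_true_eq]

theorem card_F3 (t : ℤ) : (F3 t).card = (pats3 t).card * 1024 := by
  classical
  rw [Finset.card_eq_sum_card_fiberwise (f := fun x : GolayPt × Finset GolayPt => (x.1, pat x.2))
    (t := pats3 t)]
  · rw [Finset.sum_congr rfl (g := fun _ => 1024), Finset.sum_const, smul_eq_mul]
    rintro ⟨r, ab⟩ hr
    unfold pats3 at hr
    rw [Finset.mem_filter] at hr
    have : (F3 t).filter (fun x => (x.1, pat x.2) = (r, ab)) =
        ({r} : Finset GolayPt) ×ˢ (wordF.filter fun A => pat A = ab) := by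
      ext ⟨r', A⟩
      unfold F3
      simp only [Finset.mem_filter, Finset.mem_product, Finset.mem_univ, true_and,
        Finset.mem_singleton, Prod.mk.injEq]
      constructor
      · rintro ⟨⟨h1, -⟩, h2, h3⟩
        exact ⟨h2, h1, h3⟩
      · rintro ⟨h2, h1, h3⟩
        subst h2
        refine ⟨⟨h1, ?_⟩, rfl, h3⟩
        rw [vec3_val, h3]
        exact hr.2
    rw [this, Finset.card_product, Finset.card_singleton, card_wordF, one_mul]
  · rintro ⟨r, A⟩ h
    unfold F3 at h
    rw [Finset.mem_coe, Finset.mem_filter] at h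
    rw [Finset.mem_coe]
    unfold pats3
    rw [Finset.mem_filter]
    refine ⟨Finset.mem_univ _, ?_⟩
    rw [← h.2, vec3_val]

open Classical in
/-- The vectors of type 3 with difference `t`. -/
noncomputable def I3 (t : ℤ) : Finset (GolayPt → ℤ) := (F3 t).image fun x => vec3 x.1 x.2

theorem card_I3 (t : ℤ) : (I3 t).card = (F3 t).card := by
  unfold I3
  refine Finset.card_image_of_injOn ?_
  rintro ⟨r, A⟩ _ ⟨r', A'⟩ _ heq
  obtain ⟨rfl, rfl⟩ := vec3_inj heq
  rfl

theorem mem_I3 (t : ℤ) (x : GolayPt → ℤ) : x ∈ I3 t ↔ Type3 x ∧ x P - x Q = t := by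
  unfold I3 F3
  simp only [Finset.mem_image, Finset.mem_filter, Finset.mem_product, Finset.mem_univ, true_and,
    mem_wordF]
  rw [type3_iff]
  constructor
  · rintro ⟨⟨r, A⟩, ⟨hA, ht⟩, rfl⟩
    exact ⟨⟨r, A, hA, rfl⟩, ht⟩
  · rintro ⟨⟨r, A, hA, rfl⟩, ht⟩
    exact ⟨⟨r, A⟩, ⟨hA, ht⟩, rfl⟩

/-! ### Vectors of type 4 -/

/-- Value of a sign. -/
def sg (a : Bool) : ℤ := if a then -4 else 4

/-- The vector of type 4 with given positions and signs. -/
def vec4 (x : GolayPt × GolayPt × Bool × Bool) : GolayPt → ℤ := two x.1 x.2.1 (sg x.2.2.1) (sg x.2.2.2)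

/-- The index set of the vectors of type 4 with difference `t`. -/
def F4 (t : ℤ) : Finset (GolayPt × GolayPt × Bool × Bool) :=
  Finset.univ.filter fun x => GolayBase.idx x.1 < GolayBase.idx x.2.1 ∧ vec4 x P - vec4 x Q = t

theorem sg_or (a : Bool) : sg a = 4 ∨ sg a = -4 := by cases a <;> simp [sg]

theorem sg_surj {a : ℤ} (h : a = 4 ∨ a = -4) : ∃ b, sg b = a := by
  rcases h with rfl | rfl
  · exact ⟨false, rfl⟩
  · exact ⟨true, rfl⟩

theorem sg_inj {a b : Bool} (h : sg a = sg b) : a = b := by
  revert h; cases a <;> cases b <;> simp [sg]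

theorem vec4_inj {x y : GolayPt × GolayPt × Bool × Bool} (hx : GolayBase.idx x.1 < GolayBase.idx x.2.1)
    (hy : GolayBase.idx y.1 < GolayBase.idx y.2.1) (h : vec4 x = vec4 y) : x = y := by
  obtain ⟨r, s, a, b⟩ := x
  obtain ⟨r', s', a', b'⟩ := y
  dsimp only at hx hy
  have hrs : r ≠ s := by rintro rfl; exact lt_irrefl _ hx
  have hrs' : r' ≠ s' := by rintro rfl; exact lt_irrefl _ hy
  unfold vec4 at h
  dsimp only at h
  have hne : ∀ c, sg c ≠ 0 := fun c => by cases c <;> simp [sg]
  have mem : ∀ (r s : GolayPt) (a b : Bool) (i : GolayPt), r ≠ s →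
      (two r s (sg a) (sg b) i ≠ 0 ↔ i = r ∨ i = s) := by
    intro r s a b i hrs
    by_cases h1 : i = r
    · subst h1; rw [two_left]; simp [hne]
    · by_cases h2 : i = s
      · subst h2; rw [two_right hrs]; simp [hne]
      · rw [two_other h1 h2]; simp [h1, h2]
  have hr := (mem r s a b r hrs).2 (Or.inl rfl)
  have hs := (mem r s a b s hrs).2 (Or.inr rfl)
  rw [h] at hr hs
  have hr' := (mem r' s' a' b' r hrs').1 hr
  have hs' := (mem r' s' a' b' s hrs').1 hs
  have : r = r' ∧ s = s' := by
    rcases hr' with rfl | rfl <;> rcases hs' with rfl | rfl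
    · exact absurd rfl hrs
    · exact ⟨rfl, rfl⟩
    · omega
    · exact absurd rfl hrs
  obtain ⟨rfl, rfl⟩ := this
  have h1 := congrFun h r
  have h2 := congrFun h s
  rw [two_left, two_left] at h1
  rw [two_right hrs, two_right hrs] at h2
  rw [sg_inj h1, sg_inj h2]

open Classical in
/-- The vectors of type 4 with difference `t`. -/
noncomputable def I4 (t : ℤ) : Finset (GolayPt → ℤ) := (F4 t).image vec4

theorem card_I4 (t : ℤ) : (I4 t).card = (F4 t).card := by
  unfold I4
  refine Finset.card_image_of_injOn ?_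
  intro x hx y hy heq
  unfold F4 at hx hy
  rw [Finset.mem_coe, Finset.mem_filter] at hx hy
  exact vec4_inj hx.2.1 hy.2.1 heq

theorem mem_I4 (t : ℤ) (x : GolayPt → ℤ) : x ∈ I4 t ↔ Type4 x ∧ x P - x Q = t := by
  unfold I4 F4
  simp only [Finset.mem_image, Finset.mem_filter, Finset.mem_univ, true_and]
  constructor
  · rintro ⟨⟨r, s, a, b⟩, ⟨h1, h2⟩, rfl⟩
    refine ⟨?_, h2⟩
    have hrs : r ≠ s := by rintro rfl; exact lt_irrefl _ h1
    exact type4_two hrs (sg_or a) (sg_or b)
  · rintro ⟨h, ht⟩
    obtain ⟨r, s, hrs, a, b, ha, hb, rfl⟩ := eq_two_of_type4 h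
    obtain ⟨a, rfl⟩ := sg_surj ha
    obtain ⟨b, rfl⟩ := sg_surj hb
    rcases lt_or_gt_of_ne (fun h => hrs (GolayBase.idx_injective h)) with hlt | hlt
    · exact ⟨(r, s, a, b), ⟨hlt, ht⟩, rfl⟩
    · refine ⟨(s, r, b, a), ⟨hlt, ?_⟩, ?_⟩
      · change two s r (sg b) (sg a) P - two s r (sg b) (sg a) Q = t
        rw [two_swap hrs.symm]; exact ht
      · change two s r (sg b) (sg a) = _
        exact two_swap hrs.symm _ _

/-! ### The total -/

theorem type2_coord {x : GolayPt → ℤ} (h : Type2 x) (i : GolayPt) : x i = 0 ∨ x i = 2 ∨ x i = -2 := by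
  obtain ⟨A, -, h2, h0, -⟩ := h
  by_cases hi : i ∈ A
  · exact Or.inr (h2 i hi)
  · exact Or.inl (h0 i hi)

theorem ncard_total (t : ℤ) : {x : GolayPt → ℤ | x ∈ leechLattice ∧ sqNorm x = 32 ∧ x P - x Q = t}.ncard =
    (F4 t).card + (F2 t).card + (F3 t).card := by
  classical
  have hset : {x : GolayPt → ℤ | x ∈ leechLattice ∧ sqNorm x = 32 ∧ x P - x Q = t} =
      ((I4 t ∪ I2 t ∪ I3 t : Finset (GolayPt → ℤ)) : Set (GolayPt → ℤ)) := by
    ext x
    rw [Finset.mem_coe, Finset.mem_union, Finset.mem_union, mem_I4, mem_I2, mem_I3,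
      Set.mem_ofPred_eq, ← and_assoc, min_iff]
    tauto
  rw [hset, Set.ncard_coe_finset, Finset.card_union_of_disjoint, Finset.card_union_of_disjoint,
    card_I4, card_I2, card_I3]
  · rw [Finset.disjoint_left]
    intro x h4 h2
    rw [mem_I4] at h4
    rw [mem_I2] at h2
    obtain ⟨p, q, -, hp, -⟩ := h4.1
    rcases type2_coord h2.1 p with h | h | h <;> omega
  · rw [Finset.disjoint_left]
    intro x h42 h3
    rw [mem_I3] at h3
    have hodd := type3_odd h3.1
    rw [Finset.mem_union, mem_I4, mem_I2] at h42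
    rcases h42 with h | h
    · obtain ⟨p, q, -, hp, -⟩ := h.1
      have := hodd p
      omega
    · have := hodd P
      rcases type2_coord h.1 P with h | h | h <;> omega

theorem total_neg_four :
    {x : GolayPt → ℤ | x ∈ leechLattice ∧ sqNorm x = 32 ∧ x P - x Q = -4}.ncard = 4600 := by
  rw [ncard_total, card_F2, card_F3]
  decide +kernel

theorem total_neg_two :
    {x : GolayPt → ℤ | x ∈ leechLattice ∧ sqNorm x = 32 ∧ x P - x Q = -2}.ncard = 47104 := by
  rw [ncard_total, card_F2, card_F3]
  decide +kernel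

theorem total_zero :
    {x : GolayPt → ℤ | x ∈ leechLattice ∧ sqNorm x = 32 ∧ x P - x Q = 0}.ncard = 93150 := by
  rw [ncard_total, card_F2, card_F3]
  decide +kernel

theorem ncard_transport (v : GolayPt → ℤ) (hv : v ∈ leechLattice) (hvn : sqNorm v = 32) (t : ℤ) :
    {w : GolayPt → ℤ | w ∈ leechLattice ∧ sqNorm w = 32 ∧ dotInt v w = 4 * t}.ncard =
      {x : GolayPt → ℤ | x ∈ leechLattice ∧ sqNorm x = 32 ∧ x P - x Q = t}.ncard := by
  obtain ⟨g, hg⟩ := co0_transitive_min ⟨v, hv⟩ (v0 P Q PQ) hvn (sqNorm_v0 PQ)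
  refine Set.ncard_congr (fun w hw => ((g • (⟨w, hw.1⟩ : leechLattice) : leechLattice) : GolayPt → ℤ))
    (fun w hw => ?_) (fun w w' hw hw' h => ?_) (fun x hx => ?_)
  · obtain ⟨h1, h2, h3⟩ := hw
    refine ⟨(g • (⟨w, h1⟩ : leechLattice)).2, ?_, ?_⟩
    · rw [sqNorm_smul]; exact h2
    · have := dotInt_smul g ⟨v, hv⟩ ⟨w, h1⟩
      rw [hg, dot_v0] at this
      have h3' : dotInt v w = 4 * t := h3
      change _ = dotInt v w at this
      omega
  · have h' := Subtype.ext h
    have := smul_left_cancel g h'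
    exact congrArg Subtype.val this
  · obtain ⟨h1, h2, h3⟩ := hx
    refine ⟨((g⁻¹ • (⟨x, h1⟩ : leechLattice) : leechLattice) : GolayPt → ℤ), ⟨?_, ?_, ?_⟩, ?_⟩
    · exact (g⁻¹ • (⟨x, h1⟩ : leechLattice)).2
    · rw [sqNorm_smul]; exact h2
    · have := dotInt_smul g⁻¹ (v0 P Q PQ) ⟨x, h1⟩
      rw [← hg, inv_smul_smul, hg, dot_v0] at this
      change dotInt v _ = _ at this
      rw [this]
      change 4 * (x P - x Q) = _
      rw [h3]
    · change ((g • (g⁻¹ • (⟨x, h1⟩ : leechLattice)) : leechLattice) : GolayPt → ℤ) = x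
      rw [smul_inv_smul]

theorem census (v : GolayPt → ℤ) (hv : v ∈ leechLattice) (hvn : sqNorm v = 32) :
    {w : GolayPt → ℤ | w ∈ leechLattice ∧ sqNorm w = 32 ∧ dotInt v w = -16}.ncard = 4600 ∧
    {w : GolayPt → ℤ | w ∈ leechLattice ∧ sqNorm w = 32 ∧ dotInt v w = -8}.ncard = 47104 ∧
    {w : GolayPt → ℤ | w ∈ leechLattice ∧ sqNorm w = 32 ∧ dotInt v w = 0}.ncard = 93150 := by
  have h1 := ncard_transport v hv hvn (-4)
  have h2 := ncard_transport v hv hvn (-2)
  have h3 := ncard_transport v hv hvn 0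
  rw [total_neg_four] at h1
  rw [total_neg_two] at h2
  rw [total_zero] at h3
  exact ⟨h1, h2, h3⟩

end Cfsg.Agent.Leech.CensusPair
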