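import Cfsg.Agent.Leech.Trans

/-!
The stabiliser in `Co0` of a vector `v` of norm 32 is transitive on the vectors `w` of norm 32
with inner product `-16` with `v`.
-/

set_option autoImplicit false

namespace Cfsg.Agent.Leech.TransPair

open Cfsg Cfsg.Agent.Leech.Code Cfsg.Agent.Leech.Basic Cfsg.Agent.Leech.Co0Elts
  Cfsg.Agent.Leech.Xi Cfsg.Agent.Leech.Min Cfsg.Agent.Leech.Trans

/-- The base vector `4 e_p - 4 e_q`. -/
def v0 (p q : GolayPt) (h : p ≠ q) : leechLattice := lv p q 4 (-4) h four_or neg_four_or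

theorem v0_left {p q : GolayPt} (h : p ≠ q) : (v0 p q h : GolayPt → ℤ) p = 4 := two_left _ _ _ _

theorem v0_right {p q : GolayPt} (h : p ≠ q) : (v0 p q h : GolayPt → ℤ) q = -4 := two_right h _ _

theorem v0_other {p q : GolayPt} (h : p ≠ q) {i : GolayPt} (hp : i ≠ p) (hq : i ≠ q) :
    (v0 p q h : GolayPt → ℤ) i = 0 := two_other hp hq _ _

theorem sqNorm_v0 {p q : GolayPt} (h : p ≠ q) : sqNorm (v0 p q h : GolayPt → ℤ) = 32 :=
  sqNorm_lv _ _ _ _ _ _ _

theorem dot_v0 {p q : GolayPt} (h : p ≠ q) (x : GolayPt → ℤ) :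
    dotInt (v0 p q h : GolayPt → ℤ) x = 4 * (x p - x q) := by
  change dotInt (two p q 4 (-4)) x = _
  rw [dotInt_two h]; ring

theorem v0_zero {p q k l : GolayPt} (hpq : p ≠ q) :
    ∀ i, i ∉ ({p, q, k, l} : Finset GolayPt) → (v0 p q hpq : GolayPt → ℤ) i = 0 := by
  intro i hi
  apply v0_other hpq
  · rintro rfl; exact hi (by simp)
  · rintro rfl; exact hi (by simp)

theorem v0_sum {p q k l : GolayPt} (hpq : p ≠ q) (hpk : p ≠ k) (hpl : p ≠ l) (hqk : q ≠ k)
    (hql : q ≠ l) (hkl : k ≠ l) :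
    ∑ i ∈ ({p, q, k, l} : Finset GolayPt), (v0 p q hpq : GolayPt → ℤ) i = 0 := by
  rw [sum_four hpq hpk hpl hqk hql hkl, v0_left, v0_right, v0_other hpq hpk.symm hqk.symm,
    v0_other hpq hpl.symm hql.symm]
  rfl

theorem sub_of_E {p q : GolayPt} (hpq : p ≠ q) {x y : leechLattice} (h : E (v0 p q hpq) x y) :
    (y : GolayPt → ℤ) p - (y : GolayPt → ℤ) q = (x : GolayPt → ℤ) p - (x : GolayPt → ℤ) q := by
  have := h.dot_eq
  rw [dot_v0, dot_v0] at this
  omega

theorem even_to_type4 {p q : GolayPt} (hpq : p ≠ q) (x : leechLattice)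
    (hx : sqNorm (x : GolayPt → ℤ) = 32)
    (hd : (x : GolayPt → ℤ) p - (x : GolayPt → ℤ) q = -4)
    (hi : ∃ i, (x : GolayPt → ℤ) i % 2 = 0) :
    ∃ y : leechLattice, E (v0 p q hpq) x y ∧ Type4 (y : GolayPt → ℤ) := by
  obtain ⟨i, hi⟩ := hi
  rcases type2_or_type4_of_coord x.2 hx hi with h | h
  · exact ⟨x, E.refl _ _, h⟩
  obtain ⟨A, hA, h2, h0, -⟩ := h
  have h8 : A.card = 8 := hA.2
  have hpA : p ∈ A := by
    by_contra hp
    have h1 := h0 p hp
    by_cases hq : q ∈ A
    · rcases h2 q hq with h | h <;> omega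
    · have := h0 q hq; omega
  have hqA : q ∈ A := by
    by_contra hq
    have h1 := h0 q hq
    rcases h2 p hpA with h | h <;> omega
  have hp2 := h2 p hpA
  have hqp : (x : GolayPt → ℤ) q = -(x : GolayPt → ℤ) p := by
    rcases h2 q hqA with h | h <;> omega
  obtain ⟨k, hk, l, hl, hkl, hlk⟩ := exists_eq_pair (x := (x : GolayPt → ℤ))
    (B := (A.erase p).erase q) (by
      have h1 : (A.erase p).card = 7 := by rw [Finset.card_erase_of_mem hpA, h8]
      have h2 : (A.erase p).card - 1 ≤ ((A.erase p).erase q).card :=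
        Finset.pred_card_le_card_erase
      omega)
    (fun i hi => h2 i (Finset.mem_of_mem_erase (Finset.mem_of_mem_erase hi)))
  rw [Finset.mem_erase, Finset.mem_erase] at hk hl
  exact step_two hx hpq hk.2.1.symm hl.2.1.symm hk.1.symm hl.1.symm hkl (v0_zero hpq)
    (v0_sum hpq hk.2.1.symm hl.2.1.symm hk.1.symm hl.1.symm hkl) hp2 hqp (h2 k hk.2.2) hlk

theorem to_type4 {p q : GolayPt} (hpq : p ≠ q) (x : leechLattice)
    (hx : sqNorm (x : GolayPt → ℤ) = 32)
    (hd : (x : GolayPt → ℤ) p - (x : GolayPt → ℤ) q = -4) :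
    ∃ y : leechLattice, E (v0 p q hpq) x y ∧ Type4 (y : GolayPt → ℤ) := by
  by_cases hi : ∃ i, (x : GolayPt → ℤ) i % 2 = 0
  · exact even_to_type4 hpq x hx hd hi
  push Not at hi
  have hodd : ∀ i, (x : GolayPt → ℤ) i % 2 = 1 := fun i => by have := hi i; omega
  obtain ⟨k, hk⟩ := exists_notMem {p, q} (lt_of_le_of_lt Finset.card_le_two (by decide))
  obtain ⟨l, hl⟩ := exists_notMem {p, q, k} (lt_of_le_of_lt Finset.card_le_three (by decide))
  simp only [Finset.mem_insert, Finset.mem_singleton, not_or] at hk hl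
  have hpk := Ne.symm hk.1
  have hqk := Ne.symm hk.2
  have hpl := Ne.symm hl.1
  have hql := Ne.symm hl.2.1
  have hkl := Ne.symm hl.2.2
  obtain ⟨x', hE, hodd', hs'⟩ : ∃ x' : leechLattice, E (v0 p q hpq) x x' ∧
      (x' : GolayPt → ℤ) p % 2 = 1 ∧
      (∑ j ∈ ({p, q, k, l} : Finset GolayPt), (x' : GolayPt → ℤ) j) % 4 = 2 := by
    by_cases h4 : (∑ j ∈ ({p, q, k, l} : Finset GolayPt), (x : GolayPt → ℤ) j) % 4 = 2
    · exact ⟨x, E.refl _ _, hodd p, h4⟩
    · obtain ⟨y, hE, hyk, hys, -⟩ := flip_one (v := v0 p q hpq) x k {p, q, l}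
        (Finset.card_le_three.trans (by decide)) (by
          simp only [Finset.mem_insert, Finset.mem_singleton, not_or]
          exact ⟨hk.1, hk.2, hkl⟩)
        (fun i hi => v0_other hpq (fun h => hi (by simp [h])) (fun h => hi (by simp [h])))
      refine ⟨y, hE, ?_, ?_⟩
      · rw [hys p (by simp)]; exact hodd p
      · rw [sum_four hpq hpk hpl hqk hql hkl] at h4 ⊢
        rw [hyk, hys p (by simp), hys q (by simp), hys l (by simp)]
        have h1 := hodd p
        have h2 := hodd q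
        have h3 := hodd k
        have h4 := hodd l
        omega
  obtain ⟨y, hE', hy⟩ := step_odd (v := v0 p q hpq) (x := x')
    (card_four hpq hpk hpl hqk hql hkl) (v0_zero hpq) (v0_sum hpq hpk hpl hqk hql hkl)
    (i := p) (by simp) hodd' hs'
  have hE2 := hE.trans hE'
  obtain ⟨z, hE3, hz⟩ := even_to_type4 hpq y (by rw [hE2.sqNorm_eq, hx])
    (by rw [sub_of_E hpq hE2, hd]) ⟨p, hy⟩
  exact ⟨z, hE2.trans hE3, hz⟩

/-- Type 4 vectors with the right inner product. -/
theorem type4_cases {p q : GolayPt} (hpq : p ≠ q) {x : GolayPt → ℤ} (h : Type4 x)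
    (hd : x p - x q = -4) :
    (∃ k, k ≠ p ∧ k ≠ q ∧ ∃ b, (b = 4 ∨ b = -4) ∧ x = two p k (-4) b) ∨
      (∃ k, k ≠ p ∧ k ≠ q ∧ ∃ b, (b = 4 ∨ b = -4) ∧ x = two q k 4 b) := by
  have key : ∀ (r s : GolayPt) (a b : ℤ), r ≠ s → (a = 4 ∨ a = -4) → (b = 4 ∨ b = -4) →
      x = two r s a b → (r = p ∨ r = q) →
      (∃ k, k ≠ p ∧ k ≠ q ∧ ∃ b, (b = 4 ∨ b = -4) ∧ x = two p k (-4) b) ∨
      (∃ k, k ≠ p ∧ k ≠ q ∧ ∃ b, (b = 4 ∨ b = -4) ∧ x = two q k 4 b) := by
    intro r s a b hrs ha hb hx hr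
    rcases hr with rfl | rfl
    · by_cases hsq : s = q
      · subst hsq
        rw [hx, two_left, two_right hrs] at hd
        omega
      · left
        refine ⟨s, hrs.symm, hsq, b, hb, ?_⟩
        have : a = -4 := by
          rw [hx, two_left, two_other hpq.symm (Ne.symm hsq)] at hd; omega
        rw [hx, this]
    · by_cases hsp : s = p
      · subst hsp
        rw [hx, two_left, two_right hrs] at hd
        omega
      · right
        refine ⟨s, hsp, hrs.symm, b, hb, ?_⟩
        have : a = 4 := by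
          rw [hx, two_left, two_other hpq (Ne.symm hsp)] at hd; omega
        rw [hx, this]
  obtain ⟨r, s, hrs, a, b, ha, hb, hx⟩ := eq_two_of_type4 h
  by_cases hr : r = p ∨ r = q
  · exact key r s a b hrs ha hb hx hr
  · by_cases hs : s = p ∨ s = q
    · exact key s r b a hrs.symm hb ha (by rw [hx, two_swap hrs]) hs
    · exfalso
      push Not at hr hs
      rw [hx, two_other (Ne.symm hr.1) (Ne.symm hs.1), two_other (Ne.symm hr.2) (Ne.symm hs.2)] at hd
      omega

/-- Sign flip on the second coordinate of a type 4 vector meeting `v0` in one coordinate. -/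
theorem flip_second {p q r k : GolayPt} (hpq : p ≠ q) (hr : r = p ∨ r = q) (hkp : k ≠ p)
    (hkq : k ≠ q) {a b c : ℤ} (ha : a = 4 ∨ a = -4) (hb : b = 4 ∨ b = -4) (hc : c = 4 ∨ c = -4)
    (hrk : r ≠ k) : E (v0 p q hpq) (lv r k a b hrk ha hb) (lv r k a c hrk ha hc) := by
  by_cases hbc : b = c
  · subst hbc; exact E.refl _ _
  have hbc' : c = -b := by omega
  obtain ⟨y, hE, hy1, hy2, hy3⟩ := flip_one (v := v0 p q hpq) (lv r k a b hrk ha hb) k {p, q}
    (Finset.card_le_two.trans (by decide)) (by simp [hkp, hkq])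
    (fun i hi => v0_other hpq (fun h => hi (by simp [h])) (fun h => hi (by simp [h])))
  have : y = lv r k a c hrk ha hc := by
    apply Subtype.ext
    funext i
    rw [lv_coe]
    by_cases hik : i = k
    · subst hik
      rw [hy1, lv_coe, two_right hrk, two_right hrk, hbc']
    · by_cases hir : i = r
      · subst hir
        rw [hy2 i (by rcases hr with rfl | rfl <;> simp), lv_coe, two_left, two_left]
      · rw [hy3 i (by rw [lv_coe, two_other hir hik]), two_other hir hik]
  rwa [this] at hE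

/-- The main move between type 4 vectors. -/
theorem cross_move {p q k l : GolayPt} (hpq : p ≠ q) (hpk : p ≠ k) (hpl : p ≠ l) (hqk : q ≠ k)
    (hql : q ≠ l) (hkl : k ≠ l) :
    E (v0 p q hpq) (lv p k (-4) (-4) hpk neg_four_or neg_four_or)
      (lv q l 4 4 hql four_or four_or) := by
  obtain ⟨y, hE, hy1, hy2⟩ := E_xi (v := v0 p q hpq) (lv p k (-4) (-4) hpk neg_four_or neg_four_or)
    (card_four hpq hpk hpl hqk hql hkl) (v0_zero hpq) (v0_sum hpq hpk hpl hqk hql hkl)
  rw [sum_four hpq hpk hpl hqk hql hkl, lv_coe, two_left, two_right hpk,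
    two_other hpq.symm hqk, two_other hpl.symm hkl.symm] at hy1
  have : y = lv q l 4 4 hql four_or four_or := by
    apply Subtype.ext
    funext i
    rw [lv_coe]
    by_cases hiq : i = q
    · subst hiq
      rw [hy1 i (by simp), two_left, two_other hpq.symm hqk]; rfl
    · by_cases hil : i = l
      · subst hil
        rw [hy1 i (by simp), two_right hql, two_other hpl.symm hkl.symm]; rfl
      · rw [two_other hiq hil]
        by_cases hip : i = p
        · subst hip
          rw [hy1 i (by simp), two_left]; rfl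
        · by_cases hik : i = k
          · subst hik
            rw [hy1 i (by simp), two_right hpk]; rfl
          · refine hy2 (fun j hj => ?_) i (by simp [hip, hiq, hik, hil])
            rw [lv_coe, two_other]
            · rintro rfl; exact hj (by simp)
            · rintro rfl; exact hj (by simp)
  rwa [this] at hE

/-- All minimal vectors with inner product `-16` with `v0` are equivalent. -/
theorem equiv_base {p q : GolayPt} (hpq : p ≠ q) {k₀ : GolayPt} (hk₀p : p ≠ k₀) (hk₀q : q ≠ k₀)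
    (x : leechLattice) (hx : sqNorm (x : GolayPt → ℤ) = 32)
    (hd : (x : GolayPt → ℤ) p - (x : GolayPt → ℤ) q = -4) :
    E (v0 p q hpq) x (lv p k₀ (-4) (-4) hk₀p neg_four_or neg_four_or) := by
  -- all `lv q l 4 4`
  have hY : ∀ l (hql : q ≠ l), p ≠ l →
      E (v0 p q hpq) (lv q l 4 4 hql four_or four_or)
        (lv p k₀ (-4) (-4) hk₀p neg_four_or neg_four_or) := by
    intro l hql hpl
    by_cases hlk : k₀ = l
    · subst hlk
      obtain ⟨k, hk⟩ := exists_notMem {p, q, k₀} (lt_of_le_of_lt Finset.card_le_three (by decide))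
      obtain ⟨m, hm⟩ := exists_notMem {p, q, k₀, k} (lt_of_le_of_lt Finset.card_le_four (by decide))
      simp only [Finset.mem_insert, Finset.mem_singleton, not_or] at hk hm
      have h1 := cross_move hpq (Ne.symm hk.1) hk₀p (Ne.symm hk.2.1) hk₀q hk.2.2
      have h2 := cross_move hpq (Ne.symm hk.1) (Ne.symm hm.1) (Ne.symm hk.2.1) (Ne.symm hm.2.1)
        (Ne.symm hm.2.2.2)
      have h3 := cross_move hpq hk₀p (Ne.symm hm.1) hk₀q (Ne.symm hm.2.1) (Ne.symm hm.2.2.1)
      exact (h1.symm.trans h2).trans h3.symm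
    · exact (cross_move hpq hk₀p hpl hk₀q hql hlk).symm
  have hX : ∀ k (hpk : p ≠ k), q ≠ k →
      E (v0 p q hpq) (lv p k (-4) (-4) hpk neg_four_or neg_four_or)
        (lv p k₀ (-4) (-4) hk₀p neg_four_or neg_four_or) := by
    intro k hpk hqk
    obtain ⟨l, hl⟩ := exists_notMem {p, q, k} (lt_of_le_of_lt Finset.card_le_three (by decide))
    simp only [Finset.mem_insert, Finset.mem_singleton, not_or] at hl
    exact (cross_move hpq hpk (Ne.symm hl.1) hqk (Ne.symm hl.2.1) (Ne.symm hl.2.2)).trans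
      (hY l (Ne.symm hl.2.1) (Ne.symm hl.1))
  obtain ⟨y, hE, hy⟩ := to_type4 hpq x hx hd
  refine hE.trans ?_
  have hd' : (y : GolayPt → ℤ) p - (y : GolayPt → ℤ) q = -4 := by rw [sub_of_E hpq hE, hd]
  rcases type4_cases hpq hy hd' with ⟨k, hkp, hkq, b, hb, e⟩ | ⟨k, hkp, hkq, b, hb, e⟩
  · have : y = lv p k (-4) b hkp.symm neg_four_or hb := Subtype.ext e
    rw [this]
    exact (flip_second hpq (Or.inl rfl) hkp hkq neg_four_or hb neg_four_or hkp.symm).trans
      (hX k hkp.symm hkq.symm)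
  · have : y = lv q k 4 b hkq.symm four_or hb := Subtype.ext e
    rw [this]
    exact (flip_second hpq (Or.inr rfl) hkp hkq four_or hb four_or hkq.symm).trans
      (hY k hkq.symm hkp.symm)

/-- The stabiliser of a minimal vector is transitive on the minimal vectors of inner product
`-16` with it. -/
theorem co0_transitive_pairs (v w w' : leechLattice) (hv : sqNorm (v : GolayPt → ℤ) = 32)
    (hw : sqNorm (w : GolayPt → ℤ) = 32) (hw' : sqNorm (w' : GolayPt → ℤ) = 32)
    (hd : dotInt (v : GolayPt → ℤ) (w : GolayPt → ℤ) = -16)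
    (hd' : dotInt (v : GolayPt → ℤ) (w' : GolayPt → ℤ) = -16) :
    ∃ g : ↥Co0, g • v = v ∧ g • w = w' := by
  obtain ⟨q, hq⟩ := exists_notMem {none} (by simp)
  obtain ⟨k, hk⟩ := exists_notMem {none, q} (lt_of_le_of_lt Finset.card_le_two (by decide))
  simp only [Finset.mem_insert, Finset.mem_singleton, not_or] at hq hk
  have hpq : (none : GolayPt) ≠ q := Ne.symm hq
  obtain ⟨g, hg⟩ := co0_transitive_min v (v0 none q hpq) hv (sqNorm_v0 hpq)
  have key : ∀ x : leechLattice, sqNorm (x : GolayPt → ℤ) = 32 →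
      dotInt (v : GolayPt → ℤ) (x : GolayPt → ℤ) = -16 →
      E (v0 none q hpq) (g • x) (lv none k (-4) (-4) (Ne.symm hk.1) neg_four_or neg_four_or) := by
    intro x hx hdx
    apply equiv_base hpq (Ne.symm hk.1) (Ne.symm hk.2)
    · rw [sqNorm_smul, hx]
    · rw [← dotInt_smul g v x, hg, dot_v0] at hdx
      omega
  obtain ⟨h, h1, h2⟩ := (key w hw hd).trans (key w' hw' hd').symm
  refine ⟨g⁻¹ * h * g, ?_, ?_⟩
  · rw [mul_smul, mul_smul, hg, h1, ← hg, inv_smul_smul]
  · rw [mul_smul, mul_smul, h2, inv_smul_smul]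

end Cfsg.Agent.Leech.TransPair
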