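import Mathlib

set_option autoImplicit false

/-!
Generating functions for counting integer vectors with given sum of squares, and kernel evaluation of
coefficients of natural-number polynomials by Kronecker substitution.
-/

namespace Cfsg.Agent.Leech.Gen

open Polynomial Finset

/-- Number of vectors in a finite box with prescribed "sum of weights": a coefficient of a product. -/
theorem card_piFinset_weight {ι κ : Type*} [Fintype ι] [DecidableEq ι] [DecidableEq κ]
    (A : ι → Finset κ) (f : ι → κ → ℕ) (M : ℕ) :
    ((Fintype.piFinset A).filter (fun y => ∑ i, f i (y i) = M)).card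
      = (∏ i, ∑ a ∈ A i, (X : ℕ[X]) ^ (f i a)).coeff M := by
  rw [Finset.prod_univ_sum, Polynomial.finsetSum_coeff, Finset.card_filter]
  refine Finset.sum_congr rfl fun y _ => ?_
  rw [Finset.prod_pow_eq_pow_sum, Polynomial.coeff_X_pow]
  by_cases h : ∑ i, f i (y i) = M
  · simp [h]
  · rw [if_neg h, if_neg (fun h' => h h'.symm)]

/-- Coefficients of a natural-number polynomial are bounded by its value at 1. -/
theorem coeff_le_eval_one (P : ℕ[X]) (k : ℕ) : P.coeff k ≤ P.eval 1 := by
  rw [Polynomial.eval_eq_sum, Polynomial.sum]
  simp only [one_pow, mul_one]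
  by_cases hk : k ∈ P.support
  · exact Finset.single_le_sum (f := fun n => P.coeff n) (fun _ _ => Nat.zero_le _) hk
  · rw [Polynomial.notMem_support_iff.mp hk]; exact Nat.zero_le _

/-- Kronecker substitution: when all coefficients are below `B`, the coefficients are the base-`B`
digits of the value at `B`. -/
theorem coeff_eq_digit (B : ℕ) (k : ℕ) : ∀ (P : ℕ[X]), (∀ n, P.coeff n < B) →
    P.coeff k = P.eval B / B ^ k % B := by
  induction k with
  | zero =>
    intro P hP
    have h1 : P.eval B = P.divX.eval B * B + P.coeff 0 := by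
      conv_lhs => rw [← Polynomial.divX_mul_X_add P]
      simp
    rw [h1, pow_zero, Nat.div_one, Nat.mul_add_mod_self_right, Nat.mod_eq_of_lt (hP 0)]
  | succ k ih =>
    intro P hP
    have hB : 0 < B := lt_of_le_of_lt (Nat.zero_le _) (hP 0)
    have h1 : P.eval B = P.divX.eval B * B + P.coeff 0 := by
      conv_lhs => rw [← Polynomial.divX_mul_X_add P]
      simp
    have h2 : P.eval B / B = P.divX.eval B := by
      rw [h1, mul_comm, Nat.mul_add_div hB, Nat.div_eq_of_lt (hP 0), add_zero]
    rw [pow_succ', ← Nat.div_div_eq_div_mul, h2, ← ih P.divX (fun n => by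
      rw [Polynomial.coeff_divX]; exact hP _), Polynomial.coeff_divX]

/-- Kronecker substitution with the crude bound `P(1) < B`. -/
theorem coeff_eq_eval (P : ℕ[X]) (B k : ℕ) (hB : P.eval 1 < B) :
    P.coeff k = P.eval B / B ^ k % B :=
  coeff_eq_digit B k P fun n => lt_of_le_of_lt (coeff_le_eval_one P n) hB

end Cfsg.Agent.Leech.Gen
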