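import Mathlib
import Cfsg.Prelude.Def_Sporadic_a
import Cfsg.Agent.Leech.Gen
import Cfsg.Agent.Leech.Norm

set_option autoImplicit false

/-!
Counting the vectors of `leechSet` of given sum of squares `N` (a multiple of 16), in terms of the
weight distribution of the code.
-/

namespace Cfsg.Agent.Leech.Count

open Finset Polynomial Cfsg Cfsg.Agent.Leech.Gen Cfsg.Agent.Leech.Norm

/-- integers of absolute value at most `R` congruent to `k` modulo `m` -/
noncomputable def box (m k : ℤ) (R : ℕ) : Finset ℤ := (Finset.Icc (-(R : ℤ)) R).filter (fun a => a % m = k)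

theorem mem_box {m k : ℤ} {R : ℕ} {a : ℤ} : a ∈ box m k R ↔ (-(R : ℤ) ≤ a ∧ a ≤ R) ∧ a % m = k := by
  simp [box]

/-- generating function of the squares of a finite set of integers -/
noncomputable def gf (A : Finset ℤ) : ℕ[X] := ∑ a ∈ A, (X : ℕ[X]) ^ (a.natAbs ^ 2)

theorem sum_natAbs_sq {ι : Type*} [Fintype ι] (y : ι → ℤ) :
    ((∑ i, (y i).natAbs ^ 2 : ℕ) : ℤ) = ∑ i, y i ^ 2 := by
  push_cast
  exact Finset.sum_congr rfl fun i _ => by rw [sq_abs]

/-- vectors in a box with sum of squares `M`, with one local condition on `c` and one off `c` -/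
def Y (A B : Finset ℤ) (c : Finset GolayPt) (M : ℕ) : Finset (GolayPt → ℤ) :=
  (Fintype.piFinset (fun i => if i ∈ c then A else B)).filter (fun y => ∑ i, (y i).natAbs ^ 2 = M)

theorem card_Y (A B : Finset ℤ) (c : Finset GolayPt) (M : ℕ) :
    (Y A B c M).card = (gf A ^ c.card * gf B ^ (24 - c.card)).coeff M := by
  have h := card_piFinset_weight (fun i => if i ∈ c then A else B)
    (fun (_ : GolayPt) (a : ℤ) => a.natAbs ^ 2) M
  unfold Y
  rw [h]
  congr 1
  have h1 : ∀ i : GolayPt, (∑ a ∈ (if i ∈ c then A else B), (X : ℕ[X]) ^ (a.natAbs ^ 2))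
      = if i ∈ c then gf A else gf B := by
    intro i; split_ifs <;> rfl
  rw [Finset.prod_congr rfl (fun i _ => h1 i), Finset.prod_ite, Finset.prod_const, Finset.prod_const]
  have h2 : (Finset.univ.filter fun i : GolayPt => i ∈ c) = c := by ext; simp
  have h3 : (Finset.univ.filter fun i : GolayPt => i ∉ c) = cᶜ := by ext; simp
  rw [h2, h3, Finset.card_compl]
  have h4 : Fintype.card GolayPt = 24 := by simp [GolayPt]
  rw [h4]

/-- the members of `Y` (odd on `c`, even off `c`) with sum divisible by 4 -/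
noncomputable def E (R : ℕ) (c : Finset GolayPt) (M : ℕ) : Finset (GolayPt → ℤ) :=
  (Y (box 2 1 R) (box 2 0 R) c M).filter (fun y => (∑ i, y i) % 4 = 0)

theorem mem_Y_iff {A B : Finset ℤ} {c : Finset GolayPt} {M : ℕ} {y : GolayPt → ℤ} :
    y ∈ Y A B c M ↔ (∀ i, (i ∈ c → y i ∈ A) ∧ (i ∉ c → y i ∈ B)) ∧ ∑ i, (y i).natAbs ^ 2 = M := by
  simp only [Y, mem_filter, Fintype.mem_piFinset]
  refine and_congr_left fun _ => forall_congr' fun i => ?_
  by_cases h : i ∈ c <;> simp [h]

/-- the parity of a sum of integers is the parity of the number of odd terms -/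
theorem sum_mod_two {c : Finset GolayPt} {y : GolayPt → ℤ}
    (h : ∀ i, (i ∈ c → y i % 2 = 1) ∧ (i ∉ c → y i % 2 = 0)) : (∑ i, y i) % 2 = (c.card : ℤ) % 2 := by
  have h1 : ∀ i, y i ≡ (if i ∈ c then 1 else 0) [ZMOD 2] := by
    intro i
    unfold Int.ModEq
    split_ifs with hi
    · rw [(h i).1 hi]; rfl
    · rw [(h i).2 hi]; rfl
  have h2 : (∑ i, y i) ≡ (∑ i : GolayPt, if i ∈ c then (1 : ℤ) else 0) [ZMOD 2] :=
    Int.ModEq.sum fun i _ => h1 i
  have h3 : (∑ i : GolayPt, if i ∈ c then (1 : ℤ) else 0) = c.card := by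
    rw [Finset.sum_ite_mem, Finset.univ_inter]; simp
  rw [h3] at h2
  exact h2

/-- the map changing the sign of one coordinate -/
def flip (j : GolayPt) (y : GolayPt → ℤ) : GolayPt → ℤ := fun i => if i = j then - y i else y i

theorem flip_flip (j : GolayPt) (y : GolayPt → ℤ) : flip j (flip j y) = y := by
  funext i; simp only [flip]; split_ifs <;> simp

theorem sum_flip (j : GolayPt) (y : GolayPt → ℤ) : ∑ i, flip j y i = (∑ i, y i) - 2 * y j := by
  have : ∀ i, flip j y i = y i - (if i = j then 2 * y j else 0) := by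
    intro i; simp only [flip]; split_ifs with h
    · subst h; ring
    · ring
  rw [Finset.sum_congr rfl fun i _ => this i, Finset.sum_sub_distrib, Finset.sum_ite_eq' Finset.univ j]
  simp

theorem flip_mem_Y {R : ℕ} {c : Finset GolayPt} {M : ℕ} {y : GolayPt → ℤ} (j : GolayPt)
    (hy : y ∈ Y (box 2 1 R) (box 2 0 R) c M) : flip j y ∈ Y (box 2 1 R) (box 2 0 R) c M := by
  rw [mem_Y_iff] at hy ⊢
  refine ⟨fun i => ?_, ?_⟩
  · have := hy.1 i
    simp only [mem_box, flip] at this ⊢
    split_ifs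
    · refine ⟨fun h => ?_, fun h => ?_⟩
      · have := this.1 h; omega
      · have := this.2 h; omega
    · exact this
  · rw [← hy.2]
    refine Finset.sum_congr rfl fun i _ => ?_
    simp only [flip]; split_ifs <;> simp

theorem sum_mod_two_of_mem_Y {R : ℕ} {c : Finset GolayPt} {M : ℕ} {y : GolayPt → ℤ}
    (hy : y ∈ Y (box 2 1 R) (box 2 0 R) c M) : (∑ i, y i) % 2 = (c.card : ℤ) % 2 := by
  rw [mem_Y_iff] at hy
  refine sum_mod_two fun i => ?_
  have := hy.1 i
  simp only [mem_box] at this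
  exact ⟨fun h => (this.1 h).2, fun h => (this.2 h).2⟩

/-- For a nonempty code word exactly half of the vectors have the right sum. -/
theorem two_mul_card_E {R : ℕ} {c : Finset GolayPt} {M : ℕ} (hc : c.Nonempty) (h2 : 2 ∣ c.card) :
    2 * (E R c M).card = (Y (box 2 1 R) (box 2 0 R) c M).card := by
  obtain ⟨j, hj⟩ := hc
  have h1 := Finset.card_filter_add_card_filter_not (s := Y (box 2 1 R) (box 2 0 R) c M)
    (fun y => (∑ i, y i) % 4 = 0)
  have h3 : ((Y (box 2 1 R) (box 2 0 R) c M).filter (fun y => ¬ (∑ i, y i) % 4 = 0)).card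
      = (E R c M).card := by
    refine Finset.card_nbij' (flip j) (flip j) ?_ ?_ (fun y _ => flip_flip j y)
      (fun y _ => flip_flip j y)
    · intro y hy
      simp only [coe_filter, Set.mem_ofPred_eq, E] at hy ⊢
      refine ⟨flip_mem_Y j hy.1, ?_⟩
      have hs := sum_mod_two_of_mem_Y hy.1
      have hyj : y j % 2 = 1 := (mem_box.mp (((mem_Y_iff.mp hy.1).1 j).1 hj)).2
      rw [sum_flip]
      omega
    · intro y hy
      simp only [coe_filter, Set.mem_ofPred_eq, E] at hy ⊢
      refine ⟨flip_mem_Y j hy.1, ?_⟩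
      have hyj : y j % 2 = 1 := (mem_box.mp (((mem_Y_iff.mp hy.1).1 j).1 hj)).2
      rw [sum_flip]
      omega
  rw [h3] at h1
  rw [← h1]
  change 2 * (E R c M).card = (E R c M).card + (E R c M).card
  ring

theorem sq_emod_eight_of_even {a : ℤ} (h : a % 2 = 0) : a ^ 2 % 8 = (2 * a) % 8 := by
  obtain ⟨t, rfl⟩ : ∃ t, a = 2 * t := ⟨a / 2, by omega⟩
  rcases Int.emod_two_eq_zero_or_one t with h' | h'
  · obtain ⟨s, rfl⟩ : ∃ s, t = 2 * s := ⟨t / 2, by omega⟩
    have : (2 * (2 * s)) ^ 2 = 8 * (2 * s ^ 2) := by ring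
    rw [this]; omega
  · obtain ⟨s, rfl⟩ : ∃ s, t = 2 * s + 1 := ⟨t / 2, by omega⟩
    have : (2 * (2 * s + 1)) ^ 2 = 8 * (2 * s ^ 2 + 2 * s) + 4 := by ring
    rw [this]; omega

/-- For the zero word all or none of the vectors have the right sum. -/
theorem card_E_empty {R : ℕ} {M : ℕ} (h4 : 4 ∣ M) :
    (E R ∅ M).card = if 8 ∣ M then (Y (box 2 1 R) (box 2 0 R) ∅ M).card else 0 := by
  have key : ∀ y ∈ Y (box 2 1 R) (box 2 0 R) ∅ M, (2 * ∑ i, y i) % 8 = (M : ℤ) % 8 := by
    intro y hy
    rw [mem_Y_iff] at hy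
    have h1 : ∀ i, y i ^ 2 ≡ 2 * y i [ZMOD 8] := fun i =>
      sq_emod_eight_of_even (mem_box.mp ((hy.1 i).2 (Finset.notMem_empty i))).2
    have h2 : (∑ i, y i ^ 2) ≡ ∑ i, 2 * y i [ZMOD 8] := Int.ModEq.sum fun i _ => h1 i
    rw [← sum_natAbs_sq, hy.2, ← Finset.mul_sum] at h2
    exact h2.symm
  split_ifs with h
  · unfold E
    rw [Finset.filter_true_of_mem]
    intro y hy
    have := key y hy
    omega
  · unfold E
    rw [Finset.filter_false_of_mem, Finset.card_empty]
    intro y hy
    have := key y hy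
    omega

/-- odd vectors: congruent to 3 mod 4 on `c` and to 1 mod 4 off `c` -/
noncomputable def Z (R : ℕ) (c : Finset GolayPt) (N : ℕ) : Finset (GolayPt → ℤ) := Y (box 4 3 R) (box 4 1 R) c N

theorem gf_box_three (R : ℕ) : gf (box 4 3 R) = gf (box 4 1 R) := by
  unfold gf
  refine Finset.sum_nbij' (fun a => -a) (fun a => -a) ?_ ?_ ?_ ?_ ?_
  · intro a ha; simp only [mem_box] at ha ⊢; omega
  · intro a ha; simp only [mem_box] at ha ⊢; omega
  · intro a _; ring
  · intro a _; ring
  · intro a _; simp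

theorem card_Z (R : ℕ) (c : Finset GolayPt) (N : ℕ) :
    (Z R c N).card = (gf (box 4 1 R) ^ 24).coeff N := by
  unfold Z
  rw [card_Y, gf_box_three, ← pow_add, Nat.add_sub_cancel']
  exact (Finset.card_le_univ c).trans (by simp [GolayPt])

theorem sq_emod_sixteen_of_one {a : ℤ} (h : a % 4 = 1) : a ^ 2 % 16 = (2 * a - 1) % 16 := by
  obtain ⟨t, rfl⟩ : ∃ t, a = 4 * t + 1 := ⟨a / 4, by omega⟩
  have : (4 * t + 1) ^ 2 = 16 * t ^ 2 + 8 * t + 1 := by ring
  rw [this]; omega

theorem sum_mod_eight_of_mem_Z {R : ℕ} {c : Finset GolayPt} {N : ℕ} {x : GolayPt → ℤ}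
    (hc : 4 ∣ c.card) (hN : 16 ∣ N) (hx : x ∈ Z R c N) : (∑ i, x i) % 8 = 4 := by
  unfold Z at hx
  rw [mem_Y_iff] at hx
  obtain ⟨hx, hs⟩ := hx
  have h1 : ∀ i, x i ^ 2 ≡ (2 * (x i - 2 * if i ∈ c then x i else 0) - 1) [ZMOD 16] := by
    intro i
    by_cases hi : i ∈ c
    · have h3 := (mem_box.mp ((hx i).1 hi)).2
      have h4 : (-(x i)) % 4 = 1 := by omega
      have h5 := sq_emod_sixteen_of_one h4
      rw [if_pos hi]
      have h6 : 2 * (x i - 2 * x i) - 1 = 2 * (-(x i)) - 1 := by ring
      rw [neg_sq] at h5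
      rw [h6]
      exact h5
    · have h3 := (mem_box.mp ((hx i).2 hi)).2
      have h5 := sq_emod_sixteen_of_one h3
      rw [if_neg hi]
      have h6 : 2 * (x i - 2 * 0) - 1 = 2 * (x i) - 1 := by ring
      rw [h6]
      exact h5
  have h2 : (∑ i, x i ^ 2) ≡ ∑ i, (2 * (x i - 2 * if i ∈ c then x i else 0) - 1) [ZMOD 16] :=
    Int.ModEq.sum fun i _ => h1 i
  rw [← sum_natAbs_sq, hs, Finset.sum_sub_distrib, ← Finset.mul_sum, Finset.sum_sub_distrib,
    ← Finset.mul_sum] at h2
  have h3 : (∑ i : GolayPt, (1 : ℤ)) = 24 := by simp [GolayPt]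
  have h4 : (∑ i, if i ∈ c then x i else 0) ≡ (∑ i : GolayPt, if i ∈ c then (3 : ℤ) else 0) [ZMOD 4] := by
    refine Int.ModEq.sum fun i _ => ?_
    split_ifs with hi
    · exact (mem_box.mp ((hx i).1 hi)).2
    · rfl
  have h5 : (∑ i : GolayPt, if i ∈ c then (3 : ℤ) else 0) = 3 * c.card := by
    rw [Finset.sum_ite_mem, Finset.univ_inter]; simp [mul_comm]
  rw [h5] at h4
  rw [h3] at h2
  unfold Int.ModEq at h2 h4
  omega

/-- coordinates of a vector of bounded norm are bounded -/
theorem natAbs_le_of_sum {R M : ℕ} (hR : M < (R + 1) ^ 2) {y : GolayPt → ℤ}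
    (hy : ∑ i, (y i).natAbs ^ 2 = M) (i : GolayPt) : -(R : ℤ) ≤ y i ∧ y i ≤ R := by
  have h1 : (y i).natAbs ^ 2 ≤ M := by
    rw [← hy]
    exact Finset.single_le_sum (f := fun i => (y i).natAbs ^ 2) (fun _ _ => Nat.zero_le _)
      (Finset.mem_univ i)
  have h2 : (y i).natAbs < R + 1 := by
    by_contra h
    have := Nat.pow_le_pow_left (not_lt.mp h) 2
    omega
  omega

/-- The vectors of `leechSet` of norm `4 * M` (with `4 ∣ M`), as an explicit finite set. -/
theorem leechSet_norm_eq (C : Finset (Finset GolayPt)) (hC : ∀ c, c ∈ C ↔ c ∈ GS)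
    (hw : ∀ c ∈ C, 4 ∣ c.card) (M R : ℕ) (hM : 4 ∣ M) (hR : 4 * M < (R + 1) ^ 2) :
    {x : GolayPt → ℤ | x ∈ leechSet ∧ sqNorm x = ((4 * M : ℕ) : ℤ)}
      = ↑((C.biUnion fun c => (E R c M).image (fun y i => 2 * y i)) ∪ C.biUnion fun c => Z R c (4 * M)) := by
  ext x
  simp only [Set.mem_ofPred_eq, coe_union, Set.mem_union, mem_coe, mem_biUnion, mem_image]
  have hRM : M < (R + 1) ^ 2 := by omega
  constructor
  · rintro ⟨hx, hn⟩
    unfold sqNorm at hn
    rw [← sum_natAbs_sq] at hn
    have hn' : ∑ i, (x i).natAbs ^ 2 = 4 * M := by exact_mod_cast hn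
    rcases parity_of_mem hx with h | h
    · left
      rw [mem_iff_of_even h] at hx
      refine ⟨_, (hC _).mpr hx.2, fun i => x i / 2, ?_, ?_⟩
      · have hy : ∑ i, (x i / 2).natAbs ^ 2 = M := by
          have : ∀ i, (x i).natAbs ^ 2 = 4 * (x i / 2).natAbs ^ 2 := by
            intro i
            have h2 : (x i).natAbs = 2 * (x i / 2).natAbs := by have := h i; omega
            rw [h2]; ring
          rw [Finset.sum_congr rfl fun i _ => this i, ← Finset.mul_sum] at hn'
          omega
        unfold E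
        rw [mem_filter, mem_Y_iff]
        refine ⟨⟨fun i => ?_, hy⟩, ?_⟩
        · have hb := natAbs_le_of_sum (y := fun i => x i / 2) hRM hy i
          simp only [mem_filter, mem_univ, true_and, mem_box]
          have := h i
          refine ⟨fun h' => ⟨hb, ?_⟩, fun h' => ⟨hb, ?_⟩⟩ <;> omega
        · have : ∑ i, x i = 2 * ∑ i, x i / 2 := by
            rw [Finset.mul_sum]; exact Finset.sum_congr rfl fun i _ => by have := h i; omega
          have h3 := hx.1
          change (∑ i, x i / 2) % 4 = 0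
          omega
      · funext i; have := h i; simp only []; omega
    · right
      rw [mem_iff_of_odd h] at hx
      refine ⟨_, (hC _).mpr hx.2, ?_⟩
      unfold Z
      rw [mem_Y_iff]
      refine ⟨fun i => ?_, hn'⟩
      have hb := natAbs_le_of_sum hR hn' i
      simp only [mem_filter, mem_univ, true_and, mem_box]
      have := h i
      refine ⟨fun h' => ⟨hb, h'⟩, fun h' => ⟨hb, by omega⟩⟩
  · rintro (⟨c, hc, y, hy, rfl⟩ | ⟨c, hc, hx⟩)
    · unfold E at hy
      rw [mem_filter, mem_Y_iff] at hy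
      obtain ⟨⟨hy, hn⟩, hs⟩ := hy
      have hev : ∀ i, (2 * y i) % 2 = 0 := fun i => by omega
      refine ⟨(mem_iff_of_even (x := fun i => 2 * y i) hev).mpr ⟨?_, ?_⟩, ?_⟩
      · rw [← Finset.mul_sum]; omega
      · have : (Finset.univ.filter fun i => (2 * y i) % 4 = 2) = c := by
          ext i
          simp only [mem_filter, mem_univ, true_and]
          have := hy i
          simp only [mem_box] at this
          constructor
          · intro h; by_contra h'; have := this.2 h'; omega
          · intro h; have := this.1 h; omega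
        rw [this]; exact (hC c).mp hc
      · unfold sqNorm
        have : ∀ i, (2 * y i) ^ 2 = 4 * y i ^ 2 := fun i => by ring
        rw [Finset.sum_congr rfl fun i _ => this i, ← Finset.mul_sum, ← sum_natAbs_sq, hn]
        push_cast; ring
    · have hsum := sum_mod_eight_of_mem_Z (hw c hc) (by omega) hx
      unfold Z at hx
      rw [mem_Y_iff] at hx
      obtain ⟨hx, hn⟩ := hx
      have hod : ∀ i, x i % 2 = 1 := fun i => by
        have := hx i
        simp only [mem_box] at this
        by_cases h : i ∈ c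
        · have := this.1 h; omega
        · have := this.2 h; omega
      refine ⟨(mem_iff_of_odd hod).mpr ⟨hsum, ?_⟩, ?_⟩
      · have : (Finset.univ.filter fun i => x i % 4 = 3) = c := by
          ext i
          simp only [mem_filter, mem_univ, true_and]
          have := hx i
          simp only [mem_box] at this
          constructor
          · intro h; by_contra h'; have := this.2 h'; omega
          · intro h; have := this.1 h; omega
        rw [this]; exact (hC c).mp hc
      · unfold sqNorm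
        rw [← sum_natAbs_sq, hn]

/-- Number of vectors of `leechSet` of norm `4 * M` as a sum over the code words. -/
theorem ncard_leechSet_norm (C : Finset (Finset GolayPt)) (hC : ∀ c, c ∈ C ↔ c ∈ GS)
    (hw : ∀ c ∈ C, 4 ∣ c.card) (M R : ℕ) (hM : 4 ∣ M) (hR : 4 * M < (R + 1) ^ 2) :
    {x : GolayPt → ℤ | x ∈ leechSet ∧ sqNorm x = ((4 * M : ℕ) : ℤ)}.ncard
      = ∑ c ∈ C, (E R c M).card + C.card * (gf (box 4 1 R) ^ 24).coeff (4 * M) := by
  rw [leechSet_norm_eq C hC hw M R hM hR, Set.ncard_coe_finset, Finset.card_union_of_disjoint,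
    Finset.card_biUnion, Finset.card_biUnion]
  · congr 1
    · refine Finset.sum_congr rfl fun c _ => Finset.card_image_of_injective _ ?_
      intro y y' h
      funext i
      have := congrFun h i
      simp only at this
      omega
    · rw [Finset.sum_congr rfl fun c _ => card_Z R c (4 * M), Finset.sum_const, smul_eq_mul]
  · intro c _ d _ hcd
    rw [Function.onFun, Finset.disjoint_left]
    intro x hx hx'
    apply hcd
    unfold Z at hx hx'
    rw [mem_Y_iff] at hx hx'
    ext i
    have h1 := hx.1 i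
    have h2 := hx'.1 i
    simp only [mem_box] at h1 h2
    constructor
    · intro h; by_contra h'; have := h1.1 h; have := h2.2 h'; omega
    · intro h; by_contra h'; have := h2.1 h; have := h1.2 h'; omega
  · intro c _ d _ hcd
    rw [Function.onFun, Finset.disjoint_left]
    intro x hx hx'
    apply hcd
    rw [mem_image] at hx hx'
    obtain ⟨y, hy, rfl⟩ := hx
    obtain ⟨y', hy', hyy⟩ := hx'
    unfold E at hy hy'
    rw [mem_filter, mem_Y_iff] at hy hy'
    ext i
    have h1 := hy.1.1 i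
    have h2 := hy'.1.1 i
    have h3 := congrFun hyy i
    simp only [mem_box] at h1 h2 h3
    constructor
    · intro h; by_contra h'; have := h1.1 h; have := h2.2 h'; omega
    · intro h; by_contra h'; have := h2.1 h; have := h1.2 h'; omega
  · rw [Finset.disjoint_left]
    intro x hx hx'
    rw [mem_biUnion] at hx hx'
    obtain ⟨c, _, hx⟩ := hx
    obtain ⟨d, _, hx'⟩ := hx'
    rw [mem_image] at hx
    obtain ⟨y, _, rfl⟩ := hx
    unfold Z at hx'
    rw [mem_Y_iff] at hx'
    have h := hx'.1 none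
    simp only [mem_box] at h
    by_cases hd : (none : GolayPt) ∈ d
    · have := h.1 hd; omega
    · have := h.2 hd; omega

end Cfsg.Agent.Leech.Count
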