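import Mathlib
import Cfsg.Prelude.Def_Sporadic_a
import Cfsg.Agent.Leech.Gen
import Cfsg.Agent.Leech.Norm
import Cfsg.Agent.Leech.Count

set_option autoImplicit false

/-!
Numerical evaluation: the numbers of vectors of `leechSet` of norms 32, 48, 64 from the weight
distribution of the code.
-/

namespace Cfsg.Agent.Leech.CountEval

open Finset Polynomial Cfsg Cfsg.Agent.Leech.Gen Cfsg.Agent.Leech.Norm Cfsg.Agent.Leech.Count

theorem box_odd : box 2 1 8 = {-7, -5, -3, -1, 1, 3, 5, 7} := by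
  ext a
  simp only [mem_box, mem_insert, mem_singleton]
  constructor
  · rintro ⟨⟨h1, h2⟩, h3⟩
    push_cast at h1 h2
    omega
  · intro h
    push_cast
    omega

theorem box_even : box 2 0 8 = {-8, -6, -4, -2, 0, 2, 4, 6, 8} := by
  ext a
  simp only [mem_box, mem_insert, mem_singleton]
  constructor
  · rintro ⟨⟨h1, h2⟩, h3⟩
    push_cast at h1 h2
    omega
  · intro h
    push_cast
    omega

theorem box_one : box 4 1 8 = {-7, -3, 1, 5} := by
  ext a
  simp only [mem_box, mem_insert, mem_singleton]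
  constructor
  · rintro ⟨⟨h1, h2⟩, h3⟩
    push_cast at h1 h2
    omega
  · intro h
    push_cast
    omega

theorem eval_odd (B : ℕ) : (gf (box 2 1 8)).eval B = 2 * (B + B ^ 9 + B ^ 25 + B ^ 49) := by
  rw [box_odd]
  unfold gf
  simp
  ring

theorem eval_even (B : ℕ) : (gf (box 2 0 8)).eval B = 1 + 2 * (B ^ 4 + B ^ 16 + B ^ 36 + B ^ 64) := by
  rw [box_even]
  unfold gf
  simp
  ring

theorem eval_one (B : ℕ) : (gf (box 4 1 8)).eval B = B + B ^ 9 + B ^ 25 + B ^ 49 := by
  rw [box_one]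
  unfold gf
  simp
  ring

/-- the digit formula for even vectors, `B = 2 ^ 80` -/
def evenVal (w M : ℕ) : ℕ :=
  (2 * (2 ^ 80 + (2 ^ 80) ^ 9 + (2 ^ 80) ^ 25 + (2 ^ 80) ^ 49)) ^ w
    * (1 + 2 * ((2 ^ 80) ^ 4 + (2 ^ 80) ^ 16 + (2 ^ 80) ^ 36 + (2 ^ 80) ^ 64)) ^ (24 - w)
    / (2 ^ 80) ^ M % 2 ^ 80

def oddVal (N : ℕ) : ℕ :=
  (2 ^ 80 + (2 ^ 80) ^ 9 + (2 ^ 80) ^ 25 + (2 ^ 80) ^ 49) ^ 24 / (2 ^ 80) ^ N % 2 ^ 80

theorem coeff_even (w M : ℕ) (hw : w ≤ 24) :
    (gf (box 2 1 8) ^ w * gf (box 2 0 8) ^ (24 - w)).coeff M = evenVal w M := by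
  rw [coeff_eq_eval _ (2 ^ 80) M]
  · rw [eval_mul, eval_pow, eval_pow, eval_odd, eval_even]
    rfl
  · rw [eval_mul, eval_pow, eval_pow, eval_odd, eval_even]
    calc (2 * (1 + 1 ^ 9 + 1 ^ 25 + 1 ^ 49)) ^ w * (1 + 2 * (1 ^ 4 + 1 ^ 16 + 1 ^ 36 + 1 ^ 64)) ^ (24 - w)
        ≤ 9 ^ w * 9 ^ (24 - w) := Nat.mul_le_mul (Nat.pow_le_pow_left (by norm_num) w) (by norm_num)
      _ = 9 ^ 24 := by rw [← pow_add, Nat.add_sub_cancel' hw]
      _ < 2 ^ 80 := by norm_num

theorem coeff_odd (N : ℕ) : (gf (box 4 1 8) ^ 24).coeff N = oddVal N := by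
  rw [coeff_eq_eval _ (2 ^ 80) N]
  · rw [eval_pow, eval_one]
    rfl
  · rw [eval_pow, eval_one]
    norm_num

/-- twice the number of even vectors belonging to a code word of weight `w` -/
def evenTwice (w M : ℕ) : ℕ := if w = 0 then (if 8 ∣ M then 2 * evenVal 0 M else 0) else evenVal w M

theorem two_mul_card_E_eq (c : Finset GolayPt) (hc : 4 ∣ c.card) (M : ℕ) (hM : 4 ∣ M) :
    2 * (E 8 c M).card = evenTwice c.card M := by
  unfold evenTwice
  rcases Finset.eq_empty_or_nonempty c with rfl | h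
  · rw [card_E_empty hM, card_Y, if_pos Finset.card_empty, Finset.card_empty,
      coeff_even 0 M (Nat.zero_le _)]
    split_ifs <;> rfl
  · rw [two_mul_card_E h (dvd_trans (by norm_num) hc), card_Y,
      if_neg (Finset.card_pos.mpr h).ne', coeff_even]
    exact (Finset.card_le_univ c).trans (by simp [GolayPt])

theorem ncard_leechSet (C : Finset (Finset GolayPt)) (hC : ∀ c, c ∈ C ↔ c ∈ GS)
    (hw : ∀ c ∈ C, c.card = 0 ∨ c.card = 8 ∨ c.card = 12 ∨ c.card = 16 ∨ c.card = 24)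
    (h8 : (C.filter fun c => c.card = 8).card = 759)
    (h12 : (C.filter fun c => c.card = 12).card = 2576)
    (M : ℕ) (hM : 4 ∣ M) (hR : 4 * M < 81) :
    2 * {x : GolayPt → ℤ | x ∈ leechSet ∧ sqNorm x = ((4 * M : ℕ) : ℤ)}.ncard
      = (evenTwice 0 M + 759 * evenTwice 8 M + 2576 * evenTwice 12 M + 759 * evenTwice 16 M
        + evenTwice 24 M) + 2 * (4096 * oddVal (4 * M)) := by
  have hw4 : ∀ c ∈ C, 4 ∣ c.card := by
    intro c hc
    rcases hw c hc with h | h | h | h | h <;> rw [h] <;> norm_num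
  have hcompl : ∀ c, c ∈ C → cᶜ ∈ C := fun c hc => (hC _).mpr (compl_mem_GS ((hC c).mp hc))
  have hcard : Fintype.card GolayPt = 24 := by simp [GolayPt]
  have hcc : ∀ c : Finset GolayPt, cᶜ.card = 24 - c.card := fun c => by
    rw [Finset.card_compl, hcard]
  have hle : ∀ c : Finset GolayPt, c.card ≤ 24 := fun c => by
    rw [← hcard]; exact Finset.card_le_univ c
  have h16 : (C.filter fun c => c.card = 16).card = 759 := by
    rw [← h8]
    refine Finset.card_nbij' (fun c => cᶜ) (fun c => cᶜ) ?_ ?_ (fun c _ => compl_compl c)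
      (fun c _ => compl_compl c)
    · intro c hc
      simp only [coe_filter, Set.mem_ofPred_eq] at hc ⊢
      exact ⟨hcompl c hc.1, by rw [hcc, hc.2]⟩
    · intro c hc
      simp only [coe_filter, Set.mem_ofPred_eq] at hc ⊢
      exact ⟨hcompl c hc.1, by rw [hcc, hc.2]⟩
  have h0 : (C.filter fun c => c.card = 0).card = 1 := by
    rw [Finset.card_eq_one]
    refine ⟨∅, ?_⟩
    ext c
    simp only [mem_filter, mem_singleton, Finset.card_eq_zero]
    constructor
    · exact fun h => h.2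
    · rintro rfl; exact ⟨(hC _).mpr empty_mem_GS, rfl⟩
  have h24 : (C.filter fun c => c.card = 24).card = 1 := by
    rw [Finset.card_eq_one]
    refine ⟨Finset.univ, ?_⟩
    ext c
    simp only [mem_filter, mem_singleton]
    constructor
    · rintro ⟨-, h⟩
      rw [← Finset.card_eq_iff_eq_univ, h, hcard]
    · rintro rfl; exact ⟨(hC _).mpr univ_mem_GS, by rw [Finset.card_univ, hcard]⟩
  have hmaps : ∀ c ∈ C, c.card ∈ ({0, 8, 12, 16, 24} : Finset ℕ) := by
    intro c hc
    simp only [mem_insert, mem_singleton]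
    exact hw c hc
  have hsum : ∀ g : ℕ → ℕ, ∑ c ∈ C, g c.card = g 0 + 759 * g 8 + 2576 * g 12 + 759 * g 16 + g 24 := by
    intro g
    rw [← Finset.sum_fiberwise_of_maps_to hmaps]
    have : ∀ j ∈ ({0, 8, 12, 16, 24} : Finset ℕ), ∑ c ∈ C with c.card = j, g c.card
        = (C.filter fun c => c.card = j).card * g j := by
      intro j _
      rw [Finset.sum_congr rfl (g := fun _ => g j), Finset.sum_const, smul_eq_mul]
      intro c hc
      rw [(mem_filter.mp hc).2]
    rw [Finset.sum_congr rfl this]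
    rw [Finset.sum_insert (by decide), Finset.sum_insert (by decide), Finset.sum_insert (by decide),
      Finset.sum_insert (by decide), Finset.sum_singleton, h0, h8, h12, h16, h24]
    ring
  have hCcard : C.card = 4096 := by
    have := hsum (fun _ => 1)
    simpa using this
  rw [ncard_leechSet_norm C hC hw4 M 8 hM (by norm_num; omega), mul_add, Finset.mul_sum,
    Finset.sum_congr rfl (fun c hc => two_mul_card_E_eq c (hw4 c hc) M hM),
    hsum (fun w => evenTwice w M), hCcard, coeff_odd]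

theorem count32 (C : Finset (Finset GolayPt)) (hC : ∀ c, c ∈ C ↔ c ∈ GS)
    (hw : ∀ c ∈ C, c.card = 0 ∨ c.card = 8 ∨ c.card = 12 ∨ c.card = 16 ∨ c.card = 24)
    (h8 : (C.filter fun c => c.card = 8).card = 759)
    (h12 : (C.filter fun c => c.card = 12).card = 2576) :
    {x : GolayPt → ℤ | x ∈ leechSet ∧ sqNorm x = 32}.ncard = 196560 := by
  have h := ncard_leechSet C hC hw h8 h12 8 (by norm_num) (by norm_num)
  have h2 : (evenTwice 0 8 + 759 * evenTwice 8 8 + 2576 * evenTwice 12 8 + 759 * evenTwice 16 8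
        + evenTwice 24 8) + 2 * (4096 * oddVal (4 * 8)) = 2 * 196560 := by decide +kernel
  rw [h2] at h
  exact Nat.eq_of_mul_eq_mul_left (by norm_num) h

theorem count48 (C : Finset (Finset GolayPt)) (hC : ∀ c, c ∈ C ↔ c ∈ GS)
    (hw : ∀ c ∈ C, c.card = 0 ∨ c.card = 8 ∨ c.card = 12 ∨ c.card = 16 ∨ c.card = 24)
    (h8 : (C.filter fun c => c.card = 8).card = 759)
    (h12 : (C.filter fun c => c.card = 12).card = 2576) :
    {x : GolayPt → ℤ | x ∈ leechSet ∧ sqNorm x = 48}.ncard = 16773120 := by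
  have h := ncard_leechSet C hC hw h8 h12 12 (by norm_num) (by norm_num)
  have h2 : (evenTwice 0 12 + 759 * evenTwice 8 12 + 2576 * evenTwice 12 12 + 759 * evenTwice 16 12
        + evenTwice 24 12) + 2 * (4096 * oddVal (4 * 12)) = 2 * 16773120 := by decide +kernel
  rw [h2] at h
  exact Nat.eq_of_mul_eq_mul_left (by norm_num) h

theorem count64 (C : Finset (Finset GolayPt)) (hC : ∀ c, c ∈ C ↔ c ∈ GS)
    (hw : ∀ c ∈ C, c.card = 0 ∨ c.card = 8 ∨ c.card = 12 ∨ c.card = 16 ∨ c.card = 24)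
    (h8 : (C.filter fun c => c.card = 8).card = 759)
    (h12 : (C.filter fun c => c.card = 12).card = 2576) :
    {x : GolayPt → ℤ | x ∈ leechSet ∧ sqNorm x = 64}.ncard = 398034000 := by
  have h := ncard_leechSet C hC hw h8 h12 16 (by norm_num) (by norm_num)
  have h2 : (evenTwice 0 16 + 759 * evenTwice 8 16 + 2576 * evenTwice 12 16 + 759 * evenTwice 16 16
        + evenTwice 24 16) + 2 * (4096 * oddVal (4 * 16)) = 2 * 398034000 := by decide +kernel
  rw [h2] at h
  exact Nat.eq_of_mul_eq_mul_left (by norm_num) h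

end Cfsg.Agent.Leech.CountEval
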