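import Mathlib
import Cfsg.Prelude.Def_Sporadic_a
import Cfsg.Agent.Leech.CountEval
import Cfsg.Agent.SporadicA.LeechSet
import Cfsg.Agent.SporadicA.GolayWeight
import Cfsg.Agent.SporadicA.GolayCount

set_option autoImplicit false

/-!
The finite set of code word supports with its weight distribution, and the numbers of lattice vectors
of norms 32, 48, 64.
-/

namespace Cfsg.Agent.Leech.CountFinal

open Finset Cfsg Cfsg.Agent.Leech.Norm Cfsg.Agent.Leech.CountEval

open Classical in
/-- the supports of the code words as a finite set -/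
noncomputable def codeFin : Finset (Finset GolayPt) := Finset.univ.filter fun c => c ∈ GS

theorem mem_codeFin (c : Finset GolayPt) : c ∈ codeFin ↔ c ∈ GS := by
  classical
  simp [codeFin]

theorem weight_codeFin : ∀ c ∈ codeFin,
    c.card = 0 ∨ c.card = 8 ∨ c.card = 12 ∨ c.card = 16 ∨ c.card = 24 := by
  intro c hc
  rw [mem_codeFin] at hc
  obtain ⟨w, hw, rfl⟩ := hc
  exact Cfsg.Agent.SporadicA.GolayWeight.weight_cases hw

theorem card_filter_codeFin (n : ℕ) :
    (codeFin.filter fun c => c.card = n).card = (wordsOfWeight (golayCode : Set (GolayPt → ZMod 2)) n).ncard := by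
  rw [← Set.ncard_coe_finset]
  congr 1
  ext c
  simp only [coe_filter, Set.mem_ofPred_eq, mem_codeFin]
  exact Iff.rfl

theorem card_codeFin_eight : (codeFin.filter fun c => c.card = 8).card = 759 := by
  rw [card_filter_codeFin]
  exact Cfsg.Agent.SporadicA.GolayCount.octads_ncard

theorem card_codeFin_twelve : (codeFin.filter fun c => c.card = 12).card = 2576 := by
  rw [card_filter_codeFin]
  exact Cfsg.Agent.SporadicA.GolayCount.dodecads_ncard

theorem set_eq (N : ℤ) : {x : GolayPt → ℤ | x ∈ leechLattice ∧ sqNorm x = N}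
    = {x : GolayPt → ℤ | x ∈ leechSet ∧ sqNorm x = N} := by
  ext x
  simp only [Set.mem_ofPred_eq, Cfsg.Agent.SporadicA.LeechSet.mem_leechLattice_iff]

theorem ncard32 : {x : GolayPt → ℤ | x ∈ leechLattice ∧ sqNorm x = 32}.ncard = 196560 := by
  rw [set_eq]
  exact count32 codeFin mem_codeFin weight_codeFin card_codeFin_eight card_codeFin_twelve

theorem ncard48 : {x : GolayPt → ℤ | x ∈ leechLattice ∧ sqNorm x = 48}.ncard = 16773120 := by
  rw [set_eq]
  exact count48 codeFin mem_codeFin weight_codeFin card_codeFin_eight card_codeFin_twelve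

theorem ncard64 : {x : GolayPt → ℤ | x ∈ leechLattice ∧ sqNorm x = 64}.ncard = 398034000 := by
  rw [set_eq]
  exact count64 codeFin mem_codeFin weight_codeFin card_codeFin_eight card_codeFin_twelve

end Cfsg.Agent.Leech.CountFinal
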