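import Cfsg.Agent.Leech.FrameTriplesOf
import Cfsg.Agent.SporadicStructure.OrthPairs
import Cfsg.Agent.S0391
import Cfsg.Agent.S1569

/-!
Transitivity of `Co0` on the vectors of sum of squares 64, from the transitivity on ordered pairs of
orthogonal minimal vectors and the size of crosses.
-/

set_option autoImplicit false
open Cfsg

namespace Cfsg.Agent.Leech.Trans64

open Cfsg.Agent.Leech.FrameAux Cfsg.Agent.Leech.FrameTriplesOf

/-- A vector of sum of squares 64 is a sum of two orthogonal minimal vectors. -/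
theorem exists_orth_sum (s : leechLattice) (hs : sqNorm (s : GolayPt → ℤ) = 64) :
    ∃ z z' : leechLattice, sqNorm (z : GolayPt → ℤ) = 32 ∧ sqNorm (z' : GolayPt → ℤ) = 32 ∧
      dotInt (z : GolayPt → ℤ) (z' : GolayPt → ℤ) = 0 ∧ s = z + z' := by
  have h48 := Cfsg.Agent.S1569.result s s.2 hs
  -- some member of the cross is different from `±s`
  obtain ⟨y, hy, hy1, hy2⟩ : ∃ y ∈ cross (s : GolayPt → ℤ), y ≠ s ∧ y ≠ -s := by
    by_contra hcon
    push Not at hcon
    have hsub : cross (s : GolayPt → ℤ) ⊆ {(s : GolayPt → ℤ), -(s : GolayPt → ℤ)} := by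
      intro y hy
      by_cases h : y = s
      · exact Or.inl h
      · exact Or.inr (hcon y hy h)
    have := Set.ncard_le_ncard hsub (Set.toFinite _)
    have h2 : ({(s : GolayPt → ℤ), -(s : GolayPt → ℤ)} : Set (GolayPt → ℤ)).ncard ≤ 2 :=
      (Set.ncard_insert_le _ _).trans (by rw [Set.ncard_singleton])
    omega
  obtain ⟨hyL, hyn, z, hzL, hz⟩ := hy
  rw [hs] at hyn
  have hz2 : (s : GolayPt → ℤ) - y = z + z := by rw [hz]; exact two_nsmul z
  have hyz : y = (s : GolayPt → ℤ) - (z + z) := by rw [← hz2]; abel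
  have hz'L : (s : GolayPt → ℤ) - z ∈ leechLattice := leechLattice.sub_mem s.2 hzL
  have hn1 : sqNorm y = 64 - 4 * dotInt (s : GolayPt → ℤ) z + 4 * sqNorm z := by
    rw [hyz, sqNorm_sub, hs, dot_add_right, sqNorm_add, dot_self]; ring
  have hzne : z ≠ 0 := by
    rintro rfl
    apply hy1
    rw [hyz]; simp
  have hz'ne : (s : GolayPt → ℤ) - z ≠ 0 := by
    intro h
    apply hy2
    have : (s : GolayPt → ℤ) = z := sub_eq_zero.1 h
    rw [hyz, ← this]; abel
  have hzn : 32 ≤ sqNorm z := Cfsg.Agent.S0391.result z hzL hzne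
  have hz'n : 32 ≤ sqNorm ((s : GolayPt → ℤ) - z) := Cfsg.Agent.S0391.result _ hz'L hz'ne
  rw [sqNorm_sub, hs] at hz'n
  rw [hyn] at hn1
  have hd : dotInt (s : GolayPt → ℤ) z = 32 := by omega
  have hzn' : sqNorm z = 32 := by omega
  refine ⟨⟨z, hzL⟩, ⟨_, hz'L⟩, hzn', ?_, ?_, ?_⟩
  · show sqNorm ((s : GolayPt → ℤ) - z) = 32
    rw [sqNorm_sub, hs, hd, hzn']; norm_num
  · show dotInt z ((s : GolayPt → ℤ) - z) = 0
    rw [dot_sub_right, dot_comm, hd, dot_self, hzn']; norm_num
  · apply Subtype.ext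
    show (s : GolayPt → ℤ) = z + (s - z)
    abel

/-- `Co0` is transitive on the vectors of sum of squares 64. -/
theorem trans64 : Trans64 := by
  have key : ∀ s : leechLattice, sqNorm (s : GolayPt → ℤ) = 64 → ∃ g : Co0, g • s = e8 none := by
    intro s hs
    obtain ⟨z, z', h1, h2, h3, h4⟩ := exists_orth_sum s hs
    obtain ⟨g, hg, -⟩ := SporadicStructure.OrthPairs.co0_orth_pair_to_std z z' h1 h2 h3
    exact ⟨g, by rw [h4]; exact hg⟩
  intro v w hv hw
  obtain ⟨g, hg⟩ := key v hv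
  obtain ⟨k, hk⟩ := key w hw
  exact ⟨k⁻¹ * g, by rw [mul_smul, hg, ← hk, inv_smul_smul]⟩

end Cfsg.Agent.Leech.Trans64
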