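import Cfsg.Agent.Leech.FrameTriplesOf
import Cfsg.Agent.Leech.Trans64

/-!
Canonical forms for pairs of orthogonal minimal vectors and for the configurations whose
stabilisers are McL and HS (with a third vector): unconditional versions.
-/

set_option autoImplicit false
open Cfsg

namespace Cfsg.Agent.Leech.FrameTriples

open Cfsg.Agent.Leech.FrameTriplesOf

theorem trans64 : Trans64 := Cfsg.Agent.Leech.Trans64.trans64

/-- Pairs of orthogonal minimal vectors. -/
theorem orth_pair (v w : leechLattice) (hv : sqNorm (v : GolayPt → ℤ) = 32)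
    (hw : sqNorm (w : GolayPt → ℤ) = 32) (hvw : dotInt (v : GolayPt → ℤ) (w : GolayPt → ℤ) = 0) :
    ∃ g : Co0, ((g • v : leechLattice) : GolayPt → ℤ) = vec3 4 4 0 ∧
      ((g • w : leechLattice) : GolayPt → ℤ) = vec3 4 (-4) 0 :=
  orth_pair_of trans64 v w hv hw hvw

/-- The McLaughlin configuration together with a third vector. -/
theorem mcl_triple (v w x : leechLattice)
    (hv : sqNorm (v : GolayPt → ℤ) = 32) (hw : sqNorm (w : GolayPt → ℤ) = 32)
    (hx : sqNorm (x : GolayPt → ℤ) = 32)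
    (hvw : dotInt (v : GolayPt → ℤ) (w : GolayPt → ℤ) = -8)
    (hvx : dotInt (v : GolayPt → ℤ) (x : GolayPt → ℤ) = 0)
    (hwx : dotInt (w : GolayPt → ℤ) (x : GolayPt → ℤ) = 16) :
    ∃ g : Co0, ((g • v : leechLattice) : GolayPt → ℤ) = vec3 4 4 0 ∧
      ((g • w : leechLattice) : GolayPt → ℤ) = vec3 1 (-3) 1 ∧
      ((g • x : leechLattice) : GolayPt → ℤ) = vec3 4 (-4) 0 :=
  mcl_triple_of trans64 v w x hv hw hx hvw hvx hwx

/-- The Higman-Sims configuration together with a third vector. -/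
theorem hs_triple (v w x : leechLattice)
    (hv : sqNorm (v : GolayPt → ℤ) = 48) (hw : sqNorm (w : GolayPt → ℤ) = 48)
    (hvw : dotInt (v : GolayPt → ℤ) (w : GolayPt → ℤ) = -32)
    (hx : sqNorm (x : GolayPt → ℤ) = 32)
    (hvx : dotInt (v : GolayPt → ℤ) (x : GolayPt → ℤ) = 24)
    (hwx : dotInt (w : GolayPt → ℤ) (x : GolayPt → ℤ) = -24) :
    ∃ g : Co0, ((g • v : leechLattice) : GolayPt → ℤ) = vec3 5 1 1 ∧
      ((g • w : leechLattice) : GolayPt → ℤ) = vec3 (-1) (-5) (-1) ∧
      ((g • x : leechLattice) : GolayPt → ℤ) = vec3 4 4 0 :=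
  hs_triple_of trans64 v w x hv hw hvw hx hvx hwx

end Cfsg.Agent.Leech.FrameTriples
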