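import Cfsg.Agent.Leech.LeechSet900
import Cfsg.Agent.SporadicA.SteinerCount
import Cfsg.Agent.S0359
import Cfsg.Agent.S0363

/-!
# The 552 minimal vectors attached to `u0 = (5, 1^23)`
-/

set_option autoImplicit false

namespace Cfsg.Agent.Leech.Co3Count

open Cfsg Finset Cfsg.Agent.Leech.LeechSet900

/-- The vector (5, 1^23). -/
def u0 : GolayPt → ℤ := fun p => if p = none then 5 else 1

theorem u0_none : u0 none = 5 := rfl

theorem u0_some (i : ZMod 23) : u0 (some i) = 1 := rfl

/-- 4 e_∞ + 4 e_i -/
def vecA (i : ZMod 23) : GolayPt → ℤ := fun p => if p = none ∨ p = some i then 4 else 0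

/-- 2·1_O -/
def vecB (O : Finset GolayPt) : GolayPt → ℤ := fun p => if p ∈ O then 2 else 0

theorem sum_golay {M : Type*} [AddCommMonoid M] (f : GolayPt → M) :
    ∑ i, f i = f none + ∑ i : ZMod 23, f (some i) := Fintype.sum_option f

theorem dot_u0 (x : GolayPt → ℤ) : dotInt u0 x = 4 * x none + ∑ i, x i := by
  unfold dotInt
  rw [sum_golay, sum_golay]
  simp only [u0_none, u0_some, one_mul]
  ring

theorem int_sq_sub_nonneg (a : ℤ) : 0 ≤ a ^ 2 - a := by nlinarith [Int.le_self_sq a]

theorem int_sq_sub_even (a : ℤ) : Even (a ^ 2 - a) := by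
  have : a ^ 2 - a = a * (a - 1) := by ring
  rw [this]
  exact Int.even_mul_pred_self a

theorem sq_sub_eq_zero {a : ℤ} (h : a ^ 2 - a = 0) : a = 0 ∨ a = 1 := by
  have : a * (a - 1) = 0 := by linarith [h, show a ^ 2 - a = a * (a - 1) by ring]
  rcases mul_eq_zero.1 this with h | h
  · left; exact h
  · right; linarith

theorem sq_sub_eq_two {a : ℤ} (h : a ^ 2 - a = 2) : a = -1 ∨ a = 2 := by
  have : (a + 1) * (a - 2) = 0 := by linarith [h, show (a + 1) * (a - 2) = a ^ 2 - a - 2 by ring]
  rcases mul_eq_zero.1 this with h | h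
  · left; linarith
  · right; linarith

/-- The half-vector analysis. -/
theorem half_cases (w : GolayPt → ℤ) (h1 : ∑ i, w i ^ 2 = 8) (h2 : 4 * w none + ∑ i, w i = 12) :
    (w none = 1 ∧ ∀ i, w (some i) = 0 ∨ w (some i) = 1) ∨
    (w none = 2 ∧ ∃ j, w (some j) = 2 ∧ ∀ i, i ≠ j → w (some i) = 0) ∨
    (w none = 2 ∧ ∃ j, w (some j) = -1 ∧ (∀ i, i ≠ j → w (some i) = 0 ∨ w (some i) = 1)) := by
  rw [sum_golay] at h1 h2
  have h3 : ∑ i : ZMod 23, (w (some i) ^ 2 - w (some i)) = (w none - 1) * (4 - w none) := by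
    rw [sum_sub_distrib]; linarith [h1, h2, show (w none - 1) * (4 - w none) = 5 * w none - w none ^ 2 - 4 by ring]
  have h4 : 0 ≤ ∑ i : ZMod 23, (w (some i) ^ 2 - w (some i)) :=
    sum_nonneg fun i _ => int_sq_sub_nonneg _
  have h5 : 0 ≤ ∑ i : ZMod 23, w (some i) ^ 2 := sum_nonneg fun i _ => sq_nonneg _
  have hle : w none ≤ 2 := by nlinarith
  have hge : 1 ≤ w none := by nlinarith
  have hcase : w none = 1 ∨ w none = 2 := by omega
  rcases hcase with ht | ht
  · left
    refine ⟨ht, fun i => ?_⟩
    rw [ht] at h3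
    norm_num at h3
    have h6 := (sum_eq_zero_iff_of_nonneg (fun i _ => int_sq_sub_nonneg (w (some i)))).1
      (by rw [sum_sub_distrib]; exact h3 : ∑ i : ZMod 23, (w (some i) ^ 2 - w (some i)) = 0) i (mem_univ _)
    exact sq_sub_eq_zero h6
  · right
    rw [ht] at h3
    have h3' : ∑ i : ZMod 23, (w (some i) ^ 2 - w (some i)) = 2 := by rw [h3]; norm_num
    obtain ⟨j, hj⟩ : ∃ j : ZMod 23, w (some j) ^ 2 - w (some j) ≠ 0 := by
      by_contra hcon
      push Not at hcon
      rw [sum_eq_zero (fun i _ => hcon i)] at h3'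
      norm_num at h3'
    have hsplit := sum_erase_add (univ : Finset (ZMod 23))
      (fun i => w (some i) ^ 2 - w (some i)) (mem_univ j)
    have h7 : 0 ≤ ∑ i ∈ (univ : Finset (ZMod 23)).erase j, (w (some i) ^ 2 - w (some i)) :=
      sum_nonneg fun i _ => int_sq_sub_nonneg _
    have h8 := int_sq_sub_nonneg (w (some j))
    obtain ⟨c, hc⟩ := int_sq_sub_even (w (some j))
    have h9 : w (some j) ^ 2 - w (some j) = 2 := by
      omega
    have h10 : ∑ i ∈ (univ : Finset (ZMod 23)).erase j, (w (some i) ^ 2 - w (some i)) = 0 := by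
      omega
    have h11 := (sum_eq_zero_iff_of_nonneg (fun i _ => int_sq_sub_nonneg (w (some i)))).1 h10
    rcases sq_sub_eq_two h9 with hj' | hj'
    · right
      refine ⟨ht, j, hj', fun i hi => ?_⟩
      exact sq_sub_eq_zero (h11 i (mem_erase.2 ⟨hi, mem_univ _⟩))
    · left
      refine ⟨ht, j, hj', fun i hi => ?_⟩
      have h12 : ∑ i : ZMod 23, w (some i) ^ 2 = 4 := by rw [ht] at h1; linarith
      have hsplit2 := sum_erase_add (univ : Finset (ZMod 23))
        (fun i => w (some i) ^ 2) (mem_univ j)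
      rw [h12, hj'] at hsplit2
      have h13 : ∑ i ∈ (univ : Finset (ZMod 23)).erase j, w (some i) ^ 2 = 0 := by linarith
      have := (sum_eq_zero_iff_of_nonneg (fun i _ => sq_nonneg (w (some i)))).1 h13 i
        (mem_erase.2 ⟨hi, mem_univ _⟩)
      exact pow_eq_zero_iff (two_ne_zero) |>.1 this


/-- Even solutions. -/
def Even552 (x : GolayPt → ℤ) : Prop :=
  (∃ i : ZMod 23, x = vecA i) ∨ ∃ O ∈ octads, none ∈ O ∧ x = vecB O

theorem sqNorm_vecA (i : ZMod 23) : sqNorm (vecA i) = 32 := by
  revert i; decide +kernel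

theorem sum_vecA (i : ZMod 23) : ∑ j, vecA i j = 8 := by
  revert i; decide +kernel

theorem vecA_mem (i : ZMod 23) : vecA i ∈ leechLattice := by
  rw [mem_leechLattice_iff]
  refine ⟨0, fun p => if p = none ∨ p = some i then 2 else 0, fun j => ?_, ?_, ?_⟩
  · simp only [vecA]; split_ifs <;> norm_num
  · rw [sum_vecA]; decide
  · convert golayCode.zero_mem using 1
    funext j
    simp only [Pi.zero_apply]
    split_ifs <;> rfl

theorem sqNorm_vecB (O : Finset GolayPt) : sqNorm (vecB O) = 4 * O.card := by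
  unfold sqNorm vecB
  have : ∀ i : GolayPt, (if i ∈ O then (2 : ℤ) else 0) ^ 2 = if i ∈ O then 4 else 0 := by
    intro i; split_ifs <;> norm_num
  simp only [this]
  rw [← sum_filter, sum_const, filter_mem_eq_inter, univ_inter]
  simp [mul_comm]

theorem sum_vecB (O : Finset GolayPt) : ∑ i, vecB O i = 2 * O.card := by
  unfold vecB
  rw [← sum_filter, sum_const, filter_mem_eq_inter, univ_inter]
  simp [mul_comm]

theorem vecB_mem {O : Finset GolayPt} (hO : O ∈ octads) : vecB O ∈ leechLattice := by
  obtain ⟨⟨c, hc, hce⟩, hcard⟩ := hO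
  rw [mem_leechLattice_iff]
  refine ⟨0, fun p => if p ∈ O then 1 else 0, fun j => ?_, ?_, ?_⟩
  · simp only [vecB]; split_ifs <;> norm_num
  · rw [sum_vecB, hcard]; decide
  · have hc' : c ∈ golayCode := hc
    convert hc' using 1
    funext j
    apply zmod2_eq_of_ne_zero_iff
    have : j ∈ O ↔ c j ≠ 0 := by rw [← hce]; simp [support₂]
    rw [← this]
    by_cases h : j ∈ O <;> simp [h]

theorem card_support_eq_hammingNorm (w : GolayPt → ZMod 2) : (support₂ w).card = hammingNorm w := by
  unfold support₂ hammingNorm; rfl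

/-- Classification of the even solutions. -/
theorem even552_of (w : GolayPt → ℤ) (hc : (fun i => (w i : ZMod 2)) ∈ golayCode)
    (h1 : ∑ i, w i ^ 2 = 8) (h2 : 4 * w none + ∑ i, w i = 12) :
    Even552 (fun i => 2 * w i) := by
  rcases half_cases w h1 h2 with ⟨h0, h⟩ | ⟨h0, j, hj, h⟩ | ⟨h0, j, hj, h⟩
  · right
    have hall : ∀ i, w i = 0 ∨ w i = 1 := by
      intro i; cases i with
      | none => right; exact h0
      | some i => exact h i
    refine ⟨support₂ (fun i => (w i : ZMod 2)), ⟨support₂_mem hc, ?_⟩, ?_, ?_⟩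
    · have h3 : ∀ i, w i ^ 2 = if (w i : ZMod 2) ≠ 0 then 1 else 0 := by
        intro i
        rcases hall i with h | h <;> simp [h]
      rw [sum_congr rfl (fun i _ => h3 i), sum_boole] at h1
      exact_mod_cast h1
    · simp [support₂, h0]
    · funext i
      rcases hall i with h | h <;> simp [vecB, support₂, h]
  · left
    refine ⟨j, ?_⟩
    funext i
    cases i with
    | none => simp [vecA, h0]
    | some i =>
      by_cases hij : i = j
      · subst hij; simp [vecA, hj]
      · simp [vecA, hij, h i hij]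
  · exfalso
    -- the odd positions form a word of weight 4
    have hw := S0359.result _ hc
    rw [← card_support_eq_hammingNorm] at hw
    have h3 : ∀ i : ZMod 23, w (some i) ^ 2 = if (w (some i) : ZMod 2) ≠ 0 then 1 else 0 := by
      intro i
      by_cases hij : i = j
      · subst hij; simp [hj]
      · rcases h i hij with h | h <;> simp [h]
    rw [sum_golay, sum_congr rfl (fun i _ => h3 i), sum_boole, h0] at h1
    have h4 : (support₂ (fun i => (w i : ZMod 2))).card = 4 := by
      have : support₂ (fun i => (w i : ZMod 2)) =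
          ((univ : Finset (ZMod 23)).filter fun i => (w (some i) : ZMod 2) ≠ 0).map
            Function.Embedding.some := by
        ext i
        cases i with
        | none => simp [support₂, h0]; rfl
        | some i => simp [support₂]
      rw [this, card_map]
      have : ((#{i : ZMod 23 | (w (some i) : ZMod 2) ≠ 0} : ℕ) : ℤ) = 4 := by linarith
      exact_mod_cast this
    rw [h4] at hw
    omega

theorem sqNorm_sub (x y : GolayPt → ℤ) : sqNorm (x - y) = sqNorm x - 2 * dotInt x y + sqNorm y := by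
  unfold sqNorm dotInt
  rw [mul_sum, ← sum_sub_distrib, ← sum_add_distrib]
  refine sum_congr rfl fun i _ => ?_
  simp only [Pi.sub_apply]; ring

theorem sqNorm_u0 : sqNorm u0 = 48 := by decide +kernel

theorem u0_mem : u0 ∈ leechLattice := by
  rw [mem_leechLattice_iff]
  refine ⟨1, fun p => if p = none then 2 else 0, fun j => ?_, ?_, ?_⟩
  · simp only [u0]; split_ifs <;> norm_num
  · decide
  · convert golayCode.zero_mem using 1
    funext j
    simp only [Pi.zero_apply]
    split_ifs <;> rfl

theorem even_of_mem {x : GolayPt → ℤ} (hx : x ∈ leechLattice) (hn : sqNorm x = 32)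
    (hd : dotInt u0 x = 24) (he : ∃ i, x i % 2 = 0) : Even552 x := by
  rw [mem_leechLattice_iff] at hx
  obtain ⟨m, z, hz, hs, hc⟩ := hx
  obtain ⟨i0, hi0⟩ := he
  have hm : m % 2 = 0 := by have := hz i0; omega
  have hx : x = fun i => 2 * (m / 2 + z i) := by
    funext i; rw [hz i]; omega
  have hc' : (fun i => ((m / 2 + z i : ℤ) : ZMod 2)) ∈ golayCode := by
    have : (fun i => ((m / 2 + z i : ℤ) : ZMod 2)) =
        (fun i => (z i : ZMod 2)) + (((m / 2 : ℤ) : ZMod 2)) • (1 : GolayPt → ZMod 2) := by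
      funext i; simp [add_comm]
    rw [this]
    exact golayCode.add_mem hc (golayCode.smul_mem _ one_mem)
  rw [dot_u0] at hd
  rw [hx] at hn hd ⊢
  apply even552_of _ hc'
  · unfold sqNorm at hn
    have : ∀ i, (2 * (m / 2 + z i)) ^ 2 = 4 * (m / 2 + z i) ^ 2 := fun i => by ring
    rw [sum_congr rfl (fun i _ => this i), ← mul_sum] at hn
    linarith
  · rw [← mul_sum] at hd
    linarith

theorem parity_of_mem {x : GolayPt → ℤ} (hx : x ∈ leechLattice) :
    (∀ i, x i % 2 = 0) ∨ (∀ i, x i % 2 = 1) := by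
  rw [mem_leechLattice_iff] at hx
  obtain ⟨m, z, hz, hs, hc⟩ := hx
  rcases Int.emod_two_eq_zero_or_one m with h | h
  · left; intro i; rw [hz i]; omega
  · right; intro i; rw [hz i]; omega

theorem dot_sub (x y : GolayPt → ℤ) : dotInt u0 (x - y) = dotInt u0 x - dotInt u0 y := by
  unfold dotInt
  rw [← sum_sub_distrib]
  refine sum_congr rfl fun i _ => ?_
  simp only [Pi.sub_apply]; ring

theorem dot_u0_u0 : dotInt u0 u0 = 48 := by decide +kernel

theorem Even552.mem {x : GolayPt → ℤ} (h : Even552 x) :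
    x ∈ leechLattice ∧ sqNorm x = 32 ∧ dotInt u0 x = 24 := by
  rcases h with ⟨i, rfl⟩ | ⟨O, hO, hn, rfl⟩
  · refine ⟨vecA_mem i, sqNorm_vecA i, ?_⟩
    rw [dot_u0, sum_vecA]
    simp [vecA]
  · refine ⟨vecB_mem hO, ?_, ?_⟩
    · rw [sqNorm_vecB, hO.2]; norm_num
    · rw [dot_u0, sum_vecB, hO.2]
      simp [vecB, hn]

theorem Even552.sub_mem {x : GolayPt → ℤ} (h : Even552 (u0 - x)) :
    x ∈ leechLattice ∧ sqNorm x = 32 ∧ dotInt u0 x = 24 := by
  obtain ⟨h1, h2, h3⟩ := h.mem
  have h4 : dotInt u0 x = 24 := by rw [dot_sub, dot_u0_u0] at h3; linarith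
  refine ⟨?_, ?_, h4⟩
  · have := leechLattice.sub_mem u0_mem h1
    simpa using this
  · rw [sqNorm_sub, sqNorm_u0, h4] at h2; linarith

/-- Classification of the 552. -/
theorem mem552_iff (x : GolayPt → ℤ) : (x ∈ leechLattice ∧ sqNorm x = 32 ∧ dotInt u0 x = 24) ↔
    (Even552 x ∨ Even552 (u0 - x)) := by
  constructor
  · rintro ⟨h1, h2, h3⟩
    rcases parity_of_mem h1 with h | h
    · left; exact even_of_mem h1 h2 h3 ⟨none, h none⟩
    · right
      apply even_of_mem (leechLattice.sub_mem u0_mem h1)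
      · rw [sqNorm_sub, sqNorm_u0, h3, h2]; norm_num
      · rw [dot_sub, dot_u0_u0, h3]; norm_num
      · refine ⟨none, ?_⟩
        have := h none
        simp only [Pi.sub_apply, u0_none]
        omega
  · rintro (h | h)
    · exact h.mem
    · exact h.sub_mem

theorem Even552.even {x : GolayPt → ℤ} (h : Even552 x) (i : GolayPt) : x i % 2 = 0 := by
  rcases h with ⟨j, rfl⟩ | ⟨O, hO, hn, rfl⟩
  · unfold vecA; split_ifs <;> norm_num
  · unfold vecB; split_ifs <;> norm_num

theorem vecA_injective : Function.Injective vecA := by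
  intro i j h
  have := congrFun h (some i)
  simp only [vecA] at this
  by_contra hij
  simp [hij] at this

theorem vecB_injective : Function.Injective vecB := by
  intro O P h
  ext i
  have := congrFun h i
  simp only [vecB] at this
  split_ifs at this with h1 h2 h2 <;> simp_all

open Classical in
/-- The octads through `none`. -/
noncomputable def octNone : Finset (Finset GolayPt) := (Set.toFinite octads).toFinset.filter (none ∈ ·)

theorem mem_octNone (O : Finset GolayPt) : O ∈ octNone ↔ O ∈ octads ∧ none ∈ O := by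
  unfold octNone; simp

theorem card_octNone : octNone.card = 253 := by
  classical
  have := SporadicA.SteinerCount.card_blocks_containing S0363.result (Set.toFinite octads).toFinset
    (fun b => by simp) {(none : GolayPt)} (by simp)
  simp only [card_singleton, singleton_subset_iff] at this
  have h2 : Fintype.card GolayPt = 24 := by simp [GolayPt, ZMod.card]
  rw [h2] at this
  have e1 : (8 - 1).choose (5 - 1) = 35 := by decide
  have e2 : (24 - 1).choose (5 - 1) = 8855 := by decide +kernel
  rw [e1, e2] at this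
  have h3 : octNone = (Set.toFinite octads).toFinset.filter (fun b => none ∈ b) := by
    unfold octNone; congr
  rw [h3]
  omega

theorem vecA_ne_vecB (i : ZMod 23) (O : Finset GolayPt) : vecA i ≠ vecB O := by
  intro h
  have := congrFun h none
  simp only [vecA, vecB] at this
  split_ifs at this <;> simp_all

theorem ncard_even : {x : GolayPt → ℤ | Even552 x}.ncard = 276 := by
  have h : {x : GolayPt → ℤ | Even552 x} =
      Set.range vecA ∪ (vecB '' (octNone : Set (Finset GolayPt))) := by
    ext x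
    simp only [Set.mem_ofPred_eq, Even552, Set.mem_union, Set.mem_range, Set.mem_image,
      mem_coe, mem_octNone]
    constructor
    · rintro (⟨i, rfl⟩ | ⟨O, hO, hn, rfl⟩)
      · left; exact ⟨i, rfl⟩
      · right; exact ⟨O, ⟨hO, hn⟩, rfl⟩
    · rintro (⟨i, rfl⟩ | ⟨O, ⟨hO, hn⟩, rfl⟩)
      · left; exact ⟨i, rfl⟩
      · right; exact ⟨O, hO, hn, rfl⟩
  rw [h, Set.ncard_union_eq, Set.ncard_image_of_injective _ vecB_injective, Set.ncard_coe_finset,
    card_octNone]
  · have : (Set.range vecA).ncard = 23 := by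
      rw [← Set.image_univ, Set.ncard_image_of_injective _ vecA_injective, Set.ncard_univ,
        Nat.card_eq_fintype_card, ZMod.card]
    rw [this]
  · rw [Set.disjoint_left]
    rintro x ⟨i, rfl⟩ ⟨O, -, hO⟩
    exact vecA_ne_vecB i O hO.symm

theorem ncard_552 : {x : GolayPt → ℤ | x ∈ leechLattice ∧ sqNorm x = 32 ∧ dotInt u0 x = 24}.ncard
    = 552 := by
  have h : {x : GolayPt → ℤ | x ∈ leechLattice ∧ sqNorm x = 32 ∧ dotInt u0 x = 24} =
      {x | Even552 x} ∪ ((fun x => u0 - x) '' {x | Even552 x}) := by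
    ext x
    simp only [Set.mem_ofPred_eq, Set.mem_union, Set.mem_image, mem552_iff]
    constructor
    · rintro (h | h)
      · left; exact h
      · right; exact ⟨_, h, by simp⟩
    · rintro (h | ⟨y, h, rfl⟩)
      · left; exact h
      · right; simpa using h
  have hfin : {x : GolayPt → ℤ | Even552 x}.Finite := by
    apply Set.finite_of_ncard_ne_zero
    rw [ncard_even]; norm_num
  rw [h, Set.ncard_union_eq _ hfin (hfin.image _), Set.ncard_image_of_injective, ncard_even]
  · intro x y hxy
    simpa using hxy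
  · rw [Set.disjoint_left]
    rintro x hx ⟨y, hy, rfl⟩
    have h1 := Even552.even hx none
    have h2 := Even552.even hy none
    simp only [Pi.sub_apply, u0_none] at h1
    omega

end Cfsg.Agent.Leech.Co3Count
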