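import Cfsg.Agent.Leech.Co3Elts
import Cfsg.Agent.Leech.Co3Count

/-!
# Transitivity of the stabiliser of `u0 = (5, 1^23)` on the 552 minimal vectors `x` with
`u0 · x = 24`, and of the stabiliser of `u0`, `v0 = (4, 4, 0^22)` on the 275 of them with
`v0 · x = 16`.
-/

set_option autoImplicit false

namespace Cfsg.Agent.Leech.Co3Trans

open Cfsg Cfsg.Agent.SporadicA.GolayBase Cfsg.Agent.Leech.Enc Cfsg.Agent.Leech.Word
  Cfsg.Agent.Leech.Pack Cfsg.Agent.Leech.Co3Data Cfsg.Agent.Leech.Co3Check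
  Cfsg.Agent.Leech.Bridge Cfsg.Agent.Leech.Co3Elts Cfsg.Agent.Leech.Co3Count

/-- `u0 = (5, 1^23)` in the lattice. -/
def u0L : leechLattice := ⟨u0, u0_mem⟩

/-- `v0 = (4, 4, 0^22)` in the lattice. -/
def v0L : leechLattice := ⟨vecA 0, vecA_mem 0⟩

/-- `x0 = (4, 0, 4, 0^21)` in the lattice. -/
def x0L : leechLattice := ⟨vecA 1, vecA_mem 1⟩

/-! ### Packed vectors -/

theorem ind_bound (c : ℤ) (h0 : 0 ≤ c) (hc : c ≤ 16) (s : Finset GolayPt) (p : GolayPt) :
    |(c • ind s) p| ≤ 16 := by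
  rw [Pi.smul_apply, smul_eq_mul]
  unfold ind
  split_ifs
  · rw [mul_one, abs_of_nonneg h0]; exact hc
  · rw [mul_zero, abs_zero]; norm_num

theorem vec_pk4 {m : ℕ} (h : valid (pk4 m) = true) : vec (pk4 m) = (4 : ℤ) • ind (fin m) := by
  apply vec_eq h (ind_bound 4 (by norm_num) (by norm_num) _)
  rw [map_smul, E_ind]
  show _ = ((16 * ONE + 4 * spread m : ℕ) : ℤ)
  push_cast
  rw [smul_eq_mul]; ring

theorem vec_pk2 {m : ℕ} (h : valid (pk2 m) = true) : vec (pk2 m) = (2 : ℤ) • ind (fin m) := by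
  apply vec_eq h (ind_bound 2 (by norm_num) (by norm_num) _)
  rw [map_smul, E_ind]
  show _ = ((16 * ONE + 2 * spread m : ℕ) : ℤ)
  push_cast
  rw [smul_eq_mul]; ring

theorem valid_pu0 : valid pu0 = true := by decide +kernel

theorem vec_pu0 : vec pu0 = u0 := by
  have : ∀ p, vec pu0 p = u0 p := by decide +kernel
  exact funext this

theorem vecB_eq (O : Finset GolayPt) : vecB O = (2 : ℤ) • ind O := by
  funext p
  rw [Pi.smul_apply, smul_eq_mul]
  unfold vecB ind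
  split_ifs <;> norm_num

/-! ### The octads through `none` -/

/-- Every octad through `none` is in the table. -/
def octTest (i : ℕ) : Bool :=
  !(Nat.beq (popcount (enc i)) 8 && Nat.testBit (enc i) 23) ||
    tblB.any (fun e => Nat.beq e.1 (enc i))

theorem octTest_all : allR 12 0 octTest = true := by decide +kernel

theorem mem_tblB {O : Finset GolayPt} (hO : O ∈ octads) (hn : none ∈ O) :
    ∃ e ∈ tblB, fin e.1 = O := by
  obtain ⟨h1, h2⟩ := (mem_octads_iff O).1 hO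
  obtain ⟨i, hi, hm⟩ := isCode_iff_exists.1 h1
  have h3 := allR_zero_spec octTest_all i (by omega)
  unfold octTest at h3
  have h4 : Nat.testBit (enc i) 23 = true := by
    rw [← hm]
    have := testBit_maskOf O none
    rw [show idx none = 23 from rfl] at this
    rw [this]
    exact decide_eq_true hn
  rw [hm] at h2
  have h5 : Nat.beq (popcount (enc i)) 8 = true := by rw [h2]; rfl
  rw [h4, h5] at h3
  simp only [Bool.and_self, Bool.not_true, Bool.false_or, List.any_eq_true] at h3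
  obtain ⟨e, he, h6⟩ := h3
  refine ⟨e, he, ?_⟩
  rw [Nat.eq_of_beq_eq_true h6, ← hm, fin_maskOf]

/-- Every entry of the table is an octad through `none`. -/
theorem tblB_octad : ∀ e ∈ tblB, fin e.1 ∈ octads ∧ none ∈ fin e.1 := by
  have h : ∀ e ∈ tblB, (isCode e.1 = true ∧ popcount e.1 = 8) ∧
      (e.1.testBit 23 = true ∧ e.1 < 2 ^ 24) := by decide +kernel
  intro e he
  obtain ⟨h1, h2, h3⟩ := h e he
  exact ⟨(fin_mem_octads_iff h3).2 h1, mem_fin.2 h2⟩

/-! ### Entries of tables -/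

theorem chk_sound {gens : List (ℕ × List ℕ)} (H : Subgroup Co0)
    (hgens : ∀ k, k < gens.length → ∃ g ∈ H, IsMat (gens.getD k (0, [])) g) {T : ℕ} {pk : ℕ → ℕ}
    {e : ℕ × ℕ} (h : chk gens T pk e = true) (x : leechLattice)
    (hx : (x : GolayPt → ℤ) = vec (pk e.1)) :
    ∃ g ∈ H, ((g • x : leechLattice) : GolayPt → ℤ) = vec T := by
  unfold chk at h
  rw [Bool.and_eq_true, Bool.and_eq_true, List.all_eq_true] at h
  obtain ⟨h1, h2, h3⟩ := h
  refine run_sound gens H hgens T _ _ (fun k hk => ?_) h1 h3 x hx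
  have := h2 k hk
  rwa [Nat.blt_eq] at this

theorem chk_valid {gens : List (ℕ × List ℕ)} {T : ℕ} {pk : ℕ → ℕ} {e : ℕ × ℕ}
    (h : chk gens T pk e = true) : valid (pk e.1) = true := by
  unfold chk at h
  rw [Bool.and_eq_true] at h
  exact h.1

theorem fixU_Co3 : gensCo3.all (fun m => stepOK m.2 m.1 pu0 pu0) = true := by decide +kernel

theorem fixU_McL : gensMcL.all (fun m => stepOK m.2 m.1 pu0 pu0) = true := by decide +kernel

theorem fixV_McL : gensMcL.all (fun m => stepOK m.2 m.1 (pk4 8388609) (pk4 8388609)) = true := by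
  decide +kernel

theorem valid_v0 : valid (pk4 8388609) = true := by decide +kernel

theorem vec_v0 : vec (pk4 8388609) = vecA 0 := by
  have : ∀ p, vec (pk4 8388609) p = vecA 0 p := by decide +kernel
  exact funext this

theorem vec_x0 : vec (pk4 8388610) = vecA 1 := by
  have : ∀ p, vec (pk4 8388610) p = vecA 1 p := by decide +kernel
  exact funext this

/-- The stabiliser of `u0`. -/
def H3 : Subgroup Co0 := MulAction.stabilizer Co0 u0L

/-- The joint stabiliser of `u0` and `v0`. -/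
def HM : Subgroup Co0 := MulAction.stabilizer Co0 u0L ⊓ MulAction.stabilizer Co0 v0L

theorem getD_mem {l : List (ℕ × List ℕ)} {k : ℕ} (hk : k < l.length) : l.getD k (0, []) ∈ l := by
  rw [List.getD_eq_getElem _ _ hk]
  exact List.getElem_mem hk

theorem hgens3 : ∀ k, k < gensCo3.length → ∃ g ∈ H3, IsMat (gensCo3.getD k (0, [])) g := by
  intro k hk
  obtain ⟨g, hg⟩ := exists_gensCo3 _ (getD_mem hk)
  refine ⟨g, ?_, hg⟩
  rw [H3, MulAction.mem_stabilizer_iff]
  have h := List.all_eq_true.1 fixU_Co3 _ (getD_mem hk)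
  exact smul_eq_self hg valid_pu0 h u0L vec_pu0.symm

theorem hgensM : ∀ k, k < gensMcL.length → ∃ g ∈ HM, IsMat (gensMcL.getD k (0, [])) g := by
  intro k hk
  obtain ⟨g, hg⟩ := exists_gensMcL _ (getD_mem hk)
  refine ⟨g, ?_, hg⟩
  rw [HM, Subgroup.mem_inf, MulAction.mem_stabilizer_iff, MulAction.mem_stabilizer_iff]
  have h := List.all_eq_true.1 fixU_McL _ (getD_mem hk)
  have h' := List.all_eq_true.1 fixV_McL _ (getD_mem hk)
  exact ⟨smul_eq_self hg valid_pu0 h u0L vec_pu0.symm,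
    smul_eq_self hg valid_v0 h' v0L vec_v0.symm⟩

/-- The vectors `4 e_∞ + 4 e_i` are in the table. -/
theorem vecA_tblA : ∀ i : ZMod 23, ∃ e ∈ tblA, ∀ p, vecA i p = vec (pk4 e.1) p := by
  decide +kernel

theorem vecA_tblA2 : ∀ i : ZMod 23, i ≠ 0 → ∃ e ∈ tblA2, ∀ p, vecA i p = vec (pk4 e.1) p := by
  decide +kernel

/-! ### Transitivity on the 552 -/

theorem even_to_v0 (x : leechLattice) (hx : Even552 (x : GolayPt → ℤ)) :
    ∃ g ∈ H3, g • x = v0L := by
  have key : ∃ g ∈ H3, ((g • x : leechLattice) : GolayPt → ℤ) = vec (pk4 8388609) := by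
    rcases hx with ⟨i, hi⟩ | ⟨O, hO, hn, hi⟩
    · obtain ⟨e, he, hv⟩ := vecA_tblA i
      have h1 := List.all_eq_true.1 chkA _ he
      exact chk_sound H3 hgens3 h1 x (by rw [hi]; exact funext hv)
    · obtain ⟨e, he, hv⟩ := mem_tblB hO hn
      have h1 := List.all_eq_true.1 chkB _ he
      refine chk_sound H3 hgens3 h1 x ?_
      rw [hi, vec_pk2 (chk_valid h1), hv, vecB_eq]
  obtain ⟨g, hg, h⟩ := key
  exact ⟨g, hg, Subtype.ext (by rw [h, vec_v0]; rfl)⟩

theorem smul_add' (g : Co0) (v w : leechLattice) : g • (v + w) = g • v + g • w := g.2.1 v w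

theorem smul_sub' (g : Co0) (v w : leechLattice) : g • (v - w) = g • v - g • w := by
  have h := smul_add' g (v - w) w
  rw [sub_add_cancel] at h
  rw [h, add_sub_cancel_right]

theorem sqNorm_smul (g : Co0) (v : leechLattice) :
    sqNorm ((g • v : leechLattice) : GolayPt → ℤ) = sqNorm (v : GolayPt → ℤ) := g.2.2 v

theorem dotInt_smul (g : Co0) (v w : leechLattice) :
    dotInt ((g • v : leechLattice) : GolayPt → ℤ) ((g • w : leechLattice) : GolayPt → ℤ)
      = dotInt (v : GolayPt → ℤ) (w : GolayPt → ℤ) := by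
  have h1 := sqNorm_smul g (v - w)
  rw [smul_sub', AddSubgroup.coe_sub, AddSubgroup.coe_sub, sqNorm_sub, sqNorm_sub, sqNorm_smul,
    sqNorm_smul] at h1
  linarith

/-- The packed vector `u0 - v0`. -/
theorem vec_u0v0 : vec (Nat.sub (Nat.add pu0 (Nat.mul 16 ONE)) (pk4 8388609)) = u0 - vecA 0 := by
  have : ∀ p, vec (Nat.sub (Nat.add pu0 (Nat.mul 16 ONE)) (pk4 8388609)) p
    = (u0 - vecA 0) p := by decide +kernel
  exact funext this

theorem u0v0_to_v0 : ∃ g ∈ H3, g • (u0L - v0L) = v0L := by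
  obtain ⟨g, hg, h⟩ := chk_sound H3 hgens3 chkT (u0L - v0L) vec_u0v0.symm
  exact ⟨g, hg, Subtype.ext (by rw [h, vec_v0]; rfl)⟩

theorem to_v0 (x : leechLattice) (h1 : sqNorm (x : GolayPt → ℤ) = 32)
    (h2 : dotInt u0 (x : GolayPt → ℤ) = 24) : ∃ g ∈ H3, g • x = v0L := by
  rcases (mem552_iff _).1 ⟨x.2, h1, h2⟩ with h | h
  · exact even_to_v0 x h
  · obtain ⟨g, hg, h3⟩ := even_to_v0 (u0L - x) h
    obtain ⟨g', hg', h4⟩ := u0v0_to_v0
    refine ⟨g' * g, H3.mul_mem hg' hg, ?_⟩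
    have h5 : g • u0L = u0L := hg
    rw [smul_sub', h5] at h3
    have h6 : g • x = u0L - v0L := by rw [← h3, sub_sub_cancel]
    rw [mul_smul, h6, h4]

theorem dot_of_sub {u v : leechLattice} (hu : sqNorm (u : GolayPt → ℤ) = 48)
    (hv : sqNorm (v : GolayPt → ℤ) = 32 ∧ sqNorm ((u - v : leechLattice) : GolayPt → ℤ) = 32) :
    dotInt (u : GolayPt → ℤ) (v : GolayPt → ℤ) = 24 := by
  have h := hv.2
  rw [AddSubgroup.coe_sub, sqNorm_sub, hu, hv.1] at h
  linarith

/-- All pairs `(u, v)` are equivalent to `(u0, v0)`; `h` is S0401. -/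
theorem config (h : ∀ v w : leechLattice, sqNorm (v : GolayPt → ℤ) = 48 →
      sqNorm (w : GolayPt → ℤ) = 48 → ∃ g : Co0, g • v = w) {u v : leechLattice}
    (hu : sqNorm (u : GolayPt → ℤ) = 48)
    (hv : sqNorm (v : GolayPt → ℤ) = 32 ∧ sqNorm ((u - v : leechLattice) : GolayPt → ℤ) = 32) :
    ∃ b : Co0, b • u = u0L ∧ b • v = v0L := by
  obtain ⟨a, ha⟩ := h u u0L hu sqNorm_u0
  have h1 : sqNorm ((a • v : leechLattice) : GolayPt → ℤ) = 32 := by rw [sqNorm_smul]; exact hv.1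
  have h2 : dotInt u0 ((a • v : leechLattice) : GolayPt → ℤ) = 24 := by
    have := dotInt_smul a u v
    rw [ha, dot_of_sub hu hv] at this
    exact this
  obtain ⟨g, hg, h3⟩ := to_v0 (a • v) h1 h2
  refine ⟨g * a, ?_, ?_⟩
  · rw [mul_smul, ha]; exact hg
  · rw [mul_smul, h3]

/-! ### The 275 -/

theorem dot_v0 (x : GolayPt → ℤ) : dotInt (vecA 0) x = 4 * x none + 4 * x (some 0) := by
  unfold dotInt
  rw [sum_golay, Finset.sum_eq_single (0 : ZMod 23)]
  · simp [vecA]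
  · intro j _ hj
    simp [vecA, hj]
  · intro h; exact absurd (Finset.mem_univ _) h

/-- Classification of the 275. -/
theorem mem275_iff (x : GolayPt → ℤ) :
    (x ∈ leechLattice ∧ sqNorm x = 32 ∧ dotInt u0 x = 24 ∧ dotInt (vecA 0) x = 16) ↔
    ((∃ i : ZMod 23, i ≠ 0 ∧ x = vecA i) ∨
     (∃ O ∈ octads, none ∈ O ∧ some 0 ∈ O ∧ x = vecB O) ∨
     (∃ O ∈ octads, none ∈ O ∧ some 0 ∉ O ∧ x = u0 - vecB O)) := by
  constructor
  · rintro ⟨h1, h2, h3, h4⟩
    rw [dot_v0] at h4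
    rcases (mem552_iff _).1 ⟨h1, h2, h3⟩ with (⟨i, hi⟩ | ⟨O, hO, hn, hi⟩) |
      (⟨i, hi⟩ | ⟨O, hO, hn, hi⟩)
    · left
      refine ⟨i, ?_, hi⟩
      rintro rfl
      rw [hi] at h4
      simp [vecA] at h4
    · right; left
      refine ⟨O, hO, hn, ?_, hi⟩
      by_contra h5
      rw [hi] at h4
      simp [vecB, hn, h5] at h4
    · exfalso
      have h5 : x = u0 - vecA i := by rw [← hi, sub_sub_cancel]
      rw [h5] at h4
      by_cases h6 : (0 : ZMod 23) = i
      · simp [vecA, u0, h6] at h4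
      · simp [vecA, u0, h6] at h4
    · right; right
      have h5 : x = u0 - vecB O := by rw [← hi, sub_sub_cancel]
      refine ⟨O, hO, hn, ?_, h5⟩
      intro h6
      rw [h5] at h4
      simp [vecB, u0, hn, h6] at h4
  · rintro (⟨i, hi0, hi⟩ | ⟨O, hO, hn, h0, hi⟩ | ⟨O, hO, hn, h0, hi⟩)
    · obtain ⟨h1, h2, h3⟩ := (mem552_iff x).2 (Or.inl (Or.inl ⟨i, hi⟩))
      refine ⟨h1, h2, h3, ?_⟩
      have h5 : ¬ ((0 : ZMod 23) = i) := fun h => hi0 h.symm
      rw [dot_v0, hi]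
      simp [vecA, h5]
    · obtain ⟨h1, h2, h3⟩ := (mem552_iff x).2 (Or.inl (Or.inr ⟨O, hO, hn, hi⟩))
      refine ⟨h1, h2, h3, ?_⟩
      rw [dot_v0, hi]
      simp [vecB, hn, h0]
    · obtain ⟨h1, h2, h3⟩ := (mem552_iff x).2 (Or.inr (Or.inr ⟨O, hO, hn, by rw [hi, sub_sub_cancel]⟩))
      refine ⟨h1, h2, h3, ?_⟩
      rw [dot_v0, hi]
      simp [vecB, u0, hn, h0]

theorem tbl2_all : tblB.all (fun e => bif Nat.testBit e.1 0 then
    tblB2.any (fun f => Nat.beq f.1 e.1) else tblC2.any (fun f => Nat.beq f.1 e.1)) = true := by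
  decide +kernel

theorem mem_tblB2 {O : Finset GolayPt} (hO : O ∈ octads) (hn : none ∈ O) (h0 : some 0 ∈ O) :
    ∃ e ∈ tblB2, fin e.1 = O := by
  obtain ⟨e, he, rfl⟩ := mem_tblB hO hn
  have h := List.all_eq_true.1 tbl2_all _ he
  have h1 : e.1.testBit 0 = true := mem_fin.1 h0
  rw [h1, cond_true, List.any_eq_true] at h
  obtain ⟨f, hf, h2⟩ := h
  exact ⟨f, hf, by rw [Nat.eq_of_beq_eq_true h2]⟩

theorem mem_tblC2 {O : Finset GolayPt} (hO : O ∈ octads) (hn : none ∈ O) (h0 : some 0 ∉ O) :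
    ∃ e ∈ tblC2, fin e.1 = O := by
  obtain ⟨e, he, rfl⟩ := mem_tblB hO hn
  have h := List.all_eq_true.1 tbl2_all _ he
  have h1 : e.1.testBit 0 = false := by
    rw [← Bool.not_eq_true]
    exact fun h => h0 (mem_fin.2 h)
  rw [h1, cond_false, List.any_eq_true] at h
  obtain ⟨f, hf, h2⟩ := h
  exact ⟨f, hf, by rw [Nat.eq_of_beq_eq_true h2]⟩

theorem pk1_eq : ∀ e ∈ tblC2, pk1 e.1 + 2 * spread e.1 = pu0 := by decide +kernel

theorem E_u0 : E u0 = pu0 - 16 * ONE := by rw [← vec_pu0]; exact E_vec valid_pu0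

theorem vec_pk1 {e : ℕ × ℕ} (he : e ∈ tblC2) (h : valid (pk1 e.1) = true) :
    vec (pk1 e.1) = u0 - vecB (fin e.1) := by
  apply vec_eq h
  · intro p
    rw [Pi.sub_apply]
    unfold u0 vecB
    split_ifs <;> simp
  · rw [vecB_eq, map_sub, map_smul, E_ind, E_u0, ← pk1_eq e he]
    push_cast
    rw [smul_eq_mul]; ring

theorem to_x0 (x : leechLattice) (h1 : sqNorm (x : GolayPt → ℤ) = 32)
    (h2 : dotInt u0 (x : GolayPt → ℤ) = 24) (h3 : dotInt (vecA 0) (x : GolayPt → ℤ) = 16) :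
    ∃ g ∈ HM, g • x = x0L := by
  have key : ∃ g ∈ HM, ((g • x : leechLattice) : GolayPt → ℤ) = vec (pk4 8388610) := by
    rcases (mem275_iff _).1 ⟨x.2, h1, h2, h3⟩ with ⟨i, hi0, hi⟩ | ⟨O, hO, hn, h0, hi⟩ |
      ⟨O, hO, hn, h0, hi⟩
    · obtain ⟨e, he, hv⟩ := vecA_tblA2 i hi0
      have h1 := List.all_eq_true.1 chkA2 _ he
      exact chk_sound HM hgensM h1 x (by rw [hi]; exact funext hv)
    · obtain ⟨e, he, hv⟩ := mem_tblB2 hO hn h0
      have h1 := List.all_eq_true.1 chkB2 _ he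
      refine chk_sound HM hgensM h1 x ?_
      rw [hi, vec_pk2 (chk_valid h1), hv, vecB_eq]
    · obtain ⟨e, he, hv⟩ := mem_tblC2 hO hn h0
      have h1 := List.all_eq_true.1 chkC2 _ he
      refine chk_sound HM hgensM h1 x ?_
      rw [hi, vec_pk1 he (chk_valid h1), hv]
  obtain ⟨g, hg, h⟩ := key
  exact ⟨g, hg, Subtype.ext (by rw [h, vec_x0]; rfl)⟩

/-! ### Counting -/

/-- The 275 packed vectors. -/
def L275 : List ℕ :=
  tblA2.map (fun e => pk4 e.1) ++ (tblB2.map (fun e => pk2 e.1) ++ tblC2.map (fun e => pk1 e.1))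

theorem L275_length : L275.length = 275 := by decide +kernel

theorem L275_nodup : L275.Nodup := by decide +kernel

theorem tblA2_mem : ∀ e ∈ tblA2, ∃ i : ZMod 23, i ≠ 0 ∧ ∀ p, vec (pk4 e.1) p = vecA i p := by
  decide +kernel

theorem tblB2_mem : ∀ e ∈ tblB2, (e.1.testBit 0 = true ∧ tblB.any (fun f => Nat.beq f.1 e.1) = true) := by
  decide +kernel

theorem tblC2_mem : ∀ e ∈ tblC2, (e.1.testBit 0 = false ∧ tblB.any (fun f => Nat.beq f.1 e.1) = true) := by
  decide +kernel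

theorem octad_of_any {m : ℕ} (h : tblB.any (fun f => Nat.beq f.1 m) = true) :
    fin m ∈ octads ∧ none ∈ fin m := by
  rw [List.any_eq_true] at h
  obtain ⟨f, hf, h2⟩ := h
  rw [← Nat.eq_of_beq_eq_true h2]
  exact tblB_octad f hf

theorem L275_valid : ∀ X ∈ L275, valid X = true := by
  intro X hX
  rw [L275, List.mem_append, List.mem_append, List.mem_map, List.mem_map, List.mem_map] at hX
  rcases hX with ⟨e, he, rfl⟩ | ⟨e, he, rfl⟩ | ⟨e, he, rfl⟩
  · exact chk_valid (List.all_eq_true.1 chkA2 _ he)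
  · exact chk_valid (List.all_eq_true.1 chkB2 _ he)
  · exact chk_valid (List.all_eq_true.1 chkC2 _ he)

theorem ncard_275 : {x : GolayPt → ℤ | x ∈ leechLattice ∧ sqNorm x = 32 ∧ dotInt u0 x = 24 ∧
    dotInt (vecA 0) x = 16}.ncard = 275 := by
  rw [← L275_length]
  apply ncard_of_list L275 L275_valid L275_nodup
  intro x
  rw [Set.mem_ofPred_eq, mem275_iff]
  constructor
  · rintro (⟨i, hi0, hi⟩ | ⟨O, hO, hn, h0, hi⟩ | ⟨O, hO, hn, h0, hi⟩)
    · obtain ⟨e, he, hv⟩ := vecA_tblA2 i hi0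
      refine ⟨pk4 e.1, List.mem_append_left _ (List.mem_map.2 ⟨e, he, rfl⟩), ?_⟩
      rw [hi]; exact funext hv
    · obtain ⟨e, he, hv⟩ := mem_tblB2 hO hn h0
      refine ⟨pk2 e.1, List.mem_append_right _ (List.mem_append_left _
        (List.mem_map.2 ⟨e, he, rfl⟩)), ?_⟩
      rw [hi, vec_pk2 (chk_valid (List.all_eq_true.1 chkB2 _ he)), hv, vecB_eq]
    · obtain ⟨e, he, hv⟩ := mem_tblC2 hO hn h0
      refine ⟨pk1 e.1, List.mem_append_right _ (List.mem_append_right _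
        (List.mem_map.2 ⟨e, he, rfl⟩)), ?_⟩
      rw [hi, vec_pk1 he (chk_valid (List.all_eq_true.1 chkC2 _ he)), hv]
  · rintro ⟨X, hX, rfl⟩
    rw [L275, List.mem_append, List.mem_append, List.mem_map, List.mem_map, List.mem_map] at hX
    rcases hX with ⟨e, he, rfl⟩ | ⟨e, he, rfl⟩ | ⟨e, he, rfl⟩
    · obtain ⟨i, hi, h⟩ := tblA2_mem e he
      exact Or.inl ⟨i, hi, funext h⟩
    · right; left
      obtain ⟨h1, h2⟩ := tblB2_mem e he
      obtain ⟨h3, h4⟩ := octad_of_any h2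
      refine ⟨fin e.1, h3, h4, mem_fin.2 h1, ?_⟩
      rw [vec_pk2 (chk_valid (List.all_eq_true.1 chkB2 _ he)), vecB_eq]
    · right; right
      obtain ⟨h1, h2⟩ := tblC2_mem e he
      obtain ⟨h3, h4⟩ := octad_of_any h2
      refine ⟨fin e.1, h3, h4, ?_, ?_⟩
      · intro h
        have h5 : e.1.testBit 0 = true := mem_fin.1 h
        rw [h1] at h5
        exact Bool.noConfusion h5
      · rw [vec_pk1 he (chk_valid (List.all_eq_true.1 chkC2 _ he))]

end Cfsg.Agent.Leech.Co3Trans
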