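import Cfsg.Agent.Leech.FrameAux

/-!
Canonical forms for pairs of orthogonal minimal vectors and for the configurations whose
stabilisers are McL and HS (with a third vector), given transitivity of `Co0` on the vectors
of sum of squares 64.
-/

set_option autoImplicit false
open Cfsg

namespace Cfsg.Agent.Leech.FrameTriplesOf

open Cfsg.Agent.SporadicStructure.LeechBase Cfsg.Agent.SporadicStructure.GolayEven
open Cfsg.Agent.Leech.FrameAux

/-- The integer vector with value `a` at the extra point, `b` at `0` and `c` elsewhere. -/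
def vec3 (a b c : ℤ) : GolayPt → ℤ := fun p => if p = none then a else if p = some 0 then b else c

theorem vec3_none (a b c : ℤ) : vec3 a b c none = a := if_pos rfl

theorem vec3_zero (a b c : ℤ) : vec3 a b c (some 0) = b := by
  unfold vec3
  rw [if_neg (by simp), if_pos rfl]

theorem vec3_other (a b c : ℤ) {p : GolayPt} (h1 : p ≠ none) (h2 : p ≠ some 0) :
    vec3 a b c p = c := by
  unfold vec3
  rw [if_neg h1, if_neg h2]

theorem eq_vec3 {x : GolayPt → ℤ} {a b c : ℤ} (h1 : x none = a) (h2 : x (some 0) = b)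
    (h3 : ∀ p, p ≠ none → p ≠ some 0 → x p = c) : x = vec3 a b c := by
  funext p
  by_cases hp : p = none
  · rw [hp, h1, vec3_none]
  · by_cases hp' : p = some 0
    · rw [hp', h2, vec3_zero]
    · rw [h3 p hp hp', vec3_other _ _ _ hp hp']

/-- Transitivity of `Co0` on the vectors of sum of squares 64. -/
def Trans64 : Prop := ∀ v w : leechLattice, sqNorm (v : GolayPt → ℤ) = 64 →
  sqNorm (w : GolayPt → ℤ) = 64 → ∃ g : Co0, g • v = w

/-- Translations lie in `M24`. -/
theorem exists_shift (x : ZMod 23) : ∃ σ ∈ M24, σ none = none ∧ σ (some x) = some 0 := by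
  refine ⟨Equiv.optionCongr (Equiv.addRight (-x)), ?_, rfl, ?_⟩
  · apply SporadicA.M24Mem.mem_M24_of_qrWord
    intro t
    have h := SporadicA.M24Mem.qrWord_comp_affine
      (fun p => Equiv.optionCongr (Equiv.addRight (-x)) p) 1 (-x) (by decide) rfl
      (fun y => by
        show some (y + -x) = some (1 ^ 2 * y + -x)
        rw [one_pow, one_mul]) (t + x)
    rw [show (1 : ZMod 23) ^ 2 * (t + x) + -x = t by ring] at h
    have h' : qrWord t ∘ (fun p => (Equiv.optionCongr (Equiv.addRight (-x))) p) =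
      qrWord (t + x) := h
    change qrWord t ∘ (fun p => (Equiv.optionCongr (Equiv.addRight (-x))) p) ∈ golayCode
    rw [h']
    exact SporadicA.M24Mem.qrWord_mem_golayCode _
  · show some (x + -x) = some 0
    rw [add_neg_cancel]

/-- A vector `4 e_∞ ± 4 e_j` can be moved to `4 e_∞ + 4 e_0` by an element fixing `8 e_∞`. -/
theorem exists_move (j : GolayPt) (hj : j ≠ none) (s : ℤ) (hs : s = 1 ∨ s = -1)
    (v : leechLattice) (hv : (v : GolayPt → ℤ) = Pi.single none 4 + Pi.single j (4 * s)) :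
    ∃ g : Co0, ((g • v : leechLattice) : GolayPt → ℤ) = vec3 4 4 0 ∧ g • e8 none = e8 none := by
  obtain ⟨x, rfl⟩ := Option.ne_none_iff_exists'.1 hj
  -- first the sign
  have h1 : ∃ g : Co0, ((g • v : leechLattice) : GolayPt → ℤ) =
      Pi.single none 4 + Pi.single (some x) 4 ∧ g • e8 none = e8 none := by
    rcases hs with rfl | rfl
    · exact ⟨1, by rw [one_smul, hv]; norm_num, one_smul _ _⟩
    · obtain ⟨g, hg⟩ := exists_co0_of_sign (qrWord x) (SporadicA.M24Mem.qrWord_mem_golayCode x)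
      have hx : qrWord x (some x) = 1 := by
        rw [SporadicA.M24Mem.qrWord_some, if_pos ⟨0, by ring⟩]
      refine ⟨g, ?_, ?_⟩
      · funext i
        rw [hg, hv]
        simp only [Pi.add_apply, Pi.single_apply]
        by_cases hi : i = none
        · rw [hi, if_pos (SporadicA.M24Mem.qrWord_none x)]
          simp
        · by_cases hi' : i = some x
          · rw [hi', if_neg (by rw [hx]; decide)]
            simp
          · rw [if_neg hi, if_neg hi', if_neg hi']
            simp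
      · apply Subtype.ext
        funext i
        rw [hg, coe_e8, Pi.single_apply]
        by_cases hi : i = none
        · rw [hi, if_pos (SporadicA.M24Mem.qrWord_none x)]
        · rw [if_neg hi]; simp
  obtain ⟨g, hg, hg8⟩ := h1
  obtain ⟨σ, hσ, hσ0, hσx⟩ := exists_shift x
  obtain ⟨k, hk⟩ := exists_co0_of_perm σ hσ
  refine ⟨k * g, ?_, ?_⟩
  · rw [mul_smul]
    apply eq_vec3
    · rw [hk, hg]
      have : σ.symm none = none := by rw [Equiv.symm_apply_eq]; exact hσ0.symm
      rw [this]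
      simp
    · rw [hk, hg]
      have : σ.symm (some 0) = some x := by rw [Equiv.symm_apply_eq]; exact hσx.symm
      rw [this]
      simp
    · intro p hp hp'
      rw [hk, hg]
      have h1 : σ.symm p ≠ none := by
        intro h; rw [Equiv.symm_apply_eq, hσ0] at h; exact hp h
      have h2 : σ.symm p ≠ some x := by
        intro h; rw [Equiv.symm_apply_eq, hσx] at h; exact hp' h
      simp only [Pi.add_apply, Pi.single_apply]
      rw [if_neg h1, if_neg h2]; rfl
  · rw [mul_smul, hg8]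
    apply Subtype.ext
    funext i
    rw [hk, coe_e8, Pi.single_apply, Pi.single_apply]
    congr 1
    rw [Equiv.symm_apply_eq, hσ0]

/-- Pairs of orthogonal minimal vectors. -/
theorem orth_pair_of (hT : Trans64) (v w : leechLattice) (hv : sqNorm (v : GolayPt → ℤ) = 32)
    (hw : sqNorm (w : GolayPt → ℤ) = 32) (hvw : dotInt (v : GolayPt → ℤ) (w : GolayPt → ℤ) = 0) :
    ∃ g : Co0, ((g • v : leechLattice) : GolayPt → ℤ) = vec3 4 4 0 ∧
      ((g • w : leechLattice) : GolayPt → ℤ) = vec3 4 (-4) 0 := by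
  have hs : sqNorm ((v + w : leechLattice) : GolayPt → ℤ) = 64 := by
    rw [AddSubgroup.coe_add, sqNorm_add, hv, hw, hvw]; norm_num
  obtain ⟨g, hg⟩ := hT (v + w) (e8 none) hs (by rw [coe_e8, sqNorm_single]; norm_num)
  have h4 : ((g • v : leechLattice) : GolayPt → ℤ) none = 4 := by
    have h1 : dotInt ((g • v : leechLattice) : GolayPt → ℤ)
        ((g • (v + w) : leechLattice) : GolayPt → ℤ) = 32 := by
      rw [co0_dot, AddSubgroup.coe_add, dot_add_right, dot_self, hv, hvw]; norm_num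
    rw [hg, coe_e8, dot_single_right] at h1
    omega
  obtain ⟨j, s, hj, hs', hx⟩ := shape_four (g • v).2 (by rw [co0_sqNorm, hv]) h4
  obtain ⟨k, hk1, hk2⟩ := exists_move j hj s hs' (g • v) hx
  refine ⟨k * g, ?_, ?_⟩
  · rw [mul_smul]; exact hk1
  · have h5 : (k * g) • w = e8 none - k • (g • v) := by
      rw [← hk2, ← hg, ← co0_sub, ← co0_sub, mul_smul]
      congr 2
      abel
    rw [h5, AddSubgroup.coe_sub, hk1, coe_e8]
    apply eq_vec3
    · rw [Pi.sub_apply, Pi.single_eq_same, vec3_none]; norm_num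
    · rw [Pi.sub_apply, Pi.single_eq_of_ne (by simp), vec3_zero]; norm_num
    · intro p h1 h2
      rw [Pi.sub_apply, Pi.single_eq_of_ne h1, vec3_other _ _ _ h1 h2]; norm_num

/-- The remaining 22 points. -/
theorem card_rest : (((Finset.univ : Finset GolayPt).erase none).erase (some 0)).card = 22 := by
  rw [Finset.card_erase_of_mem, Finset.card_erase_of_mem (Finset.mem_univ _), Finset.card_univ]
  · rfl
  · exact Finset.mem_erase.2 ⟨by simp, Finset.mem_univ _⟩

theorem sqNorm_split (x : GolayPt → ℤ) : sqNorm x = x none ^ 2 + (x (some 0) ^ 2 +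
    ∑ i ∈ ((Finset.univ : Finset GolayPt).erase none).erase (some 0), x i ^ 2) := by
  rw [Finset.add_sum_erase _ (fun i => x i ^ 2) (Finset.mem_erase.2 ⟨by simp, Finset.mem_univ _⟩),
    Finset.add_sum_erase _ (fun i => x i ^ 2) (Finset.mem_univ _)]
  rfl

theorem dot_split (x y : GolayPt → ℤ) : dotInt x y = x none * y none + (x (some 0) * y (some 0) +
    ∑ i ∈ ((Finset.univ : Finset GolayPt).erase none).erase (some 0), x i * y i) := by
  rw [Finset.add_sum_erase _ (fun i => x i * y i) (Finset.mem_erase.2 ⟨by simp, Finset.mem_univ _⟩),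
    Finset.add_sum_erase _ (fun i => x i * y i) (Finset.mem_univ _)]
  rfl

theorem dot_vec3_zero (x : GolayPt → ℤ) (a b : ℤ) :
    dotInt x (vec3 a b 0) = x none * a + x (some 0) * b := by
  rw [dot_split, vec3_none, vec3_zero, Finset.sum_eq_zero, add_zero]
  intro i hi
  rw [Finset.mem_erase, Finset.mem_erase] at hi
  rw [vec3_other _ _ _ hi.2.1 hi.1, mul_zero]

theorem sqNorm_vec3 (a b c : ℤ) : sqNorm (vec3 a b c) = a ^ 2 + b ^ 2 + 22 * c ^ 2 := by
  rw [sqNorm_split, vec3_none, vec3_zero, Finset.sum_congr rfl (g := fun _ => c ^ 2),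
    Finset.sum_const, card_rest]
  · simp; ring
  · intro i hi
    rw [Finset.mem_erase, Finset.mem_erase] at hi
    rw [vec3_other _ _ _ hi.2.1 hi.1]

/-- An odd vector whose coordinates off two points have total square 22 can be moved to
`(r, t, 1^22)` by a sign change fixing both points. -/
theorem exists_sign_fix (c : leechLattice) (r t : ℤ) (hr : (c : GolayPt → ℤ) none = r)
    (ht : (c : GolayPt → ℤ) (some 0) = t) (hr4 : r ≡ 1 [ZMOD 4]) (ht4 : t ≡ 1 [ZMOD 4])
    (hn : sqNorm (c : GolayPt → ℤ) = r ^ 2 + t ^ 2 + 22) :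
    ∃ g : Co0, ((g • c : leechLattice) : GolayPt → ℤ) = vec3 r t 1 ∧
      ∀ u : leechLattice, (∀ i, i ≠ none → i ≠ some 0 → (u : GolayPt → ℤ) i = 0) → g • u = u := by
  have hrd := hr4.dvd
  have htd := ht4.dvd
  have hodd : ∀ i, ¬ (2 : ℤ) ∣ (c : GolayPt → ℤ) i := fun i =>
    odd_of_odd c.2 (i := none) (by rw [hr]; omega) i
  have hsum : ∑ i ∈ ((Finset.univ : Finset GolayPt).erase none).erase (some 0),
      (((c : GolayPt → ℤ) i) ^ 2 - 1) = 0 := by
    rw [Finset.sum_sub_distrib, Finset.sum_const, card_rest]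
    rw [sqNorm_split, hr, ht] at hn
    rw [nsmul_eq_mul]
    push_cast
    linarith
  have hsq : ∀ i, 1 ≤ ((c : GolayPt → ℤ) i) ^ 2 := by
    intro i
    have h0 : (c : GolayPt → ℤ) i ≠ 0 := by
      intro h; apply hodd i; rw [h]; exact dvd_zero _
    have := Int.one_le_abs h0
    nlinarith [sq_abs ((c : GolayPt → ℤ) i)]
  have hone : ∀ i, i ≠ none → i ≠ some 0 → (c : GolayPt → ℤ) i = 1 ∨ (c : GolayPt → ℤ) i = -1 := by
    intro i h1 h2
    have h3 := (Finset.sum_eq_zero_iff_of_nonneg (fun i _ => by linarith [hsq i])).1 hsum i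
      (Finset.mem_erase.2 ⟨h2, Finset.mem_erase.2 ⟨h1, Finset.mem_univ _⟩⟩)
    exact sq_eq_one_iff.1 (by linarith)
  have hD : (Finset.univ.filter fun i => (c : GolayPt → ℤ) i ≡ 3 [ZMOD 4]) ∈
      supports (golayCode : Set (GolayPt → ZMod 2)) := by
    obtain ⟨m, -, -, h⟩ := (mem_leechLattice_iff_mem_leechSet _).1 c.2
    exact h 3
  rw [mem_supports_iff_ind] at hD
  obtain ⟨g, hg⟩ := exists_co0_of_sign _ hD
  have hind : ∀ i, ind (Finset.univ.filter fun i => (c : GolayPt → ℤ) i ≡ 3 [ZMOD 4]) i = 0 ↔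
      ¬ ((c : GolayPt → ℤ) i ≡ 3 [ZMOD 4]) := by
    intro i
    unfold ind
    simp only [Finset.mem_filter, Finset.mem_univ, true_and]
    by_cases h : (c : GolayPt → ℤ) i ≡ 3 [ZMOD 4]
    · simp [h]
    · simp [h]
  have hfix : ∀ i, (i = none ∨ i = some 0) →
      ind (Finset.univ.filter fun i => (c : GolayPt → ℤ) i ≡ 3 [ZMOD 4]) i = 0 := by
    rintro i (rfl | rfl)
    · rw [hind, hr, Int.modEq_iff_dvd]; omega
    · rw [hind, ht, Int.modEq_iff_dvd]; omega
  refine ⟨g, ?_, ?_⟩
  · apply eq_vec3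
    · rw [hg, if_pos (hfix _ (Or.inl rfl)), hr]
    · rw [hg, if_pos (hfix _ (Or.inr rfl)), ht]
    · intro p h1 h2
      rw [hg]
      rcases hone p h1 h2 with h | h
      · rw [if_pos ((hind p).2 (by rw [h, Int.modEq_iff_dvd]; omega)), h]
      · rw [if_neg (fun h0 => (hind p).1 h0 (by rw [h, Int.modEq_iff_dvd]; omega)), h]; norm_num
  · intro u hu
    apply Subtype.ext
    funext i
    rw [hg]
    by_cases h1 : i = none
    · rw [if_pos (hfix _ (Or.inl h1))]
    · by_cases h2 : i = some 0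
      · rw [if_pos (hfix _ (Or.inr h2))]
      · rw [hu i h1 h2]; simp

/-- The McLaughlin configuration together with a third vector. -/
theorem mcl_triple_of (hT : Trans64) (v w x : leechLattice)
    (hv : sqNorm (v : GolayPt → ℤ) = 32) (hw : sqNorm (w : GolayPt → ℤ) = 32)
    (hx : sqNorm (x : GolayPt → ℤ) = 32)
    (hvw : dotInt (v : GolayPt → ℤ) (w : GolayPt → ℤ) = -8)
    (hvx : dotInt (v : GolayPt → ℤ) (x : GolayPt → ℤ) = 0)
    (hwx : dotInt (w : GolayPt → ℤ) (x : GolayPt → ℤ) = 16) :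
    ∃ g : Co0, ((g • v : leechLattice) : GolayPt → ℤ) = vec3 4 4 0 ∧
      ((g • w : leechLattice) : GolayPt → ℤ) = vec3 1 (-3) 1 ∧
      ((g • x : leechLattice) : GolayPt → ℤ) = vec3 4 (-4) 0 := by
  obtain ⟨g, hg1, hg2⟩ := orth_pair_of hT v x hv hx hvx
  have h1 : dotInt ((g • w : leechLattice) : GolayPt → ℤ) ((g • v : leechLattice) : GolayPt → ℤ) = -8 := by
    rw [co0_dot, dot_comm]; exact hvw
  have h2 : dotInt ((g • w : leechLattice) : GolayPt → ℤ) ((g • x : leechLattice) : GolayPt → ℤ) = 16 := by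
    rw [co0_dot]; exact hwx
  rw [hg1, dot_vec3_zero] at h1
  rw [hg2, dot_vec3_zero] at h2
  obtain ⟨k, hk1, hk2⟩ := exists_sign_fix (g • w) 1 (-3) (by omega) (by omega) rfl
    (by rw [Int.modEq_iff_dvd]; norm_num) (by rw [co0_sqNorm, hw]; norm_num)
  refine ⟨k * g, ?_, ?_, ?_⟩
  · rw [mul_smul, hk2, hg1]
    intro i h1 h2
    rw [hg1, vec3_other _ _ _ h1 h2]
  · rw [mul_smul, hk1]
  · rw [mul_smul, hk2, hg2]
    intro i h1 h2
    rw [hg2, vec3_other _ _ _ h1 h2]

/-- The Higman-Sims configuration together with a third vector. -/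
theorem hs_triple_of (hT : Trans64) (v w x : leechLattice)
    (hv : sqNorm (v : GolayPt → ℤ) = 48) (hw : sqNorm (w : GolayPt → ℤ) = 48)
    (hvw : dotInt (v : GolayPt → ℤ) (w : GolayPt → ℤ) = -32)
    (hx : sqNorm (x : GolayPt → ℤ) = 32)
    (hvx : dotInt (v : GolayPt → ℤ) (x : GolayPt → ℤ) = 24)
    (hwx : dotInt (w : GolayPt → ℤ) (x : GolayPt → ℤ) = -24) :
    ∃ g : Co0, ((g • v : leechLattice) : GolayPt → ℤ) = vec3 5 1 1 ∧
      ((g • w : leechLattice) : GolayPt → ℤ) = vec3 (-1) (-5) (-1) ∧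
      ((g • x : leechLattice) : GolayPt → ℤ) = vec3 4 4 0 := by
  have hs : sqNorm ((v + w : leechLattice) : GolayPt → ℤ) = 32 := by
    rw [AddSubgroup.coe_add, sqNorm_add, hv, hw, hvw]; norm_num
  have hxs : dotInt (x : GolayPt → ℤ) ((v + w : leechLattice) : GolayPt → ℤ) = 0 := by
    rw [dot_comm, AddSubgroup.coe_add, dot_add_left, hvx, hwx]; norm_num
  obtain ⟨g, hg1, hg2⟩ := orth_pair_of hT x (v + w) hx hs hxs
  have h1 : dotInt ((g • v : leechLattice) : GolayPt → ℤ) ((g • x : leechLattice) : GolayPt → ℤ) = 24 := by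
    rw [co0_dot]; exact hvx
  have h2 : dotInt ((g • v : leechLattice) : GolayPt → ℤ)
      ((g • (v + w) : leechLattice) : GolayPt → ℤ) = 16 := by
    rw [co0_dot, AddSubgroup.coe_add, dot_add_right, dot_self, hv, hvw]; norm_num
  rw [hg1, dot_vec3_zero] at h1
  rw [hg2, dot_vec3_zero] at h2
  obtain ⟨k, hk1, hk2⟩ := exists_sign_fix (g • v) 5 1 (by omega) (by omega)
    (by rw [Int.modEq_iff_dvd]; norm_num) rfl (by rw [co0_sqNorm, hv]; norm_num)
  have hkx : k • g • x = g • x := hk2 _ fun i h1 h2 => by rw [hg1, vec3_other _ _ _ h1 h2]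
  have hks : k • g • (v + w) = g • (v + w) :=
    hk2 _ fun i h1 h2 => by rw [hg2, vec3_other _ _ _ h1 h2]
  refine ⟨k * g, ?_, ?_, ?_⟩
  · rw [mul_smul, hk1]
  · have h5 : (k * g) • w = k • g • (v + w) - k • (g • v) := by
      rw [← co0_sub, ← co0_sub, mul_smul]
      congr 2
      abel
    rw [h5, hks, AddSubgroup.coe_sub, hg2, hk1]
    apply eq_vec3
    · rw [Pi.sub_apply, vec3_none, vec3_none]; norm_num
    · rw [Pi.sub_apply, vec3_zero, vec3_zero]; norm_num
    · intro p h1 h2
      rw [Pi.sub_apply, vec3_other _ _ _ h1 h2, vec3_other _ _ _ h1 h2]; norm_num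
  · rw [mul_smul, hkx, hg1]

end Cfsg.Agent.Leech.FrameTriplesOf
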