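import Cfsg.Agent.Leech.HSList
import Cfsg.Agent.Leech.FrameTriplesOf

/-!
The Higman–Sims configuration: the 100 minimal vectors attached to two vectors of sum of
squares 48 with inner product -32, their number, and the orbits of the stabiliser of one of
them, given (1) transitivity of `Co0` on the vectors of sum of squares 64, (2) 5-transitivity of
`M24`, (3) transitivity of `Co0` on the vectors of sum of squares 48 (only for the existence).
-/

set_option autoImplicit false

namespace Cfsg.Agent.Leech.HSConfig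

open Cfsg
open Cfsg.Agent.Leech.HSList Cfsg.Agent.Leech.FrameTriplesOf Cfsg.Agent.Leech.FrameAux
open scoped Pointwise

/-! ### The 100 vectors -/

/-- The minimal vectors with inner products 24 and -24 with `v` and `w`. -/
def X (v w : leechLattice) : Set leechLattice :=
  {x | sqNorm (x : GolayPt → ℤ) = 32 ∧ dotInt (v : GolayPt → ℤ) (x : GolayPt → ℤ) = 24 ∧
    dotInt (w : GolayPt → ℤ) (x : GolayPt → ℤ) = -24}

theorem mem_X {v w x : leechLattice} : x ∈ X v w ↔ sqNorm (x : GolayPt → ℤ) = 32 ∧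
    dotInt (v : GolayPt → ℤ) (x : GolayPt → ℤ) = 24 ∧
    dotInt (w : GolayPt → ℤ) (x : GolayPt → ℤ) = -24 := Iff.rfl

theorem smul_mem_X (g : Co0) {v w x : leechLattice} : g • x ∈ X (g • v) (g • w) ↔ x ∈ X v w := by
  rw [mem_X, mem_X, co0_sqNorm, co0_dot, co0_dot]

theorem dot_vec_five (x : GolayPt → ℤ) : dotInt (vec3 5 1 1) x = ∑ i, x i + 4 * x none := by
  rw [dotInt_def, sum_split, sum_split, vec3_none, vec3_zero,
    Finset.sum_congr rfl (g := fun i => x i)]
  · ring
  · intro i hi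
    rw [mem_rest] at hi
    rw [vec3_other _ _ _ hi.1 hi.2, one_mul]

theorem dot_vec_neg (x : GolayPt → ℤ) :
    dotInt (vec3 (-1) (-5) (-1)) x = -(∑ i, x i + 4 * x (some 0)) := by
  rw [dotInt_def, sum_split, sum_split, vec3_none, vec3_zero,
    Finset.sum_congr rfl (g := fun i => -x i), Finset.sum_neg_distrib]
  · ring
  · intro i hi
    rw [mem_rest] at hi
    rw [vec3_other _ _ _ hi.1 hi.2, neg_one_mul]

theorem vA_eq : vA = vec3 4 4 0 := by
  funext p
  unfold vA vec3
  by_cases h1 : p = none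
  · rw [if_pos (Or.inl h1), if_pos h1]
  · by_cases h2 : p = some 0
    · rw [if_pos (Or.inr h2), if_neg h1, if_pos h2]
    · rw [if_neg (by tauto), if_neg h1, if_neg h2]

/-- The configuration `(5,1,1^22)`, `-(1,5,1^22)`. -/
structure Std (v w : leechLattice) : Prop where
  hv : (v : GolayPt → ℤ) = vec3 5 1 1
  hw : (w : GolayPt → ℤ) = vec3 (-1) (-5) (-1)

theorem Std.mem_X_iff' {v w : leechLattice} (h : Std v w) (x : leechLattice) :
    x ∈ X v w ↔ ∑ i, (x : GolayPt → ℤ) i ^ 2 = 32 ∧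
      ∑ i, (x : GolayPt → ℤ) i + 4 * (x : GolayPt → ℤ) none = 24 ∧
      ∑ i, (x : GolayPt → ℤ) i + 4 * (x : GolayPt → ℤ) (some 0) = 24 := by
  rw [mem_X, h.hv, h.hw, dot_vec_five, dot_vec_neg, sqNorm_def, neg_inj]

/-- The classification of the 100 vectors. -/
theorem Std.mem_X_iff {v w : leechLattice} (h : Std v w) (x : leechLattice) :
    x ∈ X v w ↔ (x : GolayPt → ℤ) = vA ∨ (∃ i ∈ rest, (x : GolayPt → ℤ) = vB i) ∨
      (∃ o ∈ hexadOctads, (x : GolayPt → ℤ) = vC o) := by
  rw [h.mem_X_iff']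
  constructor
  · rintro ⟨h1, h2, h3⟩
    rcases classify x.2 h1 h2 h3 with h | ⟨i, hi1, hi2, hi⟩ | ⟨o, ho, ho1, ho2, hx⟩
    · exact Or.inl h
    · exact Or.inr (Or.inl ⟨i, mem_rest.2 ⟨hi1, hi2⟩, hi⟩)
    · exact Or.inr (Or.inr ⟨o, ⟨ho, ho1, ho2⟩, hx⟩)
  · rintro (hx | ⟨i, hi, hx⟩ | ⟨o, ho, hx⟩)
    · rw [hx]
      exact ⟨sum_sq_vA, by rw [sum_vA]; rfl, by rw [sum_vA]; rfl⟩
    · rw [mem_rest] at hi
      rw [hx, sum_sq_vB, sum_vB, vB_of_ne hi.1, vB_of_ne hi.2]
      norm_num
    · have h1 : vC o none = 2 := if_pos ho.2.1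
      have h2 : vC o (some 0) = 2 := if_pos ho.2.2
      rw [hx, sum_sq_vC ho.1, sum_vC ho.1, h1, h2]
      norm_num

theorem dot_vA_vA : dotInt vA vA = 32 := by
  rw [dotInt_def, sum_vA_mul]; rfl

theorem dot_vA_vB {i : GolayPt} (hi : i ∈ rest) : dotInt vA (vB i) = 8 := by
  rw [mem_rest] at hi
  rw [dotInt_def, sum_vA_mul, vB_of_ne hi.1, vB_of_ne hi.2]; rfl

theorem dot_vA_vC {o : Finset GolayPt} (ho : o ∈ hexadOctads) : dotInt vA (vC o) = 16 := by
  have h1 : vC o none = 2 := if_pos ho.2.1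
  have h2 : vC o (some 0) = 2 := if_pos ho.2.2
  rw [dotInt_def, sum_vA_mul, h1, h2]; rfl

/-- The two sets of 22 and 77 vectors. -/
def near (v w x : leechLattice) : Set leechLattice :=
  {y | y ∈ X v w ∧ dotInt (x : GolayPt → ℤ) (y : GolayPt → ℤ) = 8}

def far (v w x : leechLattice) : Set leechLattice :=
  {y | y ∈ X v w ∧ y ≠ x ∧ dotInt (x : GolayPt → ℤ) (y : GolayPt → ℤ) ≠ 8}

theorem ncard_near_smul (g : Co0) (v w x : leechLattice) :
    (near (g • v) (g • w) (g • x)).ncard = (near v w x).ncard := by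
  have : near (g • v) (g • w) (g • x) = (fun y => g • y) '' near v w x := by
    ext y
    constructor
    · rintro ⟨h1, h2⟩
      refine ⟨g⁻¹ • y, ⟨?_, ?_⟩, smul_inv_smul g y⟩
      · rw [← smul_mem_X g, smul_inv_smul]; exact h1
      · rw [← co0_dot g, smul_inv_smul]; exact h2
    · rintro ⟨z, ⟨h1, h2⟩, rfl⟩
      exact ⟨(smul_mem_X g).2 h1, (co0_dot g _ _).trans h2⟩
  rw [this, (MulAction.injective g).injOn.ncard_image]

theorem ncard_far_smul (g : Co0) (v w x : leechLattice) :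
    (far (g • v) (g • w) (g • x)).ncard = (far v w x).ncard := by
  have : far (g • v) (g • w) (g • x) = (fun y => g • y) '' far v w x := by
    ext y
    constructor
    · rintro ⟨h1, h2, h3⟩
      refine ⟨g⁻¹ • y, ⟨?_, ?_, ?_⟩, smul_inv_smul g y⟩
      · rw [← smul_mem_X g, smul_inv_smul]; exact h1
      · rintro rfl
        exact h2 (smul_inv_smul g y).symm
      · rw [← co0_dot g, smul_inv_smul]; exact h3
    · rintro ⟨z, ⟨h1, h2, h3⟩, rfl⟩
      exact ⟨(smul_mem_X g).2 h1, fun h => h2 (MulAction.injective g h), fun h =>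
        h3 ((co0_dot g _ _).symm.trans h)⟩
  rw [this, (MulAction.injective g).injOn.ncard_image]

/-- The vectors as lattice elements. -/
def lB (i : GolayPt) : leechLattice := ⟨vB i, vB_mem i⟩

open Classical in
/-- `2·1_o` for an octad (and 0 otherwise). -/
noncomputable def lC (o : Finset GolayPt) : leechLattice :=
  if h : o ∈ octads then ⟨vC o, vC_mem h⟩ else 0

theorem coe_lB (i : GolayPt) : (lB i : GolayPt → ℤ) = vB i := rfl

theorem coe_lC {o : Finset GolayPt} (ho : o ∈ octads) : (lC o : GolayPt → ℤ) = vC o := by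
  unfold lC
  rw [dif_pos ho]

theorem lB_injective : Function.Injective lB := fun i j h =>
  vB_injective (by rw [← coe_lB, h, coe_lB])

theorem lC_injOn : Set.InjOn lC hexadOctads := fun o ho o' ho' h =>
  vC_injective (by rw [← coe_lC ho.1, h, coe_lC ho'.1])

theorem Std.near_eq {v w x : leechLattice} (h : Std v w) (hx : (x : GolayPt → ℤ) = vA) :
    near v w x = lB '' (rest : Set GolayPt) := by
  ext y
  constructor
  · rintro ⟨h1, h2⟩
    rw [hx] at h2
    rcases (h.mem_X_iff y).1 h1 with hy | ⟨i, hi, hy⟩ | ⟨o, ho, hy⟩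
    · rw [hy, dot_vA_vA] at h2; norm_num at h2
    · exact ⟨i, hi, Subtype.ext hy.symm⟩
    · rw [hy, dot_vA_vC ho] at h2; norm_num at h2
  · rintro ⟨i, hi, rfl⟩
    exact ⟨(h.mem_X_iff _).2 (Or.inr (Or.inl ⟨i, hi, rfl⟩)), by
      rw [hx, coe_lB]; exact dot_vA_vB hi⟩

theorem Std.far_eq {v w x : leechLattice} (h : Std v w) (hx : (x : GolayPt → ℤ) = vA) :
    far v w x = lC '' hexadOctads := by
  ext y
  constructor
  · rintro ⟨h1, h2, h3⟩
    rw [hx] at h3
    rcases (h.mem_X_iff y).1 h1 with hy | ⟨i, hi, hy⟩ | ⟨o, ho, hy⟩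
    · exact absurd (Subtype.ext (hy.trans hx.symm)) h2
    · rw [hy, dot_vA_vB hi] at h3; exact absurd rfl h3
    · exact ⟨o, ho, Subtype.ext ((coe_lC ho.1).trans hy.symm)⟩
  · rintro ⟨o, ho, rfl⟩
    refine ⟨(h.mem_X_iff _).2 (Or.inr (Or.inr ⟨o, ho, coe_lC ho.1⟩)), ?_, ?_⟩
    · intro he
      have h1 := dot_vA_vC ho
      rw [← coe_lC ho.1, he, hx, dot_vA_vA] at h1
      norm_num at h1
    · rw [hx, coe_lC ho.1, dot_vA_vC ho]; norm_num

theorem Std.ncard_near {v w x : leechLattice} (h : Std v w) (hx : (x : GolayPt → ℤ) = vA) :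
    (near v w x).ncard = 22 := by
  rw [h.near_eq hx, lB_injective.injOn.ncard_image, Set.ncard_coe_finset, HSList.card_rest]

theorem Std.ncard_far {v w x : leechLattice} (h : Std v w) (hx : (x : GolayPt → ℤ) = vA) :
    (far v w x).ncard = 77 := by
  rw [h.far_eq hx, lC_injOn.ncard_image, ncard_hexadOctads]

/-- The vector `(4,4,0^22)` of the lattice. -/
def lA : leechLattice := ⟨vA, vA_mem⟩

theorem Std.X_eq {v w : leechLattice} (h : Std v w) :
    X v w = insert lA (near v w lA ∪ far v w lA) := by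
  ext y
  constructor
  · intro hy
    by_cases h1 : y = lA
    · exact Or.inl h1
    · by_cases h2 : dotInt (lA : GolayPt → ℤ) (y : GolayPt → ℤ) = 8
      · exact Or.inr (Or.inl ⟨hy, h2⟩)
      · exact Or.inr (Or.inr ⟨hy, h1, h2⟩)
  · rintro (rfl | hy | hy)
    · exact (h.mem_X_iff _).2 (Or.inl rfl)
    · exact hy.1
    · exact hy.1

theorem Std.ncard_X {v w : leechLattice} (h : Std v w) : (X v w).ncard = 100 := by
  have hf1 : (near v w lA).Finite := Set.finite_of_ncard_ne_zero (by rw [h.ncard_near rfl]; norm_num)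
  have hf2 : (far v w lA).Finite := Set.finite_of_ncard_ne_zero (by rw [h.ncard_far rfl]; norm_num)
  rw [h.X_eq, Set.ncard_insert_of_notMem _ (hf1.union hf2), Set.ncard_union_eq _ hf1 hf2,
    h.ncard_near rfl, h.ncard_far rfl]
  · rw [Set.disjoint_left]
    rintro y ⟨-, h1⟩ ⟨-, -, h2⟩
    exact h2 h1
  · rintro (⟨-, h1⟩ | ⟨-, h1, -⟩)
    · have : dotInt (lA : GolayPt → ℤ) (lA : GolayPt → ℤ) = 32 := dot_vA_vA
      rw [this] at h1
      norm_num at h1
    · exact h1 rfl

theorem ncard_X_smul (g : Co0) (v w : leechLattice) :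
    (X (g • v) (g • w)).ncard = (X v w).ncard := by
  have : X (g • v) (g • w) = (fun y => g • y) '' X v w := by
    ext y
    constructor
    · intro h1
      exact ⟨g⁻¹ • y, by rw [← smul_mem_X g, smul_inv_smul]; exact h1, smul_inv_smul g y⟩
    · rintro ⟨z, h1, rfl⟩
      exact (smul_mem_X g).2 h1
  rw [this, (MulAction.injective g).injOn.ncard_image]

/-! ### Orbits of the two-point stabiliser in `M24` -/

theorem smul_mem_octads {σ : Equiv.Perm GolayPt} (hσ : σ ∈ M24) {o : Finset GolayPt}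
    (ho : o ∈ octads) : σ • o ∈ octads := by
  refine ⟨?_, by rw [Finset.card_smul_finset]; exact ho.2⟩
  have h : σ • supports (golayCode : Set (GolayPt → ZMod 2)) =
      supports (golayCode : Set (GolayPt → ZMod 2)) := hσ
  rw [← h]
  exact Set.smul_mem_smul_set ho.1

theorem exists_perm_of_embedding {n : ℕ} (hn : MulAction.IsMultiplyPretransitive M24 GolayPt n)
    (a b : Fin n → GolayPt) (ha : Function.Injective a) (hb : Function.Injective b) :
    ∃ σ ∈ M24, ∀ i, σ (a i) = b i := by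
  obtain ⟨g, hg⟩ := hn.exists_smul_eq (⟨a, ha⟩ : Fin n ↪ GolayPt) ⟨b, hb⟩
  exact ⟨g, g.2, fun i => congrArg (fun e : Fin n ↪ GolayPt => e i) hg⟩

/-- Three points fixing two of them. -/
theorem exists_perm_point (h5 : MulAction.IsMultiplyPretransitive M24 GolayPt 5)
    {i j : GolayPt} (hi : i ∈ rest) (hj : j ∈ rest) :
    ∃ σ ∈ M24, σ none = none ∧ σ (some 0) = some 0 ∧ σ i = j := by
  have h3 : MulAction.IsMultiplyPretransitive M24 GolayPt 3 :=
    MulAction.isMultiplyPretransitive_of_le (n := 5) (by norm_num) (by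
      rw [Nat.card_eq_fintype_card]; decide)
  rw [mem_rest] at hi hj
  obtain ⟨σ, hσ, h⟩ := exists_perm_of_embedding h3 ![none, some 0, i] ![none, some 0, j]
    (by
      intro a b hab
      fin_cases a <;> fin_cases b <;> simp_all)
    (by
      intro a b hab
      fin_cases a <;> fin_cases b <;> simp_all)
  exact ⟨σ, hσ, h 0, h 1, h 2⟩

/-- Five points of an octad through `none` and `some 0`. -/
theorem exists_five {o : Finset GolayPt} (ho : o ∈ hexadOctads) :
    ∃ a : Fin 5 → GolayPt, Function.Injective a ∧ a 0 = none ∧ a 1 = some 0 ∧ ∀ i, a i ∈ o := by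
  have hc : 3 ≤ ((o.erase none).erase (some 0)).card := by
    rw [Finset.card_erase_of_mem (Finset.mem_erase.2 ⟨by simp, ho.2.2⟩),
      Finset.card_erase_of_mem ho.2.1, ho.1.2]
    norm_num
  obtain ⟨t, ht, ht3⟩ := Finset.exists_subset_card_eq hc
  obtain ⟨p, q, r, hpq, hpr, hqr, rfl⟩ := Finset.card_eq_three.1 ht3
  have hp := ht (by simp : p ∈ ({p, q, r} : Finset GolayPt))
  have hq := ht (by simp : q ∈ ({p, q, r} : Finset GolayPt))
  have hr := ht (by simp : r ∈ ({p, q, r} : Finset GolayPt))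
  rw [Finset.mem_erase, Finset.mem_erase] at hp hq hr
  refine ⟨![none, some 0, p, q, r], ?_, rfl, rfl, ?_⟩
  · intro a b hab
    fin_cases a <;> fin_cases b <;> simp_all
  · intro a
    fin_cases a
    · exact ho.2.1
    · exact ho.2.2
    · exact hp.2.2
    · exact hq.2.2
    · exact hr.2.2

theorem exists_perm_octad (h5 : MulAction.IsMultiplyPretransitive M24 GolayPt 5)
    {o o' : Finset GolayPt} (ho : o ∈ hexadOctads) (ho' : o' ∈ hexadOctads) :
    ∃ σ ∈ M24, σ none = none ∧ σ (some 0) = some 0 ∧ σ • o = o' := by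
  obtain ⟨a, ha, ha0, ha1, hao⟩ := exists_five ho
  obtain ⟨b, hb, hb0, hb1, hbo⟩ := exists_five ho'
  obtain ⟨σ, hσ, h⟩ := exists_perm_of_embedding h5 a b ha hb
  refine ⟨σ, hσ, ?_, ?_, ?_⟩
  · have := h 0
    rwa [ha0, hb0] at this
  · have := h 1
    rwa [ha1, hb1] at this
  · apply SporadicA.GolayBase.octad_unique (smul_mem_octads hσ ho.1) ho'.1
    have hsub : Finset.univ.image b ⊆ σ • o ∩ o' := by
      intro p hp
      obtain ⟨i, -, rfl⟩ := Finset.mem_image.1 hp
      refine Finset.mem_inter.2 ⟨?_, hbo i⟩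
      rw [← h i]
      exact Finset.smul_mem_smul_finset (hao i)
    have := Finset.card_le_card hsub
    rwa [Finset.card_image_of_injective _ hb, Finset.card_univ, Fintype.card_fin] at this

/-- The element of `Co0` given by a permutation fixing `none` and `some 0` fixes the vectors
`(a, b, c^22)`. -/
theorem fix_vec3 {σ : Equiv.Perm GolayPt} (h1 : σ none = none) (h2 : σ (some 0) = some 0)
    {g : Co0} (hg : ∀ (u : leechLattice) (i : GolayPt),
      ((g • u : leechLattice) : GolayPt → ℤ) i = (u : GolayPt → ℤ) (σ.symm i))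
    {a b c : ℤ} {u : leechLattice} (hu : (u : GolayPt → ℤ) = vec3 a b c) : g • u = u := by
  apply Subtype.ext
  rw [hu]
  have h1' : σ.symm none = none := by rw [Equiv.symm_apply_eq]; exact h1.symm
  have h2' : σ.symm (some 0) = some 0 := by rw [Equiv.symm_apply_eq]; exact h2.symm
  apply eq_vec3
  · rw [hg, hu, h1', vec3_none]
  · rw [hg, hu, h2', vec3_zero]
  · intro p hp1 hp2
    rw [hg, hu, vec3_other]
    · intro h; rw [Equiv.symm_apply_eq, h1] at h; exact hp1 h
    · intro h; rw [Equiv.symm_apply_eq, h2] at h; exact hp2 h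

/-- The stabiliser of the three standard vectors is transitive on the 22 and on the 77. -/
theorem Std.exists_smul (h5 : MulAction.IsMultiplyPretransitive M24 GolayPt 5)
    {v w x y y' : leechLattice} (h : Std v w) (hx : (x : GolayPt → ℤ) = vA)
    (hy : y ∈ X v w) (hy' : y' ∈ X v w) (hyx : y ≠ x) (hyx' : y' ≠ x)
    (hd : dotInt (x : GolayPt → ℤ) (y : GolayPt → ℤ) = 8 ↔
      dotInt (x : GolayPt → ℤ) (y' : GolayPt → ℤ) = 8) :
    ∃ g : Co0, g • v = v ∧ g • w = w ∧ g • x = x ∧ g • y = y' := by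
  have hfix : ∀ σ ∈ M24, σ none = none → σ (some 0) = some 0 →
      (∀ i, (y : GolayPt → ℤ) (σ.symm i) = (y' : GolayPt → ℤ) i) →
      ∃ g : Co0, g • v = v ∧ g • w = w ∧ g • x = x ∧ g • y = y' := by
    intro σ hσ h1 h2 h3
    obtain ⟨g, hg⟩ := exists_co0_of_perm σ hσ
    refine ⟨g, fix_vec3 h1 h2 hg h.hv, fix_vec3 h1 h2 hg h.hw,
      fix_vec3 h1 h2 hg (hx.trans vA_eq), ?_⟩
    apply Subtype.ext
    funext i
    rw [hg, h3]
  rw [hx] at hd
  rcases (h.mem_X_iff y).1 hy with e | ⟨i, hi, e⟩ | ⟨o, ho, e⟩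
  · exact absurd (Subtype.ext (e.trans hx.symm)) hyx
  · rcases (h.mem_X_iff y').1 hy' with e' | ⟨j, hj, e'⟩ | ⟨o', ho', e'⟩
    · exact absurd (Subtype.ext (e'.trans hx.symm)) hyx'
    · obtain ⟨σ, hσ, h1, h2, h3⟩ := exists_perm_point h5 hi hj
      refine hfix σ hσ h1 h2 fun p => ?_
      rw [e, e']
      unfold vB
      simp only [Equiv.symm_apply_eq, h3]
    · rw [e, e', dot_vA_vB hi, dot_vA_vC ho'] at hd
      exact absurd (hd.1 rfl) (by norm_num)
  · rcases (h.mem_X_iff y').1 hy' with e' | ⟨j, hj, e'⟩ | ⟨o', ho', e'⟩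
    · exact absurd (Subtype.ext (e'.trans hx.symm)) hyx'
    · rw [e, e', dot_vA_vB hj, dot_vA_vC ho] at hd
      exact absurd (hd.2 rfl) (by norm_num)
    · obtain ⟨σ, hσ, h1, h2, h3⟩ := exists_perm_octad h5 ho ho'
      refine hfix σ hσ h1 h2 fun p => ?_
      rw [e, e', ← h3]
      unfold vC
      have : σ.symm p ∈ o ↔ p ∈ σ • o := by
        rw [Finset.mem_smul_finset]
        constructor
        · intro hp
          exact ⟨_, hp, by simp⟩
        · rintro ⟨q, hq, rfl⟩
          simpa using hq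
      simp only [this]

/-! ### The two statements -/

/-- The Higman–Sims group on 100 points has rank 3 with subdegrees 1, 22, 77 (S1584). -/
theorem rank_three_of (hT : Trans64) (h5 : MulAction.IsMultiplyPretransitive M24 GolayPt 5)
    (v w x : leechLattice) (hv : sqNorm (v : GolayPt → ℤ) = 48)
    (hw : sqNorm (w : GolayPt → ℤ) = 48)
    (hvw : dotInt (v : GolayPt → ℤ) (w : GolayPt → ℤ) = -32) (hx : x ∈ X v w) :
    (near v w x).ncard = 22 ∧ (far v w x).ncard = 77 ∧
      ∀ y ∈ X v w, ∀ y' ∈ X v w, y ≠ x → y' ≠ x →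
        (dotInt (x : GolayPt → ℤ) (y : GolayPt → ℤ) = 8 ↔
          dotInt (x : GolayPt → ℤ) (y' : GolayPt → ℤ) = 8) →
        ∃ g : Co0, g • v = v ∧ g • w = w ∧ g • x = x ∧ g • y = y' := by
  obtain ⟨g, h1, h2, h3⟩ := hs_triple_of hT v w x hv hw hvw hx.1 hx.2.1 hx.2.2
  have hS : Std (g • v) (g • w) := ⟨h1, h2⟩
  have hA : ((g • x : leechLattice) : GolayPt → ℤ) = vA := h3.trans vA_eq.symm
  refine ⟨?_, ?_, ?_⟩
  · rw [← ncard_near_smul g]; exact hS.ncard_near hA
  · rw [← ncard_far_smul g]; exact hS.ncard_far hA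
  · intro y hy y' hy' hyx hyx' hd
    obtain ⟨k, k1, k2, k3, k4⟩ := hS.exists_smul h5 hA ((smul_mem_X g).2 hy)
      ((smul_mem_X g).2 hy') (fun h => hyx (MulAction.injective g h))
      (fun h => hyx' (MulAction.injective g h)) (by rw [co0_dot, co0_dot]; exact hd)
    refine ⟨g⁻¹ * k * g, ?_, ?_, ?_, ?_⟩
    all_goals rw [mul_smul, mul_smul]
    · rw [k1, inv_smul_smul]
    · rw [k2, inv_smul_smul]
    · rw [k3, inv_smul_smul]
    · rw [k4, inv_smul_smul]

/-- The vector `(5,1^23)`. -/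
def five : leechLattice := ⟨vec3 5 1 1, by
  rw [SporadicA.LeechSet.mem_leechLattice_iff]
  refine Spor.mem_leechSet_of_const_mod_four _ 1 1 rfl (fun p => ?_) (by decide)
  revert p; decide⟩

theorem coe_five : (five : GolayPt → ℤ) = vec3 5 1 1 := rfl

/-- `4 e_∞ + 4 e_i` as a lattice element. -/
theorem pair_mem (i : GolayPt) : (Pi.single none 4 + Pi.single i 4 : GolayPt → ℤ) ∈ leechLattice := by
  have := four_four_mem none i 1 (Or.inl rfl)
  rwa [mul_one] at this

theorem dot_five_pair {i : GolayPt} (hi : i ≠ none) :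
    dotInt (vec3 5 1 1) (Pi.single none 4 + Pi.single i 4) = 24 := by
  rw [dot_add_right, dot_single_right, dot_single_right, vec3_none]
  have : vec3 5 1 1 i = 1 := by
    by_cases h : i = some 0
    · rw [h, vec3_zero]
    · rw [vec3_other _ _ _ hi h]
  rw [this]
  norm_num

theorem sqNorm_pair {i : GolayPt} (hi : i ≠ none) :
    sqNorm (Pi.single none 4 + Pi.single i 4 : GolayPt → ℤ) = 32 := by
  rw [sqNorm_add, sqNorm_single, sqNorm_single, dot_single_right, Pi.single_eq_of_ne hi]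
  norm_num

/-- For every pair `v, w` some of the vectors exist. -/
theorem X_nonempty (hT48 : ∀ v w : leechLattice, sqNorm (v : GolayPt → ℤ) = 48 →
      sqNorm (w : GolayPt → ℤ) = 48 → ∃ g : Co0, g • v = w)
    (v w : leechLattice) (hv : sqNorm (v : GolayPt → ℤ) = 48)
    (hw : sqNorm (w : GolayPt → ℤ) = 48)
    (hvw : dotInt (v : GolayPt → ℤ) (w : GolayPt → ℤ) = -32) : ∃ x, x ∈ X v w := by
  obtain ⟨g, hg⟩ := hT48 v five hv (by rw [coe_five, sqNorm_vec3]; norm_num)
  suffices h : ∃ x, x ∈ X (g • v) (g • w) by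
    obtain ⟨x, hx⟩ := h
    exact ⟨g⁻¹ • x, by rw [← smul_mem_X g, smul_inv_smul]; exact hx⟩
  have hw' : sqNorm ((g • w : leechLattice) : GolayPt → ℤ) = 48 := by rw [co0_sqNorm, hw]
  have hvw' : dotInt (five : GolayPt → ℤ) ((g • w : leechLattice) : GolayPt → ℤ) = -32 := by
    rw [← hg, co0_dot, hvw]
  rw [hg]
  set u := g • w with hu
  -- the minimal vector `t = five + u`
  have ht32 : sqNorm ((five + u : leechLattice) : GolayPt → ℤ) = 32 := by
    rw [AddSubgroup.coe_add, sqNorm_add, hw', hvw', coe_five, sqNorm_vec3]; norm_num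
  have ht16 : dotInt (vec3 5 1 1) ((five + u : leechLattice) : GolayPt → ℤ) = 16 := by
    rw [← coe_five, AddSubgroup.coe_add, dot_add_right, hvw', dot_self, coe_five, sqNorm_vec3]
    norm_num
  have hdu : ∀ z : GolayPt → ℤ, dotInt (u : GolayPt → ℤ) z =
      dotInt ((five + u : leechLattice) : GolayPt → ℤ) z - dotInt (vec3 5 1 1) z := by
    intro z
    rw [AddSubgroup.coe_add, dot_add_left, coe_five]; ring
  obtain ⟨i, hi, hti⟩ := exists_index (five + u).2 ht32 (by rw [← dot_vec_five]; exact ht16)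
  set t := ((five + u : leechLattice) : GolayPt → ℤ) with ht
  have hpd : dotInt t (Pi.single none 4 + Pi.single i 4) = 4 * (t none + t i) := by
    rw [dot_add_right, dot_single_right, dot_single_right]; ring
  rcases hti with h | h
  · refine ⟨⟨_, pair_mem i⟩, sqNorm_pair hi, dot_five_pair hi, ?_⟩
    rw [hdu, dot_five_pair hi, hpd, h]
    ring
  · refine ⟨five - ⟨_, pair_mem i⟩, ?_, ?_, ?_⟩
    · rw [AddSubgroup.coe_sub, sqNorm_sub, coe_five, dot_five_pair hi, sqNorm_pair hi, sqNorm_vec3]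
      norm_num
    · rw [AddSubgroup.coe_sub, dot_sub_right, coe_five, dot_five_pair hi, dot_self, sqNorm_vec3]
      norm_num
    · rw [hdu, AddSubgroup.coe_sub, dot_sub_right, dot_sub_right, coe_five, dot_five_pair hi,
        dot_self, sqNorm_vec3, hpd, dot_comm, ht16, h]
      ring

/-- Exactly 100 vectors, permuted transitively (S1583). -/
theorem hundred_of (hT : Trans64) (hT48 : ∀ v w : leechLattice, sqNorm (v : GolayPt → ℤ) = 48 →
      sqNorm (w : GolayPt → ℤ) = 48 → ∃ g : Co0, g • v = w)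
    (v w : leechLattice) (hv : sqNorm (v : GolayPt → ℤ) = 48)
    (hw : sqNorm (w : GolayPt → ℤ) = 48)
    (hvw : dotInt (v : GolayPt → ℤ) (w : GolayPt → ℤ) = -32) :
    (X v w).ncard = 100 ∧ ∀ x ∈ X v w, ∀ x' ∈ X v w,
      ∃ g : Co0, g • v = v ∧ g • w = w ∧ g • x = x' := by
  constructor
  · obtain ⟨x, hx⟩ := X_nonempty hT48 v w hv hw hvw
    obtain ⟨g, h1, h2, -⟩ := hs_triple_of hT v w x hv hw hvw hx.1 hx.2.1 hx.2.2
    rw [← ncard_X_smul g]
    exact Std.ncard_X ⟨h1, h2⟩
  · intro x hx x' hx'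
    obtain ⟨g, h1, h2, h3⟩ := hs_triple_of hT v w x hv hw hvw hx.1 hx.2.1 hx.2.2
    obtain ⟨k, k1, k2, k3⟩ := hs_triple_of hT v w x' hv hw hvw hx'.1 hx'.2.1 hx'.2.2
    refine ⟨k⁻¹ * g, ?_, ?_, ?_⟩
    all_goals rw [mul_smul, inv_smul_eq_iff]
    · exact Subtype.ext (h1.trans k1.symm)
    · exact Subtype.ext (h2.trans k2.symm)
    · exact Subtype.ext (h3.trans k3.symm)

end Cfsg.Agent.Leech.HSConfig
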