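import Mathlib

/-!
# Vectors of small norm modulo `2L` in an even rootless lattice of rank 24

The classical counting argument `1 + 196560 / 2 + 16773120 / 2 + 398034000 / 48 = 2 ^ 24`.
-/

set_option autoImplicit false

namespace Cfsg.Agent.Leech.ModTwo

open Module

variable {L : Type*} [AddCommGroup L]

/-- Two vectors of norm at most 8 (in units of `k`) that are congruent modulo `2L` are equal,
opposite, or both of norm 8 and orthogonal. -/
theorem congr_cases (k : ℤ) (b : LinearMap.BilinForm ℤ L)
    (hsymm : ∀ x y, b x y = b y x) (hmin : ∀ x, x ≠ 0 → 4 * k ≤ b x x) {x y z : L}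
    (hx : b x x ≤ 8 * k) (hy : b y y ≤ 8 * k) (h : x - y = 2 • z) :
    x = y ∨ x = -y ∨ (b x x = 8 * k ∧ b y y = 8 * k ∧ b x y = 0) := by
  by_cases h1 : x = y
  · exact Or.inl h1
  by_cases h2 : x = -y
  · exact Or.inr (Or.inl h2)
  right; right
  have hz : z ≠ 0 := by
    rintro rfl
    apply h1
    rw [smul_zero, sub_eq_zero] at h
    exact h
  have hw : z + y ≠ 0 := by
    intro hw
    apply h2
    have : x + y = 2 • (z + y) := by
      rw [smul_add, ← h, two_smul]; abel
    rw [hw, smul_zero] at this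
    exact eq_neg_of_add_eq_zero_left this
  have hxz : x = y + 2 • z := by rw [← h]; abel
  have e1 := hmin z hz
  have e2 := hmin (z + y) hw
  have e3 : b x x = b y y + 4 * b y z + 4 * b z z := by
    rw [hxz]
    simp only [map_add, LinearMap.add_apply, two_smul, hsymm z y]
    ring
  have e4 : b x y = b y y + 2 * b y z := by
    rw [hxz]
    simp only [map_add, LinearMap.add_apply, two_smul, hsymm z y]
    ring
  have e5 : b (z + y) (z + y) = b z z + 2 * b y z + b y y := by
    simp only [map_add, LinearMap.add_apply, hsymm z y]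
    ring
  rw [e5] at e2
  refine ⟨by linarith, by linarith, by linarith⟩

/-- A finite set of vectors that are pairwise equal, opposite or orthogonal contains an orthogonal
half. -/
theorem exists_half (b : LinearMap.BilinForm ℤ L) (hsymm : ∀ x y, b x y = b y x)
    (F : Finset L) (hF : ∀ x ∈ F, ∀ y ∈ F, x = y ∨ x = -y ∨ b x y = 0) :
    ∃ H : Finset L, H ⊆ F ∧ (∀ x ∈ H, ∀ y ∈ H, x ≠ y → b x y = 0) ∧
      ∀ x ∈ F, x ∈ H ∨ -x ∈ H := by
  classical
  induction F using Finset.induction_on with
  | empty => exact ⟨∅, by simp, by simp, by simp⟩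
  | insert a F ha ih =>
    obtain ⟨H, hHF, hH, hc⟩ := ih fun x hx y hy =>
      hF x (Finset.mem_insert_of_mem hx) y (Finset.mem_insert_of_mem hy)
    by_cases hah : a ∈ H ∨ -a ∈ H
    · refine ⟨H, hHF.trans (Finset.subset_insert _ _), hH, fun x hx => ?_⟩
      rcases Finset.mem_insert.1 hx with rfl | hx
      · exact hah
      · exact hc x hx
    · rw [not_or] at hah
      have key : ∀ y ∈ H, b a y = 0 := by
        intro y hy
        rcases hF a (Finset.mem_insert_self _ _) y (Finset.mem_insert_of_mem (hHF hy)) with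
          h | h | h
        · exact absurd (h ▸ hy) hah.1
        · exact absurd (by rw [h, neg_neg]; exact hy) hah.2
        · exact h
      refine ⟨insert a H, Finset.insert_subset_insert _ hHF, ?_, ?_⟩
      · intro x hx y hy hxy
        rcases Finset.mem_insert.1 hx with hx1 | hx1 <;>
        rcases Finset.mem_insert.1 hy with hy1 | hy1
        · exact absurd (hx1.trans hy1.symm) hxy
        · rw [hx1]; exact key y hy1
        · rw [hy1, hsymm]; exact key x hx1
        · exact hH x hx1 y hy1 hxy
      · intro x hx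
        rcases Finset.mem_insert.1 hx with rfl | hx
        · exact Or.inl (Finset.mem_insert_self _ _)
        · rcases hc x hx with h | h
          · exact Or.inl (Finset.mem_insert_of_mem h)
          · exact Or.inr (Finset.mem_insert_of_mem h)

/-- A finite set of vectors of non-zero norm that are pairwise equal, opposite or orthogonal has at
most `2 * rank` members. -/
theorem card_le_of_frame [Module.Finite ℤ L] (b : LinearMap.BilinForm ℤ L) (hsymm : ∀ x y, b x y = b y x)
    (F : Finset L) (hF0 : ∀ x ∈ F, b x x ≠ 0)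
    (hF : ∀ x ∈ F, ∀ y ∈ F, x = y ∨ x = -y ∨ b x y = 0) :
    F.card ≤ 2 * finrank ℤ L := by
  classical
  obtain ⟨H, hHF, hH, hc⟩ := exists_half b hsymm F hF
  have h1 : F ⊆ H ∪ H.image (fun x => -x) := by
    intro x hx
    rcases hc x hx with h | h
    · exact Finset.mem_union_left _ h
    · exact Finset.mem_union_right _ (Finset.mem_image.2 ⟨-x, h, neg_neg x⟩)
  have h2 : F.card ≤ H.card + H.card :=
    (Finset.card_le_card h1).trans
      ((Finset.card_union_le _ _).trans (Nat.add_le_add_left Finset.card_image_le _))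
  have h3 : LinearIndependent ℤ (fun x : H => (x : L)) := by
    rw [linearIndependent_iff']
    intro s w hs i hi
    have h5 : b (∑ j ∈ s, w j • (j : L)) i = 0 := by
      rw [hs, map_zero, LinearMap.zero_apply]
    have h6 : b (∑ j ∈ s, w j • (j : L)) i = w i * b i i := by
      rw [map_sum, LinearMap.sum_apply]
      rw [Finset.sum_eq_single_of_mem i hi]
      · rw [map_smul, LinearMap.smul_apply, smul_eq_mul]
      · intro j _ hji
        rw [map_smul, LinearMap.smul_apply, smul_eq_mul,
          hH j j.2 i i.2 fun h => hji (Subtype.ext h), mul_zero]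
    rw [h6] at h5
    rcases mul_eq_zero.1 h5 with h | h
    · exact h
    · exact absurd h (hF0 i (hHF i.2))
  have h4 := h3.fintype_card_le_finrank
  rw [Fintype.card_coe] at h4
  omega

/-- The image of multiplication by 2. -/
theorem mem_range_two {x : L} :
    x ∈ (nsmulAddMonoidHom (α := L) 2).range ↔ ∃ z, x = 2 • z := by
  constructor
  · rintro ⟨z, rfl⟩
    exact ⟨z, rfl⟩
  · rintro ⟨z, rfl⟩
    exact ⟨z, rfl⟩

/-- The number of classes modulo `2L`. -/
theorem card_quot [Module.Free ℤ L] [Module.Finite ℤ L] :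
    Nat.card (L ⧸ (nsmulAddMonoidHom (α := L) 2).range) = 2 ^ finrank ℤ L := by
  rw [← AddSubgroup.index_range_nsmul L 2]
  rfl

theorem mk_eq_iff {x y : L} :
    (QuotientAddGroup.mk x : L ⧸ (nsmulAddMonoidHom (α := L) 2).range) = QuotientAddGroup.mk y ↔
      ∃ z, x - y = 2 • z := by
  rw [eq_comm, QuotientAddGroup.eq, mem_range_two]
  constructor
  · rintro ⟨z, hz⟩
    exact ⟨z, by rw [← hz]; abel⟩
  · rintro ⟨z, hz⟩
    exact ⟨z, by rw [← hz]; abel⟩


/-- The main counting argument. -/
theorem main_count [Module.Free ℤ L] [Module.Finite ℤ L] (hrank : finrank ℤ L ≤ 24)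
    (k : ℤ) (hk : 0 < k) (b : LinearMap.BilinForm ℤ L) (hsymm : ∀ x y, b x y = b y x)
    (hmin : ∀ x, x ≠ 0 → 4 * k ≤ b x x)
    (h4 : {x : L | b x x = 4 * k}.ncard = 196560)
    (h6 : {x : L | b x x = 6 * k}.ncard = 16773120)
    (h8 : {x : L | b x x = 8 * k}.ncard = 398034000) :
    (∀ x, ∃ y z, b y y ≤ 8 * k ∧ x - y = 2 • z) ∧
      ∀ x, b x x = 8 * k → {y | b y y = 8 * k ∧ ∃ z, x - y = 2 • z}.ncard = 48 := by
  classical
  set Q := L ⧸ (nsmulAddMonoidHom (α := L) 2).range with hQ
  have hQc : Nat.card Q ≤ 2 ^ 24 := by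
    rw [hQ, card_quot]
    exact Nat.pow_le_pow_right (by norm_num) hrank
  have hQ0 : Nat.card Q ≠ 0 := by
    rw [hQ, card_quot]; positivity
  have : Finite Q := Nat.finite_of_card_ne_zero hQ0
  have := Fintype.ofFinite Q
  rw [Nat.card_eq_fintype_card] at hQc
  let π : L → Q := fun x => QuotientAddGroup.mk x
  have hπ : ∀ x y, π x = π y ↔ ∃ z, x - y = 2 • z := fun x y => mk_eq_iff
  have f4 : {x : L | b x x = 4 * k}.Finite := Set.finite_of_ncard_ne_zero (by rw [h4]; norm_num)
  have f6 : {x : L | b x x = 6 * k}.Finite := Set.finite_of_ncard_ne_zero (by rw [h6]; norm_num)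
  have f8 : {x : L | b x x = 8 * k}.Finite := Set.finite_of_ncard_ne_zero (by rw [h8]; norm_num)
  obtain ⟨S4, hS4⟩ : ∃ S : Finset L, ∀ x, x ∈ S ↔ b x x = 4 * k :=
    ⟨f4.toFinset, fun x => by rw [Set.Finite.mem_toFinset]; rfl⟩
  obtain ⟨S6, hS6⟩ : ∃ S : Finset L, ∀ x, x ∈ S ↔ b x x = 6 * k :=
    ⟨f6.toFinset, fun x => by rw [Set.Finite.mem_toFinset]; rfl⟩
  obtain ⟨S8, hS8⟩ : ∃ S : Finset L, ∀ x, x ∈ S ↔ b x x = 8 * k :=
    ⟨f8.toFinset, fun x => by rw [Set.Finite.mem_toFinset]; rfl⟩
  have c4 : S4.card = 196560 := by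
    rw [← h4, ← Set.ncard_coe_finset]; congr 1; ext x; exact hS4 x
  have c6 : S6.card = 16773120 := by
    rw [← h6, ← Set.ncard_coe_finset]; congr 1; ext x; exact hS6 x
  have c8 : S8.card = 398034000 := by
    rw [← h8, ← Set.ncard_coe_finset]; congr 1; ext x; exact hS8 x
  -- fibres over short classes
  have fib2 : ∀ (S : Finset L), (∀ x ∈ S, b x x < 8 * k) → S.card ≤ 2 * (S.image π).card := by
    intro S hS
    refine Finset.card_le_mul_card_image S 2 fun q hq => ?_
    obtain ⟨x, hx, rfl⟩ := Finset.mem_image.1 hq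
    have : (S.filter fun a => π a = π x) ⊆ {x, -x} := by
      intro y hy
      rw [Finset.mem_filter] at hy
      obtain ⟨z, hz⟩ := (hπ y x).1 hy.2
      rw [Finset.mem_insert, Finset.mem_singleton]
      rcases congr_cases k b hsymm hmin (hS y hy.1).le (hS x hx).le hz with h | h | h
      · exact Or.inl h
      · exact Or.inr h
      · exact absurd h.1 (hS y hy.1).ne
    exact (Finset.card_le_card this).trans Finset.card_le_two
  have fib48 : ∀ x ∈ S8, (S8.filter fun a => π a = π x).card ≤ 48 := by
    intro x hx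
    have := card_le_of_frame b hsymm (S8.filter fun a => π a = π x) ?_ ?_
    · omega
    · intro y hy
      rw [Finset.mem_filter, hS8] at hy
      rw [hy.1]; positivity
    · intro y hy y' hy'
      rw [Finset.mem_filter, hS8] at hy hy'
      obtain ⟨z, hz⟩ := (hπ y y').1 (hy.2.trans hy'.2.symm)
      rcases congr_cases k b hsymm hmin hy.1.le hy'.1.le hz with h | h | h
      · exact Or.inl h
      · exact Or.inr (Or.inl h)
      · exact Or.inr (Or.inr h.2.2)
  have i4 : 98280 ≤ (S4.image π).card := by
    have := fib2 S4 fun x hx => by rw [(hS4 x).1 hx]; linarith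
    omega
  have i6 : 8386560 ≤ (S6.image π).card := by
    have := fib2 S6 fun x hx => by rw [(hS6 x).1 hx]; linarith
    omega
  have i8 : 8292375 ≤ (S8.image π).card := by
    have : S8.card ≤ 48 * (S8.image π).card := by
      refine Finset.card_le_mul_card_image S8 48 fun q hq => ?_
      obtain ⟨x, hx, rfl⟩ := Finset.mem_image.1 hq
      exact fib48 x hx
    omega
  -- disjointness
  have disj : ∀ x y : L, b x x ≤ 8 * k → b y y ≤ 8 * k → π x = π y → b x x = b y y := by
    intro x y hx hy h
    obtain ⟨z, hz⟩ := (hπ x y).1 h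
    rcases congr_cases k b hsymm hmin hx hy hz with h | h | h
    · rw [h]
    · rw [h]; simp
    · rw [h.1, h.2.1]
  have hT : ∀ (S T : Finset L) (m n : ℤ), m ≠ n → m ≤ 8 * k → n ≤ 8 * k → (∀ x ∈ S, b x x = m) →
      (∀ x ∈ T, b x x = n) → Disjoint (S.image π) (T.image π) := by
    intro S T m n hmn hm hn hS hT
    rw [Finset.disjoint_left]
    intro q h1 h2
    obtain ⟨x, hx, rfl⟩ := Finset.mem_image.1 h1
    obtain ⟨y, hy, hyx⟩ := Finset.mem_image.1 h2
    have := disj x y (by rw [hS x hx]; exact hm) (by rw [hT y hy]; exact hn) hyx.symm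
    rw [hS x hx, hT y hy] at this
    exact hmn this
  set S0 : Finset L := {0} with hS0
  have m0 : ∀ x ∈ S0, b x x = 0 := by
    intro x hx
    rw [hS0, Finset.mem_singleton] at hx
    rw [hx]; simp
  have i0 : (S0.image π).card = 1 := by rw [hS0, Finset.image_singleton, Finset.card_singleton]
  have d04 := hT S0 S4 0 (4 * k) (by linarith) (by linarith) (by linarith) m0 (fun x hx => (hS4 x).1 hx)
  have d06 := hT S0 S6 0 (6 * k) (by linarith) (by linarith) (by linarith) m0 (fun x hx => (hS6 x).1 hx)
  have d08 := hT S0 S8 0 (8 * k) (by linarith) (by linarith) (by linarith) m0 (fun x hx => (hS8 x).1 hx)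
  have d46 := hT S4 S6 (4 * k) (6 * k) (by linarith) (by linarith) (by linarith) (fun x hx => (hS4 x).1 hx)
    (fun x hx => (hS6 x).1 hx)
  have d48 := hT S4 S8 (4 * k) (8 * k) (by linarith) (by linarith) (by linarith) (fun x hx => (hS4 x).1 hx)
    (fun x hx => (hS8 x).1 hx)
  have d68 := hT S6 S8 (6 * k) (8 * k) (by linarith) (by linarith) (by linarith) (fun x hx => (hS6 x).1 hx)
    (fun x hx => (hS8 x).1 hx)
  set U : Finset Q := ((S0.image π) ∪ (S4.image π)) ∪ ((S6.image π) ∪ (S8.image π)) with hU
  have cU : U.card = ((S0.image π).card + (S4.image π).card) +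
      ((S6.image π).card + (S8.image π).card) := by
    rw [hU, Finset.card_union_of_disjoint, Finset.card_union_of_disjoint d04,
      Finset.card_union_of_disjoint d68]
    rw [Finset.disjoint_union_left, Finset.disjoint_union_right, Finset.disjoint_union_right]
    exact ⟨⟨d06, d08⟩, ⟨d46, d48⟩⟩
  have cU2 : U.card ≤ Fintype.card Q := Finset.card_le_univ U
  have e8 : (S8.image π).card = 8292375 := by norm_num at hQc; omega
  have eU : U = Finset.univ := by
    rw [← Finset.card_eq_iff_eq_univ]
    norm_num at hQc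
    omega
  constructor
  · intro x
    have hx : π x ∈ U := by rw [eU]; exact Finset.mem_univ _
    rw [hU, Finset.mem_union, Finset.mem_union, Finset.mem_union] at hx
    have aux : ∀ (S : Finset L) (m : ℤ), m ≤ 8 * k → (∀ y ∈ S, b y y = m) → π x ∈ S.image π →
        ∃ y z, b y y ≤ 8 * k ∧ x - y = 2 • z := by
      intro S m hm hS h
      obtain ⟨y, hy, hyx⟩ := Finset.mem_image.1 h
      obtain ⟨z, hz⟩ := (hπ x y).1 hyx.symm
      exact ⟨y, z, by rw [hS y hy]; exact hm, hz⟩
    rcases hx with (h | h) | (h | h)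
    · exact aux S0 0 (by linarith) m0 h
    · exact aux S4 (4 * k) (by linarith) (fun x hx => (hS4 x).1 hx) h
    · exact aux S6 (6 * k) (by linarith) (fun x hx => (hS6 x).1 hx) h
    · exact aux S8 (8 * k) (by linarith) (fun x hx => (hS8 x).1 hx) h
  · intro x hx
    have hset : {y | b y y = 8 * k ∧ ∃ z, x - y = 2 • z} =
        ((S8.filter fun a => π a = π x : Finset L) : Set L) := by
      ext y
      rw [Finset.mem_coe, Finset.mem_filter, hS8, Set.mem_ofPred_eq, ← hπ x y]
      exact and_congr_right fun _ => eq_comm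
    rw [hset, Set.ncard_coe_finset]
    -- all fibres are full
    by_contra hne
    have hlt : (S8.filter fun a => π a = π x).card < 48 :=
      lt_of_le_of_ne (fib48 x ((hS8 x).2 hx)) hne
    have hsum : S8.card = ∑ q ∈ S8.image π, (S8.filter fun a => π a = q).card :=
      Finset.card_eq_sum_card_image π S8
    have hsum2 : ∑ q ∈ S8.image π, (S8.filter fun a => π a = q).card <
        ∑ _q ∈ S8.image π, 48 := by
      apply Finset.sum_lt_sum
      · intro q hq
        obtain ⟨y, hy, rfl⟩ := Finset.mem_image.1 hq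
        exact fib48 y hy
      · exact ⟨π x, Finset.mem_image_of_mem _ ((hS8 x).2 hx), hlt⟩
    rw [Finset.sum_const, smul_eq_mul, ← hsum, c8, e8] at hsum2
    norm_num at hsum2

end Cfsg.Agent.Leech.ModTwo
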