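import Cfsg.Agent.Leech.Pack
import Cfsg.Agent.LeechMat.Elements

/-!
# Explicit elements of `Co0` from packed matrices

The check of a matrix is the one of `Cfsg.Agent.LeechMat.Elements`; here it is transported to
matrices packed with 13 bits per entry, in the form used by `Cfsg.Agent.Leech.Word`.
-/

set_option autoImplicit false

namespace Cfsg.Agent.Leech.Bridge

open Cfsg Cfsg.Agent.SporadicA.GolayBase Cfsg.Agent.Leech.Enc Cfsg.Agent.Leech.Word

theorem pos_eq_idx (p : GolayPt) : LeechMat.Code.pos p = idx p := by cases p <;> rfl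

/-- The base 32 code of a packed vector: fold over the digits, `n` digits starting from `X`. -/
def to32 : ℕ → ℕ → ℕ
  | 0, _ => 0
  | n + 1, X => Nat.add (Nat.mod X 8192) (Nat.mul 32 (to32 n (Nat.div X 8192)))

/-- The packed vector of a base 32 code. -/
def of32 : ℕ → ℕ → ℕ
  | 0, _ => 0
  | n + 1, X => Nat.add (Nat.mod X 32) (Nat.mul 8192 (of32 n (Nat.div X 32)))

/-- The two codes have the same digits. -/
def same (a c : ℕ) : Bool :=
  LeechMat.Elements.allTo (fun k => Nat.beq (LeechMat.Elements.dig a k) (dig c k)) 24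

theorem same_spec {a c : ℕ} (h : same a c = true) : LeechMat.Elements.vec a = vec c := by
  unfold same at h
  rw [LeechMat.Elements.allTo_iff] at h
  funext p
  have h1 := Nat.eq_of_beq_eq_true (h (idx p) (idx_lt p))
  rw [LeechMat.Elements.vec_apply, vec_apply, pos_eq_idx, LeechMat.Elements.sdig, h1]

/-- Full check of a packed matrix `m = (sum of columns, columns)`. -/
def checkAll (m : ℕ × List ℕ) : Bool :=
  validMat m.2 m.1 &&
  (m.2.all (fun c => same (to32 24 c) c) &&
  LeechMat.Elements.checkMat 8 (m.2.map (to32 24))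
    (LeechMat.Elements.genCodes.map fun b => to32 24 (act m (of32 24 b))))

theorem exists_isMat {m : ℕ × List ℕ} (h : checkAll m = true) : ∃ g : Co0, IsMat m g := by
  unfold checkAll at h
  rw [Bool.and_eq_true, Bool.and_eq_true] at h
  obtain ⟨h1, h2, h3⟩ := h
  obtain ⟨g, hg⟩ := LeechMat.Elements.exists_co0 h3
  refine ⟨g, h1, fun x => ?_⟩
  have h4 := hg x
  rw [Nat.cast_ofNat] at h4
  rw [← h4]
  funext p
  rw [Finset.sum_apply]
  show ∑ j, (x : GolayPt → ℤ) j *
    LeechMat.Elements.vec ((m.2.map (to32 24)).getD (LeechMat.Code.pos j) 0) p = _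
  apply Finset.sum_congr rfl
  intro q _
  rw [Pi.smul_apply, smul_eq_mul, col_eq, pos_eq_idx]
  congr 1
  have hlen : m.2.length = 24 := by
    unfold validMat at h1
    rw [Bool.and_eq_true, Bool.and_eq_true] at h1
    exact Nat.eq_of_beq_eq_true h1.1.1
  have hq : idx q < m.2.length := by rw [hlen]; exact idx_lt q
  have hq' : idx q < (m.2.map (to32 24)).length := by rw [List.length_map]; exact hq
  rw [List.getD_eq_getElem _ _ hq, List.getD_eq_getElem _ _ hq', List.getElem_map]
  rw [List.all_eq_true] at h2
  rw [same_spec (h2 _ (List.getElem_mem hq))]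

/-- An element with a packed matrix fixes a vector fixed by the matrix. -/
theorem smul_eq_self {m : ℕ × List ℕ} {g : Co0} (hg : IsMat m g) {X : ℕ} (hX : valid X = true)
    (h : stepOK m.2 m.1 X X = true) (x : leechLattice) (hx : (x : GolayPt → ℤ) = vec X) :
    g • x = x := by
  apply Subtype.ext
  rw [hx]
  exact step_eq hg hX hX h x hx

end Cfsg.Agent.Leech.Bridge
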