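import Cfsg.Agent.Leech.Co3Data

/-!
# Kernel checks of the tables of words in `Co3Data`
-/

set_option autoImplicit false

namespace Cfsg.Agent.Leech.Co3Check

open Cfsg Cfsg.Agent.SporadicA.GolayBase Cfsg.Agent.Leech.Enc Cfsg.Agent.Leech.Word
  Cfsg.Agent.Leech.Pack Cfsg.Agent.Leech.Co3Data

/-- Decode a word: base 8 digits `1, 2, …` for the indices `0, 1, …`, terminated by `0`. -/
def decw : ℕ → ℕ → List ℕ
  | 0, _ => []
  | n + 1, c => bif Nat.beq (Nat.mod c 8) 0 then []
    else (Nat.sub (Nat.mod c 8) 1) :: decw n (Nat.div c 8)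

/-- The packed vector `4·1` on the mask `m`. -/
def pk4 (m : ℕ) : ℕ := Nat.add (Nat.mul 16 ONE) (Nat.mul 4 (spread m))

/-- The packed vector `2·1` on the mask `m`. -/
def pk2 (m : ℕ) : ℕ := Nat.add (Nat.mul 16 ONE) (Nat.mul 2 (spread m))

/-- The packed vector `u0 = (5, 1^23)`. -/
def pu0 : ℕ := Nat.add (Nat.mul 17 ONE) (Nat.mul 4 (Nat.pow 8192 23))

/-- The packed vector `u0 - 2·1` on the mask `m`. -/
def pk1 (m : ℕ) : ℕ := Nat.sub pu0 (Nat.mul 2 (spread m))

/-- One entry of a table. -/
def chk (gens : List (ℕ × List ℕ)) (T : ℕ) (pk : ℕ → ℕ) (e : ℕ × ℕ) : Bool :=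
  valid (pk e.1) && ((decw 12 e.2).all (fun k => Nat.blt k gens.length) &&
    run gens (decw 12 e.2) (pk e.1) T)

theorem chkA : tblA.all (chk gensCo3 (pk4 8388609) pk4) = true := by decide +kernel

theorem chkB : tblB.all (chk gensCo3 (pk4 8388609) pk2) = true := by decide +kernel

theorem chkT : chk gensCo3 (pk4 8388609) (fun m => Nat.sub (Nat.add pu0 (Nat.mul 16 ONE)) (pk4 m))
    (8388609, wordT) = true := by decide +kernel

theorem chkA2 : tblA2.all (chk gensMcL (pk4 8388610) pk4) = true := by decide +kernel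

theorem chkB2 : tblB2.all (chk gensMcL (pk4 8388610) pk2) = true := by decide +kernel

theorem chkC2 : tblC2.all (chk gensMcL (pk4 8388610) pk1) = true := by decide +kernel

theorem validCo3 : gensCo3.all (fun m => validMat m.2 m.1) = true := by decide +kernel

theorem validMcL : gensMcL.all (fun m => validMat m.2 m.1) = true := by decide +kernel

end Cfsg.Agent.Leech.Co3Check
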