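import Cfsg.Agent.Leech.Bridge
import Cfsg.Agent.Leech.Co3Check

/-!
# The explicit matrices of `Co3Data` are elements of `Co0`
-/

set_option autoImplicit false

namespace Cfsg.Agent.Leech.Co3Elts

open Cfsg Cfsg.Agent.Leech.Word Cfsg.Agent.Leech.Bridge Cfsg.Agent.Leech.Co3Data

theorem allS : checkAll mS = true := by decide +kernel
theorem allS' : checkAll mS' = true := by decide +kernel
theorem allD : checkAll mD = true := by decide +kernel
theorem allD' : checkAll mD' = true := by decide +kernel
theorem allH : checkAll mH = true := by decide +kernel
theorem allH' : checkAll mH' = true := by decide +kernel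
theorem allM : checkAll mM = true := by decide +kernel
theorem allM' : checkAll mM' = true := by decide +kernel

theorem exists_gensCo3 : ∀ m ∈ gensCo3, ∃ g : Co0, IsMat m g := by
  intro m hm
  simp only [gensCo3, List.mem_cons, List.not_mem_nil, or_false] at hm
  rcases hm with rfl | rfl | rfl | rfl | rfl | rfl
  · exact exists_isMat allS
  · exact exists_isMat allS'
  · exact exists_isMat allD
  · exact exists_isMat allD'
  · exact exists_isMat allH
  · exact exists_isMat allH'

theorem exists_gensMcL : ∀ m ∈ gensMcL, ∃ g : Co0, IsMat m g := by
  intro m hm
  simp only [gensMcL, List.mem_cons, List.not_mem_nil, or_false] at hm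
  rcases hm with rfl | rfl | rfl | rfl
  · exact exists_isMat allD
  · exact exists_isMat allD'
  · exact exists_isMat allM
  · exact exists_isMat allM'

end Cfsg.Agent.Leech.Co3Elts
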