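import Cfsg.Prelude.Def_Sporadic_a
import Cfsg.Prelude.Def_Spor_Conway
import Cfsg.Prelude.Def_SporadicCombinatorics
import Cfsg.Agent.SporadicA.GolayBase
import Cfsg.Agent.SporadicA.GolayCount
import Cfsg.Agent.SporadicStructure.Sextet

/-!
Interface to the Golay code used by the Leech lattice files: the family `Words` of supports of
code words, as finsets.
-/

set_option autoImplicit false

namespace Cfsg.Agent.Leech.Code

open Cfsg Cfsg.Agent.SporadicA Cfsg.Agent.SporadicStructure

/-- The supports of the words of the Golay code. -/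
abbrev Words : Set (Finset GolayPt) := supports (golayCode : Set (GolayPt → ZMod 2))

/-- Indicator word of a set of points. -/
def ind (c : Finset GolayPt) : GolayPt → ZMod 2 := fun i => if i ∈ c then 1 else 0

theorem ind_apply (c : Finset GolayPt) (i : GolayPt) : ind c i = if i ∈ c then 1 else 0 := rfl

theorem mem_support₂ (w : GolayPt → ZMod 2) (i : GolayPt) : i ∈ support₂ w ↔ w i ≠ 0 := by
  simp [support₂]

theorem support₂_ind (c : Finset GolayPt) : support₂ (ind c) = c := by
  ext i
  rw [mem_support₂, ind_apply]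
  by_cases h : i ∈ c <;> simp [h]

theorem zmod2_ne_zero {a : ZMod 2} : a ≠ 0 ↔ a = 1 := by
  revert a; decide

theorem ind_support₂ (w : GolayPt → ZMod 2) : ind (support₂ w) = w := by
  funext i
  rw [ind_apply]
  by_cases h : w i = 0
  · have h' : i ∉ support₂ w := by rw [mem_support₂]; simp [h]
    rw [if_neg h', h]
  · have h' : i ∈ support₂ w := by rw [mem_support₂]; exact h
    rw [if_pos h']
    exact (zmod2_ne_zero.1 h).symm

theorem mem_words_iff (c : Finset GolayPt) : c ∈ Words ↔ ind c ∈ golayCode := by
  constructor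
  · rintro ⟨w, hw, rfl⟩
    rw [ind_support₂]
    exact hw
  · intro h
    exact ⟨ind c, h, support₂_ind c⟩

theorem support₂_mem {w : GolayPt → ZMod 2} (hw : w ∈ golayCode) : support₂ w ∈ Words :=
  ⟨w, hw, rfl⟩

theorem ind_symmDiff (c d : Finset GolayPt) : ind (symmDiff c d) = ind c + ind d := by
  funext i
  simp only [ind_apply, Pi.add_apply, Finset.mem_symmDiff]
  by_cases hc : i ∈ c <;> by_cases hd : i ∈ d <;> simp [hc, hd] ; rfl

theorem symmDiff_mem {c d : Finset GolayPt} (hc : c ∈ Words) (hd : d ∈ Words) :
    symmDiff c d ∈ Words := by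
  rw [mem_words_iff] at *
  rw [ind_symmDiff]
  exact golayCode.add_mem hc hd

theorem univ_mem : (Finset.univ : Finset GolayPt) ∈ Words := Spor.univ_mem_supports_golayCode

theorem empty_mem : (∅ : Finset GolayPt) ∈ Words := Spor.empty_mem_supports_golayCode

theorem compl_mem {c : Finset GolayPt} (hc : c ∈ Words) : cᶜ ∈ Words := by
  have h := symmDiff_mem univ_mem hc
  have e : symmDiff (Finset.univ : Finset GolayPt) c = cᶜ := by
    ext i; simp [Finset.mem_symmDiff]
  rwa [e] at h

/-! ### Facts on the code, from the bit mask model -/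

theorem card_golayPt : Fintype.card GolayPt = 24 := by
  rw [Fintype.card_option, ZMod.card]

theorem four_dvd_card {c : Finset GolayPt} (hc : c ∈ Words) : 4 ∣ c.card := by
  rcases GolayBase.card_of_mem_supports hc with h | h | h | h | h <;> rw [h] <;> decide

theorem eight_le_card {c : Finset GolayPt} (hc : c ∈ Words) (h : c.Nonempty) : 8 ≤ c.card := by
  have h0 : 0 < c.card := Finset.card_pos.2 h
  rcases GolayBase.card_of_mem_supports hc with h | h | h | h | h <;> omega

theorem even_inter {c d : Finset GolayPt} (hc : c ∈ Words) (hd : d ∈ Words) :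
    Even (c ∩ d).card := by
  have h1 := four_dvd_card hc
  have h2 := four_dvd_card hd
  have h3 := four_dvd_card (symmDiff_mem hc hd)
  have h4 := GolayBase.card_symmDiff_add c d
  rw [Nat.even_iff]
  omega

theorem even_symmDiff_inter {a b d : Finset GolayPt} (ha : Even (a ∩ d).card)
    (hb : Even (b ∩ d).card) : Even ((symmDiff a b) ∩ d).card := by
  have e : (symmDiff a b) ∩ d = symmDiff (a ∩ d) (b ∩ d) := by
    ext i
    simp only [Finset.mem_inter, Finset.mem_symmDiff]
    tauto
  have h4 := GolayBase.card_symmDiff_add (a ∩ d) (b ∩ d)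
  rw [e]
  rw [Nat.even_iff] at *
  omega

/-- Code words with exactly one point of index at least 12. -/
def dualMask : ℕ → ℕ
  | 0 => 5279
  | 1 => 10558
  | 2 => 18147
  | 3 => 36294
  | 4 => 69395
  | 5 => 133817
  | 6 => 262637
  | 7 => 525274
  | 8 => 1050548
  | 9 => 2101096
  | 10 => 4196943
  | 11 => 8391797
  | _ => 0

theorem dualMask_code : ∀ k < 12, GolayBase.isCode (dualMask k) = true := by decide +kernel

theorem dualMask_lt : ∀ k < 12, dualMask k < 2 ^ 24 := by decide +kernel

theorem dualMask_self : ∀ i < 24, 12 ≤ i → (dualMask (i - 12)).testBit i = true := by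
  decide +kernel

theorem dualMask_other : ∀ i < 24, 12 ≤ i → ∀ j < 24, 12 ≤ j →
    (dualMask (i - 12)).testBit j = true → j = i := by
  decide +kernel

theorem exists_dualWord (p : GolayPt) (hp : 12 ≤ GolayBase.idx p) :
    ∃ D ∈ Words, p ∈ D ∧ ∀ q ∈ D, 12 ≤ GolayBase.idx q → q = p := by
  have hlt := GolayBase.idx_lt p
  refine ⟨GolayBase.fin (dualMask (GolayBase.idx p - 12)), ?_, ?_, fun q hq hq12 => ?_⟩
  · exact (GolayBase.fin_mem_supports_iff (dualMask_lt _ (by omega))).2 (dualMask_code _ (by omega))
  · exact GolayBase.mem_fin.2 (dualMask_self _ hlt hp)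
  · exact GolayBase.idx_injective
      (dualMask_other _ hlt hp _ (GolayBase.idx_lt q) hq12 (GolayBase.mem_fin.1 hq))

/-- The code is its own dual. -/
theorem mem_of_even_inter {c : Finset GolayPt} (h : ∀ d ∈ Words, Even (c ∩ d).card) :
    c ∈ Words := by
  set m := GolayBase.maskOf c with hm
  have he : GolayBase.fin (GolayBase.enc m) ∈ Words :=
    (GolayBase.fin_mem_supports_iff (GolayBase.enc_lt m)).2 (GolayBase.isCode_enc m)
  set e := GolayBase.fin (GolayBase.enc m) with hedef
  have hN : ∀ d ∈ Words, Even ((symmDiff c e) ∩ d).card := fun d hd =>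
    even_symmDiff_inter (h d hd) (even_inter he hd)
  have hlow : ∀ p, GolayBase.idx p < 12 → (p ∈ c ↔ p ∈ e) := by
    intro p hp
    have h1 : p ∈ c ↔ m.testBit (GolayBase.idx p) = true := by
      rw [hm, ← GolayBase.mem_fin, GolayBase.fin_maskOf]
    have h2 : p ∈ e ↔ (GolayBase.enc m).testBit (GolayBase.idx p) = true := by
      rw [hedef, GolayBase.mem_fin]
    have h3 : (m % 2 ^ 12).testBit (GolayBase.idx p) = m.testBit (GolayBase.idx p) := by
      rw [Nat.testBit_mod_two_pow]; simp [hp]
    have h4 : (GolayBase.enc m % 2 ^ 12).testBit (GolayBase.idx p) =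
        (GolayBase.enc m).testBit (GolayBase.idx p) := by
      rw [Nat.testBit_mod_two_pow]; simp [hp]
    have h5 : GolayBase.enc m % 2 ^ 12 = m % 2 ^ 12 := GolayBase.enc_mod_eq m
    rw [h1, h2, ← h3, ← h4, h5]
  have hempty : symmDiff c e = ∅ := by
    rw [Finset.eq_empty_iff_forall_notMem]
    intro p hp
    by_cases h12 : GolayBase.idx p < 12
    · have := hlow p h12
      rw [Finset.mem_symmDiff] at hp
      tauto
    · obtain ⟨D, hD, hpD, hq⟩ := exists_dualWord p (by omega)
      have h1 : symmDiff c e ∩ D = {p} := by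
        ext q
        rw [Finset.mem_inter, Finset.mem_singleton]
        constructor
        · rintro ⟨hq1, hq2⟩
          by_cases hq12 : GolayBase.idx q < 12
          · have := hlow q hq12
            rw [Finset.mem_symmDiff] at hq1
            tauto
          · exact hq q hq2 (by omega)
        · rintro rfl
          exact ⟨hp, hpD⟩
      have h2 := hN D hD
      rw [h1, Finset.card_singleton] at h2
      exact absurd h2 (by decide)
  have : c = e := symmDiff_eq_bot.1 hempty
  rw [this]
  exact he

/-- The octads form a Steiner system S(5, 8, 24). -/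
theorem steiner : IsSteinerSystem 5 8 octads := by
  classical
  refine ⟨fun b hb => hb.2, fun s hs => ?_⟩
  have hfin : octads.Finite := Set.toFinite _
  have hcard : hfin.toFinset.card = 759 := by
    rw [← Set.ncard_eq_toFinset_card _ hfin]
    exact GolayCount.octads_ncard
  set B := hfin.toFinset.biUnion (fun o => Finset.powersetCard 5 o) with hB
  have hdisj : ∀ a ∈ hfin.toFinset, ∀ b ∈ hfin.toFinset, a ≠ b →
      Disjoint (Finset.powersetCard 5 a) (Finset.powersetCard 5 b) := by
    intro a ha b hb hab
    rw [Finset.disjoint_left]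
    intro t hta htb
    rw [Finset.mem_powersetCard] at hta htb
    apply hab
    apply GolayBase.octad_unique ((Set.Finite.mem_toFinset hfin).1 ha)
      ((Set.Finite.mem_toFinset hfin).1 hb)
    rw [← hta.2]
    exact Finset.card_le_card (Finset.subset_inter hta.1 htb.1)
  have hBcard : B.card = 42504 := by
    rw [hB, Finset.card_biUnion hdisj]
    have h8 : ∀ o ∈ hfin.toFinset, (Finset.powersetCard 5 o).card = 56 := by
      intro o ho
      have ho8 : o.card = 8 := ((Set.Finite.mem_toFinset hfin).1 ho).2
      rw [Finset.card_powersetCard, ho8]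
      decide
    rw [Finset.sum_congr rfl h8, Finset.sum_const, hcard]
    rfl
  have hsub : B ⊆ Finset.powersetCard 5 Finset.univ := by
    intro t ht
    rw [hB, Finset.mem_biUnion] at ht
    obtain ⟨o, -, ht⟩ := ht
    rw [Finset.mem_powersetCard] at ht ⊢
    exact ⟨Finset.subset_univ t, ht.2⟩
  have hBeq : B = Finset.powersetCard 5 Finset.univ := by
    refine Finset.eq_of_subset_of_card_le hsub ?_
    rw [Finset.card_powersetCard, Finset.card_univ, card_golayPt, hBcard]
    decide +kernel
  have hsB : s ∈ B := by
    rw [hBeq, Finset.mem_powersetCard]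
    exact ⟨Finset.subset_univ s, hs⟩
  rw [hB, Finset.mem_biUnion] at hsB
  obtain ⟨o, ho, hso⟩ := hsB
  rw [Finset.mem_powersetCard] at hso
  have ho' : o ∈ octads := (Set.Finite.mem_toFinset hfin).1 ho
  refine ⟨o, ⟨ho', hso.1⟩, fun o' ho'' => ?_⟩
  apply GolayBase.octad_unique ho''.1 ho'
  rw [← hs]
  exact Finset.card_le_card (Finset.subset_inter ho''.2 hso.1)

theorem exists_sextet (T : Finset GolayPt) (hT : T.card = 4) : ∃ S ∈ sextets, T ∈ S :=
  (Sextet.exists_unique_sextet steiner T hT).exists

end Cfsg.Agent.Leech.Code
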