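import Cfsg.Prelude.Def_Sporadic_a
import Cfsg.Prelude.Def_Spor_Conway

set_option autoImplicit false

open Cfsg

namespace Cfsg.Agent.Leech.Dot16

open Finset

/-! ### shapes of minimal vectors (pure arithmetic) -/

/-- An integer vector of sum of squares 32, congruent to 2 mod 4 exactly on an 8-set `c` and to 0 mod 4 off it. -/
theorem shape_eight (x : GolayPt → ℤ) (c : Finset GolayPt) (hc : c.card = 8)
    (h2 : ∀ i ∈ c, x i % 4 = 2) (hn : sqNorm x = 32) :
    (∀ i ∈ c, x i = 2 ∨ x i = -2) ∧ ∀ i ∉ c, x i = 0 := by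
  have key : ∀ i, 0 ≤ x i ^ 2 - (if i ∈ c then 4 else 0) := by
    intro i
    split_ifs with hi
    · have := h2 i hi
      have h1 : x i ≥ 1 ∨ x i ≤ -1 := by omega
      have h3 : x i ≥ 2 ∨ x i ≤ -2 := by omega
      rcases h3 with h | h <;> nlinarith
    · nlinarith [sq_nonneg (x i)]
  have hs : ∑ i, (x i ^ 2 - (if i ∈ c then (4:ℤ) else 0)) = 0 := by
    rw [Finset.sum_sub_distrib]
    have : ∑ i, x i ^ 2 = 32 := hn
    rw [this, Finset.sum_ite_mem, Finset.univ_inter, Finset.sum_const, hc]
    norm_num
  have hz := (Finset.sum_eq_zero_iff_of_nonneg (fun i _ => key i)).1 hs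
  constructor
  · intro i hi
    have := hz i (Finset.mem_univ i)
    rw [if_pos hi] at this
    have h4 : (x i - 2) * (x i + 2) = 0 := by linarith [this, show (x i - 2) * (x i + 2) = x i ^ 2 - 4 by ring]
    rcases mul_eq_zero.1 h4 with h | h
    · left; linarith
    · right; linarith
  · intro i hi
    have := hz i (Finset.mem_univ i)
    rw [if_neg hi, sub_zero] at this
    exact pow_eq_zero_iff (two_ne_zero) |>.1 this

/-- naturals summing to one over a finite type -/
theorem nat_sum_eq_one {ι : Type*} [Fintype ι] [DecidableEq ι] (f : ι → ℤ) (h0 : ∀ i, 0 ≤ f i)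
    (s : Finset ι) (h : ∑ i ∈ s, f i = 1) :
    ∃ j ∈ s, f j = 1 ∧ ∀ i ∈ s, i ≠ j → f i = 0 := by
  have hne : ∑ i ∈ s, f i ≠ 0 := by rw [h]; norm_num
  obtain ⟨j, hj, hj0⟩ := Finset.exists_ne_zero_of_sum_ne_zero hne
  have hadd := Finset.add_sum_erase s f hj
  have hnn : 0 ≤ ∑ i ∈ s.erase j, f i := Finset.sum_nonneg fun i _ => h0 i
  have hj1 : 1 ≤ f j := by
    have := h0 j
    omega
  have hj2 : f j = 1 := by omega
  refine ⟨j, hj, hj2, ?_⟩
  have h3 : ∑ i ∈ s.erase j, f i = 0 := by omega
  intro i hi hij
  exact (Finset.sum_eq_zero_iff_of_nonneg (fun i _ => h0 i)).1 h3 i (Finset.mem_erase.2 ⟨hij, hi⟩)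

/-- An integer vector with all coordinates odd and sum of squares 32 has one coordinate ±3, the rest ±1. -/
theorem shape_odd (x : GolayPt → ℤ) (h1 : ∀ i, x i % 2 = 1) (hn : sqNorm x = 32) :
    ∃ j, (x j = 3 ∨ x j = -3) ∧ ∀ i, i ≠ j → x i = 1 ∨ x i = -1 := by
  have hdiv : ∀ i, ∃ z : ℤ, x i ^ 2 - 1 = 8 * z := by
    intro i
    obtain ⟨k, hk⟩ : ∃ k : ℤ, x i = 2 * k + 1 := ⟨x i / 2, by have := h1 i; omega⟩
    obtain ⟨r, hr⟩ := Int.even_mul_succ_self k
    exact ⟨r, by rw [hk]; linarith [show (2 * k + 1) ^ 2 - 1 = 4 * (k * (k + 1)) by ring]⟩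
  choose z hz using hdiv
  have hz0 : ∀ i, 0 ≤ z i := by
    intro i
    have h3 : x i ≥ 1 ∨ x i ≤ -1 := by have := h1 i; omega
    have : 1 ≤ x i ^ 2 := by rcases h3 with h | h <;> nlinarith
    have := hz i
    omega
  have hs : ∑ i, z i = 1 := by
    have h32 : ∑ i, x i ^ 2 = 32 := hn
    have : ∑ i : GolayPt, (x i ^ 2 - 1) = 8 := by
      rw [Finset.sum_sub_distrib, h32]
      simp
    have h8 : ∑ i : GolayPt, (8 * z i) = 8 := by
      refine Eq.trans ?_ this
      exact Finset.sum_congr rfl fun i _ => (hz i).symm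
    rw [← Finset.mul_sum] at h8
    omega
  obtain ⟨j, -, hj1, hj⟩ := nat_sum_eq_one z hz0 Finset.univ hs
  refine ⟨j, ?_, fun i hi => ?_⟩
  · have := hz j
    rw [hj1] at this
    have h4 : (x j - 3) * (x j + 3) = 0 := by linarith [show (x j - 3) * (x j + 3) = x j ^ 2 - 9 by ring]
    rcases mul_eq_zero.1 h4 with h | h
    · left; linarith
    · right; linarith
  · have := hz i
    rw [hj i (Finset.mem_univ i) hi] at this
    have h4 : (x i - 1) * (x i + 1) = 0 := by linarith [show (x i - 1) * (x i + 1) = x i ^ 2 - 1 by ring]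
    rcases mul_eq_zero.1 h4 with h | h
    · left; linarith
    · right; linarith

/-- An integer vector with all coordinates divisible by 4 and sum of squares 32 has two coordinates ±4, the rest 0. -/
theorem shape_four (x : GolayPt → ℤ) (h4 : ∀ i, x i % 4 = 0) (hn : sqNorm x = 32) :
    ∃ j k, j ≠ k ∧ (x j = 4 ∨ x j = -4) ∧ (x k = 4 ∨ x k = -4) ∧ ∀ i, i ≠ j → i ≠ k → x i = 0 := by
  have hdiv : ∀ i, ∃ y : ℤ, x i = 4 * y := fun i => ⟨x i / 4, by have := h4 i; omega⟩
  choose y hy using hdiv
  have hs : ∑ i, y i ^ 2 = 2 := by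
    have h32 : ∑ i, x i ^ 2 = 32 := hn
    have : ∑ i, 16 * y i ^ 2 = 32 := by
      rw [← h32]; exact Finset.sum_congr rfl fun i _ => by rw [hy i]; ring
    rw [← Finset.mul_sum] at this
    omega
  have hne : ∑ i, y i ^ 2 ≠ 0 := by rw [hs]; norm_num
  obtain ⟨j, hj, hj0⟩ := Finset.exists_ne_zero_of_sum_ne_zero hne
  have hadd := Finset.add_sum_erase Finset.univ (fun i => y i ^ 2) hj
  have hnn : 0 ≤ ∑ i ∈ Finset.univ.erase j, y i ^ 2 := Finset.sum_nonneg fun i _ => sq_nonneg _
  have hyj : y j ≠ 0 := by
    intro h; apply hj0; rw [h]; norm_num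
  have hle : y j ^ 2 ≤ 2 := by omega
  have hyj1 : y j = 1 ∨ y j = -1 := by
    have a1 : y j < 2 := by nlinarith
    have a2 : -2 < y j := by nlinarith
    omega
  have hyj2 : y j ^ 2 = 1 := by rcases hyj1 with h | h <;> rw [h] <;> norm_num
  have hrest : ∑ i ∈ Finset.univ.erase j, y i ^ 2 = 1 := by omega
  obtain ⟨k, hk, hk1, hk2⟩ := nat_sum_eq_one (fun i => y i ^ 2) (fun i => sq_nonneg _) _ hrest
  have hkj : k ≠ j := (Finset.mem_erase.1 hk).1
  refine ⟨j, k, hkj.symm, ?_, ?_, ?_⟩
  · rcases hyj1 with h | h <;> rw [hy j, h] <;> norm_num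
  · have : y k = 1 ∨ y k = -1 := by
      have h5 : (y k - 1) * (y k + 1) = 0 := by
        have : y k ^ 2 = 1 := hk1
        linarith [show (y k - 1) * (y k + 1) = y k ^ 2 - 1 by ring]
      rcases mul_eq_zero.1 h5 with h | h
      · left; linarith
      · right; linarith
    rcases this with h | h <;> rw [hy k, h] <;> norm_num
  · intro i hi hi'
    have : y i ^ 2 = 0 := hk2 i (Finset.mem_erase.2 ⟨hi, Finset.mem_univ i⟩) hi'
    have : y i = 0 := by exact pow_eq_zero_iff (two_ne_zero) |>.1 this
    rw [hy i, this]; norm_num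

/-! ### the vectors u_d and the five families -/

/-- The norm-48 vector (5 at d, 1 elsewhere). -/
def uv (d : GolayPt) : GolayPt → ℤ := fun i => if i = d then 5 else 1

theorem dot_uv (d : GolayPt) (x : GolayPt → ℤ) : dotInt (uv d) x = ∑ i, x i + 4 * x d := by
  unfold dotInt
  have : ∀ i, uv d i * x i = x i + (if i = d then 4 * x i else 0) := by
    intro i
    show (if i = d then (5 : ℤ) else 1) * x i = _
    split_ifs <;> ring
  rw [Finset.sum_congr rfl fun i _ => this i, Finset.sum_add_distrib]
  simp

/-- family A: 4 at d, -4 at j -/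
def vA (d j : GolayPt) : GolayPt → ℤ := fun i => if i = d then 4 else if i = j then -4 else 0
/-- family B: 2 on O \ N, -2 on N -/
def vB (O N : Finset GolayPt) : GolayPt → ℤ := fun i => if i ∈ N then -2 else if i ∈ O then 2 else 0
/-- family D: 3 at d, 1 on D, -1 elsewhere -/
def vD (d : GolayPt) (D : Finset GolayPt) : GolayPt → ℤ :=
  fun i => if i = d then 3 else if i ∈ D then 1 else -1
/-- family E: 3 at j, -1 on the rest of O, 1 elsewhere -/
def vE (O : Finset GolayPt) (j : GolayPt) : GolayPt → ℤ :=
  fun i => if i = j then 3 else if i ∈ O then -1 else 1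

/-- the possible weights of codewords -/
def WeightsOK : Prop := ∀ c ∈ supports (golayCode : Set (GolayPt → ZMod 2)),
  c.card = 0 ∨ c.card = 8 ∨ c.card = 12 ∨ c.card = 16 ∨ c.card = 24

theorem card_golayPt : (Finset.univ : Finset GolayPt).card = 24 := by decide

theorem sum_ite_pm (c : Finset GolayPt) (a b : ℤ) :
    ∑ i : GolayPt, (if i ∈ c then a else b) = c.card * a + (24 - c.card) * b := by
  rw [Finset.sum_ite, Finset.sum_const, Finset.sum_const]
  have h1 : (Finset.univ.filter fun i => i ∈ c) = c := by ext; simp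
  have h2 : (Finset.univ.filter fun i => i ∉ c) = cᶜ := by ext; simp
  rw [h1, h2, Finset.card_compl, nsmul_eq_mul, nsmul_eq_mul]
  have h3 : Fintype.card GolayPt = 24 := by rw [← Finset.card_univ]; exact card_golayPt
  have h4 : c.card ≤ 24 := by rw [← h3]; exact Finset.card_le_univ c
  rw [h3]
  push_cast [Nat.cast_sub h4]
  ring

theorem cases16 (hw : WeightsOK) (d : GolayPt) (x : GolayPt → ℤ) (hx : x ∈ leechSet)
    (hn : sqNorm x = 32) (hd : dotInt (uv d) x = 16) :
    (∃ j, j ≠ d ∧ x = vA d j) ∨
    (∃ O ∈ octads, ∃ N, N ⊆ O.erase d ∧ d ∈ O ∧ N.card = 2 ∧ x = vB O N) ∨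
    (∃ O ∈ octads, d ∉ O ∧ x = vB O ∅) ∨
    (∃ D ∈ dodecads, d ∉ D ∧ x = vD d D) ∨
    (∃ O ∈ octads, d ∉ O ∧ ∃ j ∈ O, x = vE O j) := by
  rw [dot_uv] at hd
  obtain ⟨m, hpar, -, hk⟩ := hx
  rcases Int.emod_two_eq_zero_or_one m with hm | hm
  · have he : ∀ i, x i % 2 = 0 := fun i => by have := hpar i; unfold Int.ModEq at this; omega
    have hc := hk 2
    set c := Finset.univ.filter (fun i => x i ≡ 2 [ZMOD 4]) with hcdef
    have h2 : ∀ i ∈ c, x i % 4 = 2 := fun i hi => by
      rw [hcdef, Finset.mem_filter] at hi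
      have := hi.2; unfold Int.ModEq at this; omega
    have h0 : ∀ i ∉ c, x i % 4 = 0 := fun i hi => by
      rw [hcdef, Finset.mem_filter] at hi
      have h3 : ¬ (x i % 4 = 2 % 4) := fun h => hi ⟨Finset.mem_univ i, h⟩
      have := he i
      omega
    have hle : 4 * (c.card : ℤ) ≤ 32 := by
      have h32 : ∑ i, x i ^ 2 = 32 := hn
      have h5 : ∑ i ∈ c, (4:ℤ) ≤ ∑ i ∈ c, x i ^ 2 := by
        apply Finset.sum_le_sum
        intro i hi
        have := h2 i hi
        have h3 : x i ≥ 2 ∨ x i ≤ -2 := by omega
        rcases h3 with h | h <;> nlinarith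
      have h6 : ∑ i ∈ c, x i ^ 2 ≤ ∑ i, x i ^ 2 :=
        Finset.sum_le_sum_of_subset_of_nonneg (Finset.subset_univ c) fun i _ _ => sq_nonneg _
      rw [Finset.sum_const, nsmul_eq_mul] at h5
      linarith
    have hcard := hw c hc
    rcases (show c.card = 0 ∨ c.card = 8 by omega) with h | h
    · -- all coordinates divisible by 4
      have hc0 : c = ∅ := Finset.card_eq_zero.1 h
      obtain ⟨j, k, hjk, hj, hk', hrest⟩ := shape_four x (fun i => h0 i (by rw [hc0]; simp)) hn
      have hsum : ∑ i, x i = x j + x k := by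
        rw [← Finset.add_sum_erase Finset.univ x (Finset.mem_univ j),
          ← Finset.add_sum_erase (Finset.univ.erase j) x (Finset.mem_erase.2 ⟨hjk.symm, Finset.mem_univ k⟩),
          Finset.sum_eq_zero]
        · ring
        · intro i hi
          simp only [Finset.mem_erase] at hi
          exact hrest i hi.2.1 hi.1
      rw [hsum] at hd
      left
      by_cases hdj : d = j
      · refine ⟨k, by rw [hdj]; exact hjk.symm, ?_⟩
        rw [hdj] at hd ⊢
        have h1 : x j = 4 := by rcases hj with h | h <;> rcases hk' with h' | h' <;> omega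
        have h2 : x k = -4 := by rcases hk' with h' | h' <;> omega
        funext i
        simp only [vA]
        split_ifs with h3 h4
        · rw [h3, h1]
        · rw [h4, h2]
        · exact hrest i h3 h4
      · by_cases hdk : d = k
        · refine ⟨j, by rw [hdk]; exact hjk, ?_⟩
          rw [hdk] at hd ⊢
          have h1 : x k = 4 := by rcases hj with h | h <;> rcases hk' with h' | h' <;> omega
          have h2 : x j = -4 := by rcases hj with h' | h' <;> omega
          funext i
          simp only [vA]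
          split_ifs with h3 h4
          · rw [h3, h1]
          · rw [h4, h2]
          · exact hrest i h4 h3
        · exfalso
          have := hrest d hdj hdk
          rcases hj with h | h <;> rcases hk' with h' | h' <;> omega
    · -- octad
      obtain ⟨hs1, hs2⟩ := shape_eight x c h h2 hn
      have hO : c ∈ octads := ⟨hc, h⟩
      set N := c.filter (fun i => x i = -2) with hN
      have hxN : x = vB c N := by
        funext i
        simp only [vB, hN, Finset.mem_filter]
        by_cases hi : i ∈ c
        · rcases hs1 i hi with h' | h' <;> simp [hi, h']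
        · simp [hi, hs2 i hi]
      have hsum : ∑ i, x i = 16 - 4 * N.card := by
        have : ∀ i, x i = (if i ∈ c then 2 else 0) + (if i ∈ N then -4 else 0) := by
          intro i
          simp only [hN, Finset.mem_filter]
          by_cases hi : i ∈ c
          · rcases hs1 i hi with h' | h' <;> simp [hi, h']
          · simp [hi, hs2 i hi]
        rw [Finset.sum_congr rfl fun i _ => this i, Finset.sum_add_distrib, sum_ite_pm, sum_ite_pm, h]
        push_cast; ring
      rw [hsum] at hd
      by_cases hdc : d ∈ c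
      · right; left
        have h3 := hs1 d hdc
        have hd2 : x d = 2 := by omega
        have hN2 : N.card = 2 := by omega
        refine ⟨c, hO, N, ?_, hdc, hN2, hxN⟩
        intro i hi
        rw [hN, Finset.mem_filter] at hi
        refine Finset.mem_erase.2 ⟨?_, hi.1⟩
        intro hid
        rw [hid, hd2] at hi
        norm_num at hi
      · right; right; left
        have h3 := hs2 d hdc
        have hN0 : N = ∅ := Finset.card_eq_zero.1 (by omega)
        exact ⟨c, hO, hdc, by rw [← hN0]; exact hxN⟩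
  · have ho : ∀ i, x i % 2 = 1 := fun i => by have := hpar i; unfold Int.ModEq at this; omega
    obtain ⟨j, hj, hrest⟩ := shape_odd x ho hn
    have hc := hk 1
    have hc3 := hk 3
    set c := Finset.univ.filter (fun i => x i ≡ 1 [ZMOD 4]) with hcdef
    set c3 := Finset.univ.filter (fun i => x i ≡ 3 [ZMOD 4]) with hc3def
    have hmc : ∀ i, i ∈ c ↔ x i % 4 = 1 := fun i => by
      rw [hcdef, Finset.mem_filter]; unfold Int.ModEq; simp
    have hmc3 : ∀ i, i ∈ c3 ↔ x i % 4 = 3 := fun i => by
      rw [hc3def, Finset.mem_filter]; unfold Int.ModEq; simp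
    have hcc : c3 = cᶜ := by
      ext i
      rw [Finset.mem_compl, hmc, hmc3]
      have := ho i
      omega
    have hcard3 : c3.card = 24 - c.card := by
      rw [hcc, Finset.card_compl, ← Finset.card_univ, card_golayPt]
    have hcardle : c.card ≤ 24 := by rw [← card_golayPt]; exact Finset.card_le_univ c
    have hwc := hw c hc
    rcases hj with hj3 | hj3
    · -- x j = 3
      have hjc : j ∉ c := by rw [hmc, hj3]; norm_num
      have hxe : ∀ i, x i = (if i ∈ c then 1 else -1) + (if i = j then 4 else 0) := by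
        intro i
        by_cases hij : i = j
        · rw [hij]; simp [hjc, hj3]
        · rcases hrest i hij with h' | h'
          · have : i ∈ c := by rw [hmc, h']; norm_num
            simp [hij, this, h']
          · have : i ∉ c := by rw [hmc, h']; norm_num
            simp [hij, this, h']
      have hsum : ∑ i, x i = 2 * c.card - 20 := by
        rw [Finset.sum_congr rfl fun i _ => hxe i, Finset.sum_add_distrib, sum_ite_pm,
          Finset.sum_ite_eq']
        simp; ring
      rw [hsum] at hd
      by_cases hdj : d = j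
      · right; right; right; left
        rw [hdj, hj3] at hd
        have h12 : c.card = 12 := by omega
        refine ⟨c, ⟨hc, h12⟩, by rw [hdj]; exact hjc, ?_⟩
        funext i
        rw [hxe i, hdj]
        simp only [vD]
        by_cases hij : i = j
        · rw [hij]; simp [hjc]
        · simp [hij]
      · right; right; right; right
        have hxd := hrest d hdj
        have h16 : c.card = 16 := by omega
        have hxd1 : x d = 1 := by omega
        refine ⟨c3, ⟨hc3, by rw [hcard3, h16]⟩, by rw [hmc3, hxd1]; norm_num, j,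
          by rw [hmc3, hj3]; norm_num, ?_⟩
        funext i
        rw [hxe i]
        simp only [vE, hcc, Finset.mem_compl]
        by_cases hij : i = j
        · rw [hij]; simp [hjc]
        · by_cases hic : i ∈ c <;> simp [hij, hic]
    · -- x j = -3 : impossible
      exfalso
      have hjc : j ∈ c := by rw [hmc, hj3]; norm_num
      have hxe : ∀ i, x i = (if i ∈ c then 1 else -1) + (if i = j then -4 else 0) := by
        intro i
        by_cases hij : i = j
        · rw [hij]; simp [hjc, hj3]
        · rcases hrest i hij with h' | h'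
          · have : i ∈ c := by rw [hmc, h']; norm_num
            simp [hij, this, h']
          · have : i ∉ c := by rw [hmc, h']; norm_num
            simp [hij, this, h']
      have hsum : ∑ i, x i = 2 * c.card - 28 := by
        rw [Finset.sum_congr rfl fun i _ => hxe i, Finset.sum_add_distrib, sum_ite_pm,
          Finset.sum_ite_eq']
        simp; ring
      rw [hsum] at hd
      by_cases hdj : d = j
      · rw [hdj, hj3] at hd
        omega
      · rcases hrest d hdj with h' | h'
        · omega
        · have h24 : c.card = 24 := by omega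
          have : c = Finset.univ := Finset.eq_univ_of_card c (by
            rw [h24, ← Finset.card_univ, card_golayPt])
          have hdc : d ∈ c := by rw [this]; exact Finset.mem_univ d
          rw [hmc, h'] at hdc
          norm_num at hdc

/-! ### the converse: all five families consist of such vectors -/

theorem compl_mem_supports {c : Finset GolayPt}
    (hc : c ∈ supports (golayCode : Set (GolayPt → ZMod 2))) :
    cᶜ ∈ supports (golayCode : Set (GolayPt → ZMod 2)) := by
  obtain ⟨w, hw, rfl⟩ := hc
  refine ⟨w + 1, ?_, ?_⟩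
  · exact Submodule.add_mem _ hw (Submodule.subset_span (Set.mem_union_right _ rfl))
  · ext i
    simp only [support₂, Finset.mem_filter, Finset.mem_univ, true_and, Finset.mem_compl,
      Pi.add_apply, Pi.one_apply]
    have : ∀ a : ZMod 2, a + 1 ≠ 0 ↔ ¬ a ≠ 0 := by decide
    exact this (w i)

/-- membership in leechSet of a vector taking two residues mod 4, one on a codeword and the other off it -/
theorem mem_leechSet_of_two (x : GolayPt → ℤ) (c : Finset GolayPt) (a b m : ℤ)
    (hc : c ∈ supports (golayCode : Set (GolayPt → ZMod 2)))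
    (hab : ¬ a % 4 = b % 4) (ham : a % 2 = m % 2) (hbm : b % 2 = m % 2)
    (h1 : ∀ i ∈ c, x i % 4 = a % 4) (h2 : ∀ i ∉ c, x i % 4 = b % 4)
    (hs : (∑ i, x i) % 8 = (4 * m) % 8) : x ∈ leechSet := by
  refine ⟨m, fun i => ?_, hs, fun k => ?_⟩
  · show x i % 2 = m % 2
    by_cases hi : i ∈ c
    · have := h1 i hi; omega
    · have := h2 i hi; omega
  · by_cases hk : k % 4 = a % 4
    · have : (Finset.univ.filter fun i => x i ≡ k [ZMOD 4]) = c := by
        ext i
        rw [Finset.mem_filter]
        constructor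
        · rintro ⟨-, h⟩
          by_contra hi
          have h3 := h2 i hi
          have h4 : x i % 4 = k % 4 := h
          omega
        · intro hi
          exact ⟨Finset.mem_univ i, (h1 i hi).trans hk.symm⟩
      rw [this]; exact hc
    · by_cases hk' : k % 4 = b % 4
      · have : (Finset.univ.filter fun i => x i ≡ k [ZMOD 4]) = cᶜ := by
          ext i
          rw [Finset.mem_filter, Finset.mem_compl]
          constructor
          · rintro ⟨-, h⟩ hi
            have h3 := h1 i hi
            have h4 : x i % 4 = k % 4 := h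
            omega
          · intro hi
            exact ⟨Finset.mem_univ i, (h2 i hi).trans hk'.symm⟩
        rw [this]; exact compl_mem_supports hc
      · have : (Finset.univ.filter fun i => x i ≡ k [ZMOD 4]) = ∅ := by
          apply Finset.filter_false_of_mem
          intro i _ h
          have h4 : x i % 4 = k % 4 := h
          by_cases hi : i ∈ c
          · have := h1 i hi; omega
          · have := h2 i hi; omega
        rw [this]; exact Cfsg.Spor.empty_mem_supports_golayCode

theorem sum_if_eq (j : GolayPt) (a b : ℤ) : ∑ i : GolayPt, (if i = j then a else b) = a + 23 * b := by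
  have := sum_ite_pm {j} a b
  simp only [Finset.mem_singleton, Finset.card_singleton] at this
  rw [this]; push_cast; ring

theorem vA_props {d j : GolayPt} (h : j ≠ d) :
    vA d j ∈ leechSet ∧ sqNorm (vA d j) = 32 ∧ dotInt (uv d) (vA d j) = 16 := by
  have hs : ∑ i, vA d j i = 0 := by
    have : ∀ i, vA d j i = (if i = d then 4 else 0) + (if i = j then -4 else 0) := by
      intro i; simp only [vA]; split_ifs with h1 h2 <;> simp_all
    rw [Finset.sum_congr rfl fun i _ => this i, Finset.sum_add_distrib, sum_if_eq, sum_if_eq]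
    norm_num
  refine ⟨?_, ?_, ?_⟩
  · apply Cfsg.Spor.mem_leechSet_of_const_mod_four _ 0 0 (by rfl)
    · intro i
      show vA d j i % 4 = 0 % 4
      simp only [vA]; split_ifs <;> norm_num
    · rw [hs]; rfl
  · have : ∀ i, vA d j i ^ 2 = (if i = d then 16 else 0) + (if i = j then 16 else 0) := by
      intro i; simp only [vA]; split_ifs with h1 h2 <;> simp_all
    unfold sqNorm
    rw [Finset.sum_congr rfl fun i _ => this i, Finset.sum_add_distrib, sum_if_eq, sum_if_eq]
    norm_num
  · rw [dot_uv, hs]; simp [vA]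

theorem vB_props {d : GolayPt} {O N : Finset GolayPt} (hO : O ∈ octads) (hN : N ⊆ O.erase d)
    (hd : (d ∈ O ∧ N.card = 2) ∨ (d ∉ O ∧ N = ∅)) :
    vB O N ∈ leechSet ∧ sqNorm (vB O N) = 32 ∧ dotInt (uv d) (vB O N) = 16 := by
  have hO8 : O.card = 8 := hO.2
  have hNO : ∀ i ∈ N, i ∈ O := fun i hi => Finset.mem_of_mem_erase (hN hi)
  have hdN : d ∉ N := fun hi => (Finset.mem_erase.1 (hN hi)).1 rfl
  have hs : ∑ i, vB O N i = 16 - 4 * N.card := by
    have : ∀ i, vB O N i = (if i ∈ O then 2 else 0) + (if i ∈ N then -4 else 0) := by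
      intro i; simp only [vB]
      by_cases h1 : i ∈ N
      · simp [h1, hNO i h1]
      · simp [h1]
    rw [Finset.sum_congr rfl fun i _ => this i, Finset.sum_add_distrib, sum_ite_pm, sum_ite_pm, hO8]
    push_cast; ring
  have hNc : N.card = 2 ∨ N.card = 0 := by
    rcases hd with h | h
    · exact Or.inl h.2
    · right; rw [h.2]; rfl
  refine ⟨?_, ?_, ?_⟩
  · apply mem_leechSet_of_two _ O 2 0 0 hO.1 (by norm_num) (by norm_num) (by norm_num)
    · intro i hi
      simp only [vB, hi, if_true]; split_ifs <;> norm_num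
    · intro i hi
      have : i ∉ N := fun h => hi (hNO i h)
      simp only [vB, hi, this, if_false]
    · rw [hs]; rcases hNc with h | h <;> rw [h] <;> norm_num
  · have : ∀ i, vB O N i ^ 2 = (if i ∈ O then 4 else 0) := by
      intro i; simp only [vB]
      by_cases h1 : i ∈ N
      · simp [h1, hNO i h1]
      · by_cases h2 : i ∈ O <;> simp [h1, h2]
    unfold sqNorm
    rw [Finset.sum_congr rfl fun i _ => this i, sum_ite_pm, hO8]
    norm_num
  · rw [dot_uv, hs]
    rcases hd with h | h
    · rw [h.2]; simp [vB, hdN, h.1]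
    · rw [h.2]; simp [vB, h.1]

theorem vD_props {d : GolayPt} {D : Finset GolayPt} (hD : D ∈ dodecads) (hd : d ∉ D) :
    vD d D ∈ leechSet ∧ sqNorm (vD d D) = 32 ∧ dotInt (uv d) (vD d D) = 16 := by
  have hD12 : D.card = 12 := hD.2
  have hs : ∑ i, vD d D i = 4 := by
    have : ∀ i, vD d D i = (if i ∈ D then 1 else -1) + (if i = d then 4 else 0) := by
      intro i; simp only [vD]
      by_cases h1 : i = d
      · rw [h1]; simp [hd]
      · simp [h1]
    rw [Finset.sum_congr rfl fun i _ => this i, Finset.sum_add_distrib, sum_ite_pm, sum_if_eq, hD12]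
    norm_num
  refine ⟨?_, ?_, ?_⟩
  · apply mem_leechSet_of_two _ D 1 3 1 hD.1 (by norm_num) (by norm_num) (by norm_num)
    · intro i hi
      have : i ≠ d := fun h => hd (h ▸ hi)
      simp only [vD, hi, this, if_true, if_false]
    · intro i hi
      simp only [vD, hi, if_false]; split_ifs <;> norm_num
    · rw [hs]; norm_num
  · have : ∀ i, vD d D i ^ 2 = (if i = d then 9 else 1) := by
      intro i; simp only [vD]
      by_cases h1 : i = d
      · simp [h1]
      · by_cases h2 : i ∈ D <;> simp [h1, h2]
    unfold sqNorm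
    rw [Finset.sum_congr rfl fun i _ => this i, sum_if_eq]
    norm_num
  · rw [dot_uv, hs]; simp [vD]

theorem vE_props {d j : GolayPt} {O : Finset GolayPt} (hO : O ∈ octads) (hd : d ∉ O) (hj : j ∈ O) :
    vE O j ∈ leechSet ∧ sqNorm (vE O j) = 32 ∧ dotInt (uv d) (vE O j) = 16 := by
  have hO8 : O.card = 8 := hO.2
  have hs : ∑ i, vE O j i = 12 := by
    have : ∀ i, vE O j i = (if i ∈ O then -1 else 1) + (if i = j then 4 else 0) := by
      intro i; simp only [vE]
      by_cases h1 : i = j
      · rw [h1]; simp [hj]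
      · simp [h1]
    rw [Finset.sum_congr rfl fun i _ => this i, Finset.sum_add_distrib, sum_ite_pm, sum_if_eq, hO8]
    norm_num
  refine ⟨?_, ?_, ?_⟩
  · apply mem_leechSet_of_two _ O 3 1 1 hO.1 (by norm_num) (by norm_num) (by norm_num)
    · intro i hi
      simp only [vE, hi]; split_ifs <;> norm_num
    · intro i hi
      have : i ≠ j := fun h => hi (h ▸ hj)
      simp only [vE, hi, this, if_false]
    · rw [hs]; norm_num
  · have : ∀ i, vE O j i ^ 2 = (if i = j then 9 else 1) := by
      intro i; simp only [vE]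
      by_cases h1 : i = j
      · simp [h1]
      · by_cases h2 : i ∈ O <;> simp [h1, h2]
    unfold sqNorm
    rw [Finset.sum_congr rfl fun i _ => this i, sum_if_eq]
    norm_num
  · rw [dot_uv, hs]
    have : d ≠ j := fun h => hd (h ▸ hj)
    simp [vE, this, hd]

/-- The full description of the vectors of `leechSet` of sum of squares 32 with inner product 16 with u_d. -/
theorem mem16_iff (hw : WeightsOK) (d : GolayPt) (x : GolayPt → ℤ) :
    (x ∈ leechSet ∧ sqNorm x = 32 ∧ dotInt (uv d) x = 16) ↔
    (∃ j, j ≠ d ∧ x = vA d j) ∨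
    (∃ O ∈ octads, ∃ N, N ⊆ O.erase d ∧ d ∈ O ∧ N.card = 2 ∧ x = vB O N) ∨
    (∃ O ∈ octads, d ∉ O ∧ x = vB O ∅) ∨
    (∃ D ∈ dodecads, d ∉ D ∧ x = vD d D) ∨
    (∃ O ∈ octads, d ∉ O ∧ ∃ j ∈ O, x = vE O j) := by
  constructor
  · rintro ⟨h1, h2, h3⟩
    exact cases16 hw d x h1 h2 h3
  · rintro (⟨j, hj, rfl⟩ | ⟨O, hO, N, hN, hd, hN2, rfl⟩ | ⟨O, hO, hd, rfl⟩ | ⟨D, hD, hd, rfl⟩ |
      ⟨O, hO, hd, j, hj, rfl⟩)
    · exact vA_props hj
    · exact vB_props hO hN (Or.inl ⟨hd, hN2⟩)
    · exact vB_props hO (by simp) (Or.inr ⟨hd, rfl⟩)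
    · exact vD_props hD hd
    · exact vE_props hO hd hj

end Cfsg.Agent.Leech.Dot16
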