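import Cfsg.Agent.Leech.Dot16
import Cfsg.Agent.Leech.Xi
import Cfsg.Agent.SporadicA.M24Gens

/-!
The group `Co0` is transitive on the pairs (u_d, x), x minimal with inner product 16 with
u_d = (5 at d, 1 elsewhere).
-/

set_option autoImplicit false

open Cfsg

namespace Cfsg.Agent.Leech.Dot16Trans

open Finset Cfsg.Agent.Leech.Dot16 Cfsg.Agent.Leech.Code Cfsg.Agent.Leech.Basic
  Cfsg.Agent.Leech.Co0Elts Cfsg.Agent.Leech.Xi

/-! ### M24 is 2-transitive -/

/-- the translation `x ↦ x + 1` -/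
abbrev shift : Equiv.Perm GolayPt := Equiv.optionCongr (Equiv.addRight (1 : ZMod 23))

theorem shift_pow (n : ℕ) : (shift ^ n) none = none ∧ ∀ k : ZMod 23, (shift ^ n) (some k) = some (k + n) := by
  induction n with
  | zero => simp
  | succ n ih =>
    rw [pow_succ']
    refine ⟨?_, fun k => ?_⟩
    · rw [Equiv.Perm.mul_apply, ih.1]; rfl
    · rw [Equiv.Perm.mul_apply, ih.2 k]
      show some (k + n + 1) = _
      push_cast
      rw [add_assoc]

theorem exists_shift (k : ZMod 23) : ∃ σ ∈ M24, σ none = none ∧ σ (some k) = some 0 := by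
  refine ⟨shift ^ (-k).val, pow_mem Cfsg.Agent.SporadicA.M24Gens.shift_mem _, (shift_pow _).1, ?_⟩
  rw [(shift_pow _).2 k, ZMod.natCast_val, ZMod.cast_id', id, add_neg_cancel]

theorem exists_to_none (d : GolayPt) : ∃ σ ∈ M24, σ d = none := by
  cases d with
  | none => exact ⟨1, one_mem _, rfl⟩
  | some k =>
    obtain ⟨σ, hσ, -, h⟩ := exists_shift k
    refine ⟨projInv * σ, mul_mem Cfsg.Agent.SporadicA.M24Gens.projInv_mem hσ, ?_⟩
    rw [Equiv.Perm.mul_apply, h]
    rfl

/-- M24 is 2-transitive on the 24 points. -/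
theorem two_trans {d j : GolayPt} (h : j ≠ d) : ∃ σ ∈ M24, σ d = none ∧ σ j = some 0 := by
  obtain ⟨σ, hσ, hd⟩ := exists_to_none d
  have hj : σ j ≠ none := fun h' => h (σ.injective (h'.trans hd.symm))
  obtain ⟨k, hk⟩ := Option.ne_none_iff_exists'.1 hj
  obtain ⟨τ, hτ, h1, h2⟩ := exists_shift k
  exact ⟨τ * σ, mul_mem hτ hσ, by rw [Equiv.Perm.mul_apply, hd, h1],
    by rw [Equiv.Perm.mul_apply, hk, h2]⟩

/-! ### the relation -/

/-- the pairs (u, x) and (u', x') are conjugate under Co0 -/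
def Rel (u x u' x' : leechLattice) : Prop := ∃ g : ↥Co0, g • u = u' ∧ g • x = x'

theorem Rel.refl (u x : leechLattice) : Rel u x u x := ⟨1, one_smul _ _, one_smul _ _⟩

theorem Rel.symm {u x u' x' : leechLattice} (h : Rel u x u' x') : Rel u' x' u x := by
  obtain ⟨g, rfl, rfl⟩ := h
  exact ⟨g⁻¹, inv_smul_smul _ _, inv_smul_smul _ _⟩

theorem Rel.trans {u x u' x' u'' x'' : leechLattice} (h : Rel u x u' x')
    (h' : Rel u' x' u'' x'') : Rel u x u'' x'' := by
  obtain ⟨g, rfl, rfl⟩ := h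
  obtain ⟨k, rfl, rfl⟩ := h'
  exact ⟨k * g, mul_smul _ _ _, mul_smul _ _ _⟩

theorem uv_mem (d : GolayPt) : uv d ∈ leechLattice := by
  rw [mem_leech_iff]
  apply Cfsg.Spor.mem_leechSet_of_const_mod_four _ 1 1 (by rfl)
  · intro i
    show uv d i % 4 = 1 % 4
    simp only [uv]; split_ifs <;> norm_num
  · have : ∑ i, uv d i = 28 := by
      have := sum_if_eq d 5 1
      simpa [uv] using this
    rw [this]; rfl

/-- u_d as an element of the lattice -/
def U (d : GolayPt) : leechLattice := ⟨uv d, uv_mem d⟩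

theorem U_coe (d : GolayPt) : ((U d : leechLattice) : GolayPt → ℤ) = uv d := rfl

/-- 3 on A, -1 elsewhere -/
def wv (A : Finset GolayPt) : GolayPt → ℤ := fun i => if i ∈ A then 3 else -1

variable {S : Finset (Finset GolayPt)}

theorem xiMap_uv (hS : S ∈ sextets) {A : Finset GolayPt} (hA : A.card = 3) {d : GolayPt}
    (hd : d ∉ A) (hT : insert d A ∈ S) : xiMap S (insert d A) (uv d) = wv A := by
  have hsT : ∑ i ∈ insert d A, uv d i = 8 := by
    rw [Finset.sum_insert hd]
    have : ∑ i ∈ A, uv d i = 3 := by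
      rw [Finset.sum_congr rfl (g := fun _ => (1 : ℤ)), Finset.sum_const, hA]
      · rfl
      · intro i hi
        have : i ≠ d := fun h => hd (h ▸ hi)
        simp [uv, this]
    rw [this]; simp [uv]
  funext i
  rw [xiMap_apply]
  have h2 := two_mul_hsum hS (uv_mem d) i
  by_cases hi : i ∈ insert d A
  · rw [tet_eq hS hT hi, hsT] at h2
    have h3 : hsum S (uv d) i = 4 := by omega
    rw [if_pos hi, h3]
    rcases Finset.mem_insert.1 hi with h | h
    · rw [h]; simp [uv, wv, hd]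
    · have : i ≠ d := fun h' => hd (h' ▸ h)
      simp [uv, wv, h, this]
  · obtain ⟨t, ht, hit⟩ := sextet_exists hS i
    have htT : t ≠ insert d A := fun h => hi (h ▸ hit)
    have hdt : d ∉ t := fun h => htT (sextet_unique hS ht hT h (Finset.mem_insert_self d A))
    rw [tet_eq hS ht hit] at h2
    have h4 : ∑ j ∈ t, uv d j = 4 := by
      rw [Finset.sum_congr rfl (g := fun _ => (1 : ℤ)), Finset.sum_const, hS.2.1 t ht]
      · rfl
      · intro i hi
        have : i ≠ d := fun h => hdt (h ▸ hi)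
        simp [uv, this]
    rw [h4] at h2
    have h3 : hsum S (uv d) i = 2 := by omega
    rw [if_neg hi, h3]
    rw [Finset.mem_insert, not_or] at hi
    simp [uv, wv, hi.1, hi.2]

/-- The basic move: from (u_d, x) to (u_{d'}, y), with control of the coordinate of y at d'. -/
theorem move {A : Finset GolayPt} (hA : A.card = 3) {d d' : GolayPt} (hd : d ∉ A) (hd' : d' ∉ A)
    (hdd : d' ≠ d) (hS : S ∈ sextets) (hT : insert d A ∈ S) {R : Finset GolayPt} (hR : R ∈ S)
    (hR' : d' ∈ R) (x : leechLattice) :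
    ∃ y : leechLattice, Rel (U d) x (U d') y ∧
      4 * (y : GolayPt → ℤ) d' = 3 * (x : GolayPt → ℤ) d + ∑ i ∈ A, (x : GolayPt → ℤ) i -
        2 * (x : GolayPt → ℤ) d' + ∑ i ∈ R, (x : GolayPt → ℤ) i := by
  obtain ⟨S', hS', hT'⟩ := exists_sextet (insert d' A) (by rw [Finset.card_insert_of_notMem hd', hA])
  refine ⟨xi S' (insert d' A) hS' hT' • xi S (insert d A) hS hT • x,
    ⟨xi S' (insert d' A) hS' hT' * xi S (insert d A) hS hT, ?_, mul_smul _ _ _⟩, ?_⟩
  · rw [mul_smul]
    apply Subtype.ext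
    rw [xi_coe, xi_coe, U_coe, U_coe, xiMap_uv hS hA hd hT, ← xiMap_uv hS' hA hd' hT',
      xiMap_xiMap hS' hT' (uv_mem d')]
  · rw [xi_coe, xi_coe]
    set z := xiMap S (insert d A) (x : GolayPt → ℤ) with hz
    have hzm : z ∈ leechLattice := xiMap_mem hS hT x.2
    have h1 := two_mul_hsum hS' hzm d'
    rw [tet_eq hS' hT' (Finset.mem_insert_self _ _), Finset.sum_insert hd'] at h1
    rw [xiMap_apply, if_pos (Finset.mem_insert_self _ _)]
    have h2 := two_mul_hsum hS x.2 d
    rw [tet_eq hS hT (Finset.mem_insert_self _ _), Finset.sum_insert hd] at h2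
    have h3 := two_mul_hsum hS x.2 d'
    rw [tet_eq hS hR hR'] at h3
    have hd'T : d' ∉ insert d A := by
      rw [Finset.mem_insert, not_or]; exact ⟨hdd, hd'⟩
    have h4 : z d' = (x : GolayPt → ℤ) d' - hsum S x d' := by
      rw [hz, xiMap_apply, if_neg hd'T]
    have h5 : ∑ i ∈ A, z i = - ∑ i ∈ A, (x : GolayPt → ℤ) i + 3 * hsum S x d := by
      have : ∀ i ∈ A, z i = - (x : GolayPt → ℤ) i + hsum S x d := by
        intro i hi
        have hiT : i ∈ insert d A := Finset.mem_insert_of_mem hi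
        rw [hz, xiMap_apply, if_pos hiT]
        have : hsum S x i = hsum S x d := by
          unfold hsum
          rw [tet_eq hS hT hiT, tet_eq hS hT (Finset.mem_insert_self _ _)]
        rw [this]; ring
      rw [Finset.sum_congr rfl this, Finset.sum_add_distrib, Finset.sum_neg_distrib,
        Finset.sum_const, hA]
      simp
    rw [h5, h4] at h1
    rw [h4]
    linarith

/-- in a sextet with a tetrad meeting a small codeword in an odd number of points, some other
tetrad meets it in exactly one point -/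
theorem exists_R (hS : S ∈ sextets) {T : Finset GolayPt} (hT : T ∈ S) {C : Finset GolayPt}
    (hC : C ∈ Words) (hodd : (C ∩ T).card % 2 = 1) (hlt : C.card < (C ∩ T).card + 15) :
    ∃ R ∈ S, R ≠ T ∧ (C ∩ R).card = 1 := by
  by_contra hcon
  push Not at hcon
  have h3 : ∀ R ∈ S.erase T, 3 ≤ (C ∩ R).card := by
    intro R hR
    rw [Finset.mem_erase] at hR
    have h1 := hcon R hR.2 hR.1
    obtain ⟨r, hr⟩ := even_inter hC (octads_words (hS.2.2 R hR.2 T hT hR.1))
    have h2 : (C ∩ (R ∪ T)).card = (C ∩ R).card + (C ∩ T).card := by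
      rw [Finset.inter_union_distrib_left, Finset.card_union_of_disjoint]
      exact (sextet_disjoint hS hR.2 hT hR.1).mono Finset.inter_subset_right
        Finset.inter_subset_right
    omega
  have hsum : ∑ R ∈ S, (C ∩ R).card = C.card := by
    have := sum_sextet hS C (fun _ => (1 : ℤ))
    simp only [Finset.sum_const, nsmul_eq_mul, mul_one] at this
    exact_mod_cast this.symm
  rw [← Finset.add_sum_erase _ _ hT] at hsum
  have hcard : (S.erase T).card = 5 := by rw [Finset.card_erase_of_mem hT, hS.1]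
  have := Finset.card_nsmul_le_sum (S.erase T) (fun R => (C ∩ R).card) 3 h3
  rw [hcard] at this
  simp only [smul_eq_mul] at this
  omega

/-! ### the reductions -/

/-- x is minimal with inner product 16 with u_d -/
def Good (d : GolayPt) (x : leechLattice) : Prop :=
  sqNorm (x : GolayPt → ℤ) = 32 ∧ dotInt (uv d) (x : GolayPt → ℤ) = 16

theorem Good.of_rel {d d' : GolayPt} {x y : leechLattice} (h : Good d x)
    (hr : Rel (U d) x (U d') y) : Good d' y := by
  obtain ⟨g, h1, rfl⟩ := hr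
  refine ⟨(sqNorm_smul g x).trans h.1, ?_⟩
  rw [← U_coe, ← h1, dotInt_smul]
  exact h.2

theorem Good.cases {d : GolayPt} {x : leechLattice} (h : Good d x) :
    (∃ j, j ≠ d ∧ (x : GolayPt → ℤ) = vA d j) ∨
    (∃ O ∈ octads, ∃ N, N ⊆ O.erase d ∧ d ∈ O ∧ N.card = 2 ∧ (x : GolayPt → ℤ) = vB O N) ∨
    (∃ O ∈ octads, d ∉ O ∧ (x : GolayPt → ℤ) = vB O ∅) ∨
    (∃ D ∈ dodecads, d ∉ D ∧ (x : GolayPt → ℤ) = vD d D) ∨
    (∃ O ∈ octads, d ∉ O ∧ ∃ j ∈ O, (x : GolayPt → ℤ) = vE O j) :=
  cases16 (fun _ hc => Cfsg.Agent.SporadicA.GolayBase.card_of_mem_supports hc) d x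
    ((mem_leech_iff _).1 x.2) h.1 h.2

theorem vB_at {d : GolayPt} {O N : Finset GolayPt} (hN : N ⊆ O.erase d) (hd : d ∈ O) :
    vB O N d = 2 := by
  have : d ∉ N := fun h => (Finset.mem_erase.1 (hN h)).1 rfl
  simp [vB, this, hd]

theorem vE_at {d j : GolayPt} {O : Finset GolayPt} (hd : d ∉ O) (hj : j ∈ O) : vE O j d = 1 := by
  have : d ≠ j := fun h => hd (h ▸ hj)
  simp [vE, this, hd]

theorem A_of_four {d : GolayPt} {x : leechLattice} (h : Good d x)
    (h4 : (x : GolayPt → ℤ) d = 4) : ∃ j, j ≠ d ∧ (x : GolayPt → ℤ) = vA d j := by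
  rcases h.cases with h | ⟨O, hO, N, hN, hd, hN2, hx⟩ | ⟨O, hO, hd, hx⟩ | ⟨D, hD, hd, hx⟩ |
    ⟨O, hO, hd, j, hj, hx⟩
  · exact h
  · rw [hx, vB_at hN hd] at h4; norm_num at h4
  · rw [hx] at h4; simp [vB, hd] at h4
  · rw [hx] at h4; simp [vD] at h4
  · rw [hx, vE_at hd hj] at h4; norm_num at h4

theorem B_of_two {d : GolayPt} {x : leechLattice} (h : Good d x)
    (h4 : (x : GolayPt → ℤ) d = 2) :
    ∃ O ∈ octads, ∃ N, N ⊆ O.erase d ∧ d ∈ O ∧ N.card = 2 ∧ (x : GolayPt → ℤ) = vB O N := by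
  rcases h.cases with ⟨j, hj, hx⟩ | h | ⟨O, hO, hd, hx⟩ | ⟨D, hD, hd, hx⟩ |
    ⟨O, hO, hd, j, hj, hx⟩
  · rw [hx] at h4; simp [vA] at h4
  · exact h
  · rw [hx] at h4; simp [vB, hd] at h4
  · rw [hx] at h4; simp [vD] at h4
  · rw [hx, vE_at hd hj] at h4; norm_num at h4

theorem vA_mem {d j : GolayPt} (h : j ≠ d) : vA d j ∈ leechLattice :=
  (mem_leech_iff _).2 (vA_props h).1

/-- the standard minimal vector -/
def X0 : leechLattice := ⟨vA none (some 0), vA_mem (by simp)⟩

theorem std_of_A {d j : GolayPt} (hj : j ≠ d) {x : leechLattice}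
    (hx : (x : GolayPt → ℤ) = vA d j) : Rel (U d) x (U none) X0 := by
  obtain ⟨σ, hσ, h1, h2⟩ := two_trans hj
  refine ⟨perm σ hσ, ?_, ?_⟩
  · apply Subtype.ext
    rw [perm_coe]
    funext i
    rw [permMap_apply]
    show uv d (σ.symm i) = uv none i
    simp only [uv, Equiv.symm_apply_eq, h1]
  · apply Subtype.ext
    rw [perm_coe]
    funext i
    rw [permMap_apply, hx]
    show vA d j (σ.symm i) = vA none (some 0) i
    simp only [vA, Equiv.symm_apply_eq, h1, h2]

theorem std_of_four {d d' : GolayPt} {x y : leechLattice} (h : Good d x)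
    (hr : Rel (U d) x (U d') y) (h4 : (y : GolayPt → ℤ) d' = 4) : Rel (U d) x (U none) X0 := by
  obtain ⟨j, hj, hy⟩ := A_of_four (h.of_rel hr) h4
  exact hr.trans (std_of_A hj hy)

theorem exists_erase_two {O : Finset GolayPt} (s : Finset GolayPt) (h : s.card + 2 ≤ O.card) :
    ∃ b c, b ≠ c ∧ b ∈ O ∧ c ∈ O ∧ b ∉ s ∧ c ∉ s := by
  have h1 : 1 < (O \ s).card := by
    have := Finset.le_card_sdiff s O
    omega
  obtain ⟨b, hb, c, hc, hbc⟩ := Finset.one_lt_card.1 h1
  rw [Finset.mem_sdiff] at hb hc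
  exact ⟨b, c, hbc, hb.1, hc.1, hb.2, hc.2⟩

/-- family B reduces to family A -/
theorem std_of_B {d : GolayPt} {x : leechLattice} (h : Good d x)
    (h2 : (x : GolayPt → ℤ) d = 2) : Rel (U d) x (U none) X0 := by
  obtain ⟨O, hO, N, hN, hd, hN2, hx⟩ := B_of_two h h2
  obtain ⟨p, q, hpq, rfl⟩ := Finset.card_eq_two.1 hN2
  have hpO := Finset.mem_erase.1 (hN (Finset.mem_insert_self p {q}))
  have hqO := Finset.mem_erase.1 (hN (Finset.mem_insert_of_mem (Finset.mem_singleton_self q)))
  obtain ⟨b, c, hbc, hb, hc, hbs, hcs⟩ := exists_erase_two (O := O) {d, p, q} (by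
    have h1 : ({d, p, q} : Finset GolayPt).card ≤ 3 := Finset.card_le_three
    have h2 : O.card = 8 := hO.2
    omega)
  simp only [Finset.mem_insert, Finset.mem_singleton, not_or] at hbs hcs
  have hA : ({p, b, c} : Finset GolayPt).card = 3 := Finset.card_eq_three.2
    ⟨p, b, c, fun h => hbs.2.1 h.symm, fun h => hcs.2.1 h.symm, hbc, rfl⟩
  have hdA : d ∉ ({p, b, c} : Finset GolayPt) := by
    simp only [Finset.mem_insert, Finset.mem_singleton, not_or]
    exact ⟨fun h => hpO.1 h.symm, fun h => hbs.1 h.symm, fun h => hcs.1 h.symm⟩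
  have hqA : q ∉ ({p, b, c} : Finset GolayPt) := by
    simp only [Finset.mem_insert, Finset.mem_singleton, not_or]
    exact ⟨fun h => hpq h.symm, fun h => hbs.2.2 h.symm, fun h => hcs.2.2 h.symm⟩
  obtain ⟨S, hS, hT⟩ := exists_sextet (insert d {p, b, c})
    (by rw [Finset.card_insert_of_notMem hdA, hA])
  obtain ⟨R, hR, hqR⟩ := sextet_exists hS q
  have hRT : R ≠ insert d {p, b, c} := by
    rintro rfl
    rcases Finset.mem_insert.1 hqR with h | h
    · exact hqO.1 h
    · exact hqA h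
  obtain ⟨y, hy, hy4⟩ := move hA hdA hqA hqO.1 hS hT hR hqR x
  refine std_of_four h hy ?_
  have hTO : insert d {p, b, c} ⊆ O := by
    intro i hi
    simp only [Finset.mem_insert, Finset.mem_singleton] at hi
    rcases hi with rfl | rfl | rfl | rfl
    · exact hd
    · exact hpO.2
    · exact hb
    · exact hc
  have hRO : R ∪ insert d {p, b, c} = O := by
    apply Cfsg.Agent.SporadicA.GolayBase.octad_unique (hS.2.2 R hR _ hT hRT) hO
    have h5 : insert q (insert d {p, b, c}) ⊆ (R ∪ insert d {p, b, c}) ∩ O := by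
      intro i hi
      rw [Finset.mem_inter, Finset.mem_union]
      rcases Finset.mem_insert.1 hi with h | h
      · rw [h]; exact ⟨Or.inl hqR, hqO.2⟩
      · exact ⟨Or.inr h, hTO h⟩
    have h6 : (insert q (insert d ({p, b, c} : Finset GolayPt))).card = 5 := by
      rw [Finset.card_insert_of_notMem, Finset.card_insert_of_notMem hdA, hA]
      rw [Finset.mem_insert, not_or]
      exact ⟨hqO.1, hqA⟩
    rw [← h6]
    exact Finset.card_le_card h5
  have hdisj := sextet_disjoint hS hR hT hRT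
  have hsR : ∑ i ∈ R, (x : GolayPt → ℤ) i = 4 := by
    have h1 : ∑ i ∈ R, (x : GolayPt → ℤ) i + ∑ i ∈ insert d {p, b, c}, (x : GolayPt → ℤ) i =
        ∑ i ∈ O, (x : GolayPt → ℤ) i := by
      rw [← Finset.sum_union hdisj, hRO]
    have h2 : ∑ i ∈ O, (x : GolayPt → ℤ) i = 8 := by
      have h7 : ∀ i ∈ O, (x : GolayPt → ℤ) i = 2 + (if i ∈ ({p, q} : Finset GolayPt) then -4 else 0) := by
        intro i hi
        rw [hx]
        simp only [vB, hi, if_true]
        split_ifs <;> norm_num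
      rw [Finset.sum_congr rfl h7, Finset.sum_add_distrib, Finset.sum_const, Finset.sum_ite_mem,
        show O ∩ {p, q} = ({p, q} : Finset GolayPt) from Finset.inter_eq_right.2
          (fun i hi => Finset.mem_of_mem_erase (hN hi)), Finset.sum_const, hN2, hO.2]
      norm_num
    have h3 : ∑ i ∈ insert d {p, b, c}, (x : GolayPt → ℤ) i = 4 := by
      rw [Finset.sum_insert hdA, Finset.sum_insert, Finset.sum_pair hbc, hx]
      · have e1 : vB O {p, q} d = 2 := vB_at hN hd
        have e2 : vB O {p, q} p = -2 := by simp [vB]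
        have e3 : vB O {p, q} b = 2 := by simp [vB, hbs.2.1, hbs.2.2, hb]
        have e4 : vB O {p, q} c = 2 := by simp [vB, hcs.2.1, hcs.2.2, hc]
        rw [e1, e2, e3, e4]; norm_num
      · simp only [Finset.mem_insert, Finset.mem_singleton, not_or]
        exact ⟨fun h => hbs.2.1 h.symm, fun h => hcs.2.1 h.symm⟩
    rw [h2, h3] at h1
    linarith
  have hsA : ∑ i ∈ {p, b, c}, (x : GolayPt → ℤ) i = 2 := by
    rw [Finset.sum_insert, Finset.sum_pair hbc, hx]
    · have e2 : vB O {p, q} p = -2 := by simp [vB]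
      have e3 : vB O {p, q} b = 2 := by simp [vB, hbs.2.1, hbs.2.2, hb]
      have e4 : vB O {p, q} c = 2 := by simp [vB, hcs.2.1, hcs.2.2, hc]
      rw [e2, e3, e4]; norm_num
    · simp only [Finset.mem_insert, Finset.mem_singleton, not_or]
      exact ⟨fun h => hbs.2.1 h.symm, fun h => hcs.2.1 h.symm⟩
  have hxq : (x : GolayPt → ℤ) q = -2 := by rw [hx]; simp [vB]
  rw [hsR, hsA, hxq, h2] at hy4
  linarith

/-- family D reduces to family A -/
theorem std_of_D {d : GolayPt} {x : leechLattice} (h : Good d x) {D : Finset GolayPt}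
    (hD : D ∈ dodecads) (hd : d ∉ D) (hx : (x : GolayPt → ℤ) = vD d D) :
    Rel (U d) x (U none) X0 := by
  have hD12 : D.card = 12 := hD.2
  obtain ⟨A, hAD, hA⟩ := Finset.exists_subset_card_eq (show 3 ≤ D.card by omega)
  have hdA : d ∉ A := fun h => hd (hAD h)
  obtain ⟨S, hS, hT⟩ := exists_sextet (insert d A) (by rw [Finset.card_insert_of_notMem hdA, hA])
  have hC : Dᶜ ∈ Words := compl_mem hD.1
  have hCT : Dᶜ ∩ insert d A = {d} := by
    ext i
    rw [Finset.mem_inter, Finset.mem_compl, Finset.mem_insert, Finset.mem_singleton]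
    constructor
    · rintro ⟨h1, h2 | h2⟩
      · exact h2
      · exact absurd (hAD h2) h1
    · rintro rfl; exact ⟨hd, Or.inl rfl⟩
  have hCc : (Dᶜ).card = 12 := by rw [Finset.card_compl, hD12, Code.card_golayPt]
  obtain ⟨R, hR, hRT, hR1⟩ := exists_R hS hT hC (by rw [hCT]; rfl)
    (by rw [hCT, hCc, Finset.card_singleton]; norm_num)
  obtain ⟨d', hd'⟩ := Finset.card_eq_one.1 hR1
  have hd'm : d' ∈ Dᶜ ∩ R := by rw [hd']; exact Finset.mem_singleton_self _
  rw [Finset.mem_inter, Finset.mem_compl] at hd'm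
  have hdd : d' ≠ d := by
    rintro rfl
    exact hRT (sextet_unique hS hR hT hd'm.2 (Finset.mem_insert_self _ _))
  have hd'A : d' ∉ A := fun h => hd'm.1 (hAD h)
  obtain ⟨y, hy, hy4⟩ := move hA hdA hd'A hdd hS hT hR hd'm.2 x
  refine std_of_four h hy ?_
  have hsA : ∑ i ∈ A, (x : GolayPt → ℤ) i = 3 := by
    rw [Finset.sum_congr rfl (g := fun _ => (1 : ℤ)), Finset.sum_const, hA]
    · rfl
    · intro i hi
      have : i ≠ d := fun h => hdA (h ▸ hi)
      rw [hx]; simp [vD, this, hAD hi]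
  have hdR : d ∉ R := fun hdR =>
    hRT (sextet_unique hS hR hT hdR (Finset.mem_insert_self _ _))
  have hsR : ∑ i ∈ R, (x : GolayPt → ℤ) i = 2 := by
    have h1 : ∀ i ∈ R, (x : GolayPt → ℤ) i = 1 + (if i = d' then -2 else 0) := by
      intro i hi
      have hid : i ≠ d := fun h => hdR (h ▸ hi)
      rw [hx]
      simp only [vD, hid, if_false]
      by_cases hiD : i ∈ D
      · have : i ≠ d' := fun h => hd'm.1 (h ▸ hiD)
        simp [hiD, this]
      · have : i ∈ Dᶜ ∩ R := Finset.mem_inter.2 ⟨Finset.mem_compl.2 hiD, hi⟩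
        rw [hd', Finset.mem_singleton] at this
        simp [this, hd'm.1]
    rw [Finset.sum_congr rfl h1, Finset.sum_add_distrib, Finset.sum_const, hS.2.1 R hR,
      Finset.sum_ite_eq' R d' (fun _ => (-2 : ℤ)), if_pos hd'm.2]
    norm_num
  have e1 : (x : GolayPt → ℤ) d = 3 := by rw [hx]; simp [vD]
  have e2 : (x : GolayPt → ℤ) d' = -1 := by rw [hx]; simp [vD, hdd, hd'm.1]
  rw [hsR, hsA, e1, e2] at hy4
  linarith

/-- family C reduces to family B -/
theorem std_of_C {d : GolayPt} {x : leechLattice} (h : Good d x) {O : Finset GolayPt}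
    (hO : O ∈ octads) (hd : d ∉ O) (hx : (x : GolayPt → ℤ) = vB O ∅) :
    Rel (U d) x (U none) X0 := by
  have hO8 : O.card = 8 := hO.2
  obtain ⟨A, hAO, hA⟩ := Finset.exists_subset_card_eq (show 3 ≤ O.card by omega)
  have hdA : d ∉ A := fun h => hd (hAO h)
  obtain ⟨S, hS, hT⟩ := exists_sextet (insert d A) (by rw [Finset.card_insert_of_notMem hdA, hA])
  have hCT : O ∩ insert d A = A := by
    ext i
    rw [Finset.mem_inter, Finset.mem_insert]
    constructor
    · rintro ⟨h1, h2 | h2⟩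
      · rw [h2] at h1; exact absurd h1 hd
      · exact h2
    · intro h; exact ⟨hAO h, Or.inr h⟩
  obtain ⟨R, hR, hRT, hR1⟩ := exists_R hS hT hO.1 (by rw [hCT, hA])
    (by rw [hCT, hO8, hA]; norm_num)
  obtain ⟨r, hr⟩ := Finset.card_eq_one.1 hR1
  obtain ⟨d', hd'R, hd'O⟩ : ∃ d' ∈ R, d' ∉ O := by
    by_contra hcon
    push Not at hcon
    have : O ∩ R = R := Finset.inter_eq_right.2 hcon
    rw [this, hS.2.1 R hR] at hR1
    omega
  have hdd : d' ≠ d := by
    rintro rfl
    exact hRT (sextet_unique hS hR hT hd'R (Finset.mem_insert_self _ _))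
  have hd'A : d' ∉ A := fun h => hd'O (hAO h)
  obtain ⟨y, hy, hy4⟩ := move hA hdA hd'A hdd hS hT hR hd'R x
  refine hy.trans (std_of_B (h.of_rel hy) ?_)
  have hsA : ∑ i ∈ A, (x : GolayPt → ℤ) i = 6 := by
    rw [Finset.sum_congr rfl (g := fun _ => (2 : ℤ)), Finset.sum_const, hA]
    · rfl
    · intro i hi
      rw [hx]; simp [vB, hAO hi]
  have hsR : ∑ i ∈ R, (x : GolayPt → ℤ) i = 2 := by
    have h1 : ∀ i ∈ R, (x : GolayPt → ℤ) i = if i ∈ O then 2 else 0 := by
      intro i _
      rw [hx]; simp [vB]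
    rw [Finset.sum_congr rfl h1, Finset.sum_ite_mem, Finset.inter_comm, hr, Finset.sum_singleton]
  have e1 : (x : GolayPt → ℤ) d = 0 := by rw [hx]; simp [vB, hd]
  have e2 : (x : GolayPt → ℤ) d' = 0 := by rw [hx]; simp [vB, hd'O]
  rw [hsR, hsA, e1, e2] at hy4
  linarith

/-- family E reduces to family B -/
theorem std_of_E {d : GolayPt} {x : leechLattice} (h : Good d x) {O : Finset GolayPt}
    (hO : O ∈ octads) (hd : d ∉ O) {j : GolayPt} (hj : j ∈ O) (hx : (x : GolayPt → ℤ) = vE O j) :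
    Rel (U d) x (U none) X0 := by
  have hO8 : O.card = 8 := hO.2
  have hOc : (Oᶜ).card = 16 := by rw [Finset.card_compl, hO8, Code.card_golayPt]
  obtain ⟨b, c, hbc, hb, hc, hbs, hcs⟩ := exists_erase_two (O := Oᶜ) {d} (by
    rw [hOc, Finset.card_singleton]; norm_num)
  rw [Finset.mem_compl] at hb hc
  rw [Finset.mem_singleton] at hbs hcs
  have hjb : j ≠ b := fun h => hb (h ▸ hj)
  have hjc : j ≠ c := fun h => hc (h ▸ hj)
  have hjd : j ≠ d := fun h => hd (h ▸ hj)
  have hA : ({j, b, c} : Finset GolayPt).card = 3 := Finset.card_eq_three.2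
    ⟨j, b, c, hjb, hjc, hbc, rfl⟩
  have hdA : d ∉ ({j, b, c} : Finset GolayPt) := by
    simp only [Finset.mem_insert, Finset.mem_singleton, not_or]
    exact ⟨hjd.symm, fun h => hbs h.symm, fun h => hcs h.symm⟩
  obtain ⟨S, hS, hT⟩ := exists_sextet (insert d {j, b, c})
    (by rw [Finset.card_insert_of_notMem hdA, hA])
  have hCT : O ∩ insert d {j, b, c} = {j} := by
    ext i
    simp only [Finset.mem_inter, Finset.mem_insert, Finset.mem_singleton]
    constructor
    · rintro ⟨h1, rfl | rfl | rfl | rfl⟩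
      · exact absurd h1 hd
      · rfl
      · exact absurd h1 hb
      · exact absurd h1 hc
    · rintro rfl; exact ⟨hj, Or.inr (Or.inl rfl)⟩
  obtain ⟨R, hR, hRT, hR1⟩ := exists_R hS hT hO.1 (by rw [hCT]; rfl)
    (by rw [hCT, hO8, Finset.card_singleton]; norm_num)
  obtain ⟨r, hr⟩ := Finset.card_eq_one.1 hR1
  obtain ⟨d', hd'R, hd'O⟩ : ∃ d' ∈ R, d' ∉ O := by
    by_contra hcon
    push Not at hcon
    have : O ∩ R = R := Finset.inter_eq_right.2 hcon
    rw [this, hS.2.1 R hR] at hR1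
    omega
  have hRd : ∀ i ∈ R, i ∉ insert d ({j, b, c} : Finset GolayPt) := fun i hi hi' =>
    hRT (sextet_unique hS hR hT hi hi')
  have hd'T := hRd d' hd'R
  rw [Finset.mem_insert, not_or] at hd'T
  obtain ⟨y, hy, hy4⟩ := move hA hdA hd'T.2 hd'T.1 hS hT hR hd'R x
  refine hy.trans (std_of_B (h.of_rel hy) ?_)
  have hjR : j ∉ R := fun h' => hRd j h' (by simp)
  have hsA : ∑ i ∈ {j, b, c}, (x : GolayPt → ℤ) i = 5 := by
    rw [Finset.sum_insert, Finset.sum_pair hbc, hx]
    · have e2 : vE O j j = 3 := by simp [vE]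
      have e3 : vE O j b = 1 := vE_at hb hj
      have e4 : vE O j c = 1 := vE_at hc hj
      rw [e2, e3, e4]; norm_num
    · simp only [Finset.mem_insert, Finset.mem_singleton, not_or]
      exact ⟨hjb, hjc⟩
  have hsR : ∑ i ∈ R, (x : GolayPt → ℤ) i = 2 := by
    have h1 : ∀ i ∈ R, (x : GolayPt → ℤ) i = 1 + if i ∈ O then -2 else 0 := by
      intro i hi
      have : i ≠ j := fun h => hjR (h ▸ hi)
      rw [hx]; simp only [vE, this, if_false]
      split_ifs <;> norm_num
    rw [Finset.sum_congr rfl h1, Finset.sum_add_distrib, Finset.sum_const, hS.2.1 R hR,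
      Finset.sum_ite_mem, Finset.inter_comm, hr, Finset.sum_singleton]
    norm_num
  have e1 : (x : GolayPt → ℤ) d = 1 := by rw [hx]; exact vE_at hd hj
  have e2 : (x : GolayPt → ℤ) d' = 1 := by rw [hx]; exact vE_at hd'O hj
  rw [hsR, hsA, e1, e2] at hy4
  linarith

/-- Every pair (u_d, x), x minimal with inner product 16 with u_d, is conjugate under Co0 to the
standard one. -/
theorem rel_std {d : GolayPt} {x : leechLattice} (h : Good d x) : Rel (U d) x (U none) X0 := by
  rcases h.cases with ⟨j, hj, hx⟩ | ⟨O, hO, N, hN, hd, hN2, hx⟩ | ⟨O, hO, hd, hx⟩ |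
    ⟨D, hD, hd, hx⟩ | ⟨O, hO, hd, j, hj, hx⟩
  · exact std_of_A hj hx
  · exact std_of_B h (by rw [hx]; exact vB_at hN hd)
  · exact std_of_C h hO hd hx
  · exact std_of_D h hD hd hx
  · exact std_of_E h hO hd hj hx

end Cfsg.Agent.Leech.Dot16Trans
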