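import Cfsg.Agent.SporadicA.GolayBase

/-!
# Packed integer vectors on the 24 points

A vector `x : GolayPt → ℤ` with small coordinates is packed into one natural number: 13 bits per
coordinate, offset 16, the coordinate of index `i` (`GolayBase.idx`) at bits `13 i .. 13 i + 12`.
A 24 × 24 integer matrix with small entries is packed as the list of its 24 packed columns.
`stepOK cols sc X Y` is a kernel-fast test implying `8 • vec Y = ∑ q, vec X q • (column q)`.
-/

set_option autoImplicit false

namespace Cfsg.Agent.Leech.Enc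

open Cfsg Cfsg.Agent.SporadicA.GolayBase

/-- The `i`-th digit in base `2 ^ 13`. -/
def dig (X i : ℕ) : ℕ := Nat.mod (Nat.div X (Nat.pow 8192 i)) 8192

theorem dig_eq (X i : ℕ) : dig X i = X / 8192 ^ i % 8192 := rfl

theorem dig_lt (X i : ℕ) : dig X i < 8192 := Nat.mod_lt _ (by norm_num)

/-- The vector of a packed number. -/
def vec (X : ℕ) : GolayPt → ℤ := fun p => (dig X (idx p) : ℤ) - 16

theorem vec_apply (X : ℕ) (p : GolayPt) : vec X p = (dig X (idx p) : ℤ) - 16 := rfl

/-- The value in base `2 ^ 13` of a vector. -/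
def E : (GolayPt → ℤ) →ₗ[ℤ] ℤ where
  toFun x := ∑ p, x p * 8192 ^ idx p
  map_add' x y := by simp only [Pi.add_apply, add_mul, Finset.sum_add_distrib]
  map_smul' c x := by
    simp only [Pi.smul_apply, smul_eq_mul, RingHom.id_apply, Finset.mul_sum, mul_assoc]

theorem E_apply (x : GolayPt → ℤ) : E x = ∑ p, x p * 8192 ^ idx p := rfl

theorem sum_idx {M : Type*} [AddCommMonoid M] (f : ℕ → M) :
    ∑ p : GolayPt, f (idx p) = ∑ i ∈ Finset.range 24, f i := by
  rw [sum_pt]
  apply Finset.sum_congr rfl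
  intro i hi
  rw [idx_pt (Finset.mem_range.1 hi)]

theorem dig_succ (X i : ℕ) : dig X (i + 1) = dig (X / 8192) i := by
  rw [dig_eq, dig_eq, Nat.div_div_eq_div_mul, pow_succ']

theorem dig_zero (X : ℕ) : dig X 0 = X % 8192 := by
  rw [dig_eq, pow_zero, Nat.div_one]

theorem sum_dig (n X : ℕ) (h : X < 8192 ^ n) :
    ∑ i ∈ Finset.range n, dig X i * 8192 ^ i = X := by
  induction n generalizing X with
  | zero => simp at h; simp [h]
  | succ n ih =>
    rw [Finset.sum_range_succ']
    have h1 : X / 8192 < 8192 ^ n := by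
      rw [Nat.div_lt_iff_lt_mul (by norm_num)]
      rwa [pow_succ] at h
    have h2 := ih (X / 8192) h1
    have h4 : ∑ i ∈ Finset.range n, dig X (i + 1) * 8192 ^ (i + 1)
        = 8192 * ∑ i ∈ Finset.range n, dig (X / 8192) i * 8192 ^ i := by
      rw [Finset.mul_sum]
      apply Finset.sum_congr rfl
      intro i _
      rw [dig_succ, pow_succ]
      ring
    rw [h4, h2, dig_zero, pow_zero, mul_one]
    omega

theorem mod_8191 (n X : ℕ) (h : X < 8192 ^ n)
    (hs : ∑ i ∈ Finset.range n, dig X i < 8191) :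
    X % 8191 = ∑ i ∈ Finset.range n, dig X i := by
  conv_lhs => rw [← sum_dig n X h]
  rw [Finset.sum_nat_mod]
  have h1 : ∀ i, dig X i * 8192 ^ i % 8191 = dig X i % 8191 := by
    intro i
    rw [Nat.mul_mod, Nat.pow_mod]
    norm_num
  simp only [h1]
  rw [← Finset.sum_nat_mod, Nat.mod_eq_of_lt hs]

/-- The packed number all of whose 24 digits are `1`. -/
def ONE : ℕ := Nat.div (Nat.pow 8192 24 - 1) 8191

theorem sum_pow : ∑ i ∈ Finset.range 24, 8192 ^ i = ONE := by decide +kernel

theorem E_const (c : ℤ) : E (fun _ => c) = c * ONE := by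
  rw [E_apply, ← sum_pow, ← Finset.mul_sum, sum_idx (fun i => (8192 : ℤ) ^ i)]
  push_cast
  rfl

/-- All 24 digits are below 32, and there are no further digits. -/
def valid (X : ℕ) : Bool := Nat.beq (Nat.land X (Nat.mul 31 ONE)) X

theorem dig_31ONE (i : ℕ) (hi : i < 24) : dig (31 * ONE) i = 31 := by
  revert i; decide +kernel

theorem valid_spec {X : ℕ} (h : valid X = true) :
    X < 8192 ^ 24 ∧ ∀ i, i < 24 → dig X i < 32 := by
  have h1 : X &&& (31 * ONE) = X := Nat.eq_of_beq_eq_true h
  constructor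
  · rw [← h1]
    refine lt_of_le_of_lt Nat.and_le_right ?_
    decide +kernel
  · intro i hi
    have h2 : dig X i = dig X i &&& dig (31 * ONE) i := by
      conv_lhs => rw [← h1]
      rw [dig_eq, dig_eq, dig_eq, show (8192 : ℕ) = 2 ^ 13 by norm_num, ← pow_mul,
        ← Nat.shiftRight_eq_div_pow, ← Nat.shiftRight_eq_div_pow, ← Nat.shiftRight_eq_div_pow,
        Nat.shiftRight_and_distrib, Nat.and_mod_two_pow]
    rw [h2, dig_31ONE i hi]
    exact lt_of_le_of_lt Nat.and_le_right (by norm_num)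

theorem E_vec {X : ℕ} (h : valid X = true) : E (vec X) = X - 16 * ONE := by
  have h1 : vec X = (fun p => (dig X (idx p) : ℤ)) - (fun _ => 16) := rfl
  rw [h1, map_sub, E_const, E_apply]
  have h2 : ∑ p : GolayPt, ((dig X (idx p) : ℕ) : ℤ) * 8192 ^ idx p
      = ∑ i ∈ Finset.range 24, ((dig X i : ℕ) : ℤ) * 8192 ^ i :=
    sum_idx (fun i => ((dig X i : ℕ) : ℤ) * 8192 ^ i)
  rw [h2]
  have h3 := sum_dig 24 X (valid_spec h).1
  have h4 : ((∑ i ∈ Finset.range 24, dig X i * 8192 ^ i : ℕ) : ℤ) = X := by rw [h3]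
  push_cast at h4
  rw [h4]

theorem vec_bound {X : ℕ} (h : valid X = true) (p : GolayPt) : |vec X p| ≤ 16 := by
  have h1 := (valid_spec h).2 (idx p) (idx_lt p)
  rw [vec_apply, abs_le]
  constructor <;> omega

/-- A vector with coordinates below the base in absolute value is determined by its value. -/
theorem E_inj_aux (n : ℕ) (z : ℕ → ℤ) (hz : ∀ i, i < n → |z i| < 8192)
    (h : ∑ i ∈ Finset.range n, z i * 8192 ^ i = 0) : ∀ i, i < n → z i = 0 := by
  induction n generalizing z with
  | zero => intro i hi; omega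
  | succ n ih =>
    rw [Finset.sum_range_succ'] at h
    have h4 : ∑ i ∈ Finset.range n, z (i + 1) * 8192 ^ (i + 1)
        = 8192 * ∑ i ∈ Finset.range n, z (i + 1) * 8192 ^ i := by
      rw [Finset.mul_sum]
      apply Finset.sum_congr rfl
      intro i _
      rw [pow_succ]
      ring
    rw [h4, pow_zero, mul_one] at h
    have h0 : |z 0| < 8192 := hz 0 (by omega)
    rw [abs_lt] at h0
    have hS : ∑ i ∈ Finset.range n, z (i + 1) * 8192 ^ i = 0 := by omega
    have hz0 : z 0 = 0 := by omega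
    have := ih (fun i => z (i + 1)) (fun i hi => hz (i + 1) (by omega)) hS
    intro i hi
    cases i with
    | zero => exact hz0
    | succ i => exact this i (by omega)

theorem E_inj {z : GolayPt → ℤ} (hz : ∀ p, |z p| < 8192) (h : E z = 0) : z = 0 := by
  have h1 := E_inj_aux 24 (fun i => z (pt i)) (fun i _ => hz _) (by
    rw [E_apply, sum_pt] at h
    rw [← h]
    apply Finset.sum_congr rfl
    intro i hi
    rw [idx_pt (Finset.mem_range.1 hi)])
  funext p
  have := h1 (idx p) (idx_lt p)
  rw [Pi.zero_apply]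
  simpa only [pt_idx] using this

/-- `∑ j, (digit j of X) * (j-th column)`. -/
def mv : List ℕ → ℕ → ℕ
  | [], _ => 0
  | C :: Cs, X => Nat.add (Nat.mul (Nat.mod X 8192) C) (mv Cs (Nat.div X 8192))

theorem mv_eq (Cs : List ℕ) (X : ℕ) :
    mv Cs X = ∑ i ∈ Finset.range Cs.length, dig X i * Cs.getD i 0 := by
  induction Cs generalizing X with
  | nil => rfl
  | cons C Cs ih =>
    have : mv (C :: Cs) X = (X % 8192) * C + mv Cs (X / 8192) := rfl
    rw [this, ih, List.length_cons, Finset.sum_range_succ', add_comm]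
    simp only [List.getD_cons_succ, List.getD_cons_zero, dig_succ, dig_zero]

/-- The test: `8 • vec Y = ∑ q, vec X q • vec (column q)`; `sc` is the sum of the columns. -/
def stepOK (cols : List ℕ) (sc X Y : ℕ) : Bool :=
  Nat.beq (Nat.add (mv cols X) (Nat.mul 6272 ONE))
    (Nat.add (Nat.mul 8 Y) (Nat.mul 16 (Nat.add sc (Nat.mul ONE (Nat.mod X 8191)))))

/-- A list of 24 valid columns with sum `sc`. -/
def validMat (cols : List ℕ) (sc : ℕ) : Bool :=
  Nat.beq cols.length 24 && cols.all valid && Nat.beq cols.sum sc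

/-- The column of a packed matrix. -/
def col (cols : List ℕ) (q : GolayPt) : GolayPt → ℤ := vec (cols.getD (idx q) 0)

theorem valid_col {cols : List ℕ} {sc : ℕ} (h : validMat cols sc = true) (q : GolayPt) :
    valid (cols.getD (idx q) 0) = true := by
  unfold validMat at h
  rw [Bool.and_eq_true, Bool.and_eq_true, List.all_eq_true] at h
  have hl : cols.length = 24 := Nat.eq_of_beq_eq_true h.1.1
  have hq : idx q < cols.length := by rw [hl]; exact idx_lt q
  rw [List.getD_eq_getElem _ _ hq]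
  exact h.1.2 _ (List.getElem_mem hq)

theorem col_eq (cols : List ℕ) (q : GolayPt) : col cols q = vec (cols.getD (idx q) 0) := rfl

theorem col_bound {cols : List ℕ} {sc : ℕ} (h : validMat cols sc = true) (q p : GolayPt) :
    |col cols q p| ≤ 16 := by
  rw [col_eq]
  exact vec_bound (valid_col h q) p

theorem E_col {cols : List ℕ} {sc : ℕ} (h : validMat cols sc = true) (q : GolayPt) :
    E (col cols q) = (cols.getD (idx q) 0 : ℕ) - 16 * ONE := by
  rw [col_eq]
  exact E_vec (valid_col h q)

theorem sum_range_getD (l : List ℕ) : ∑ i ∈ Finset.range l.length, l.getD i 0 = l.sum := by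
  induction l with
  | nil => rfl
  | cons a l ih =>
    rw [List.length_cons, Finset.sum_range_succ', List.sum_cons, ← ih, add_comm]
    simp only [List.getD_cons_succ, List.getD_cons_zero]

theorem abs_sum_le (f : GolayPt → ℤ) (c : ℤ) (h : ∀ q, |f q| ≤ c) : |∑ q, f q| ≤ 24 * c := by
  refine le_trans (Finset.abs_sum_le_sum_abs _ _) ?_
  refine le_trans (Finset.sum_le_card_nsmul _ _ c fun q _ => h q) ?_
  rw [Finset.card_univ, show Fintype.card GolayPt = 24 from rfl, nsmul_eq_mul]
  norm_num

theorem abs_mul_le {a b : ℤ} (ha : |a| ≤ 16) (hb : |b| ≤ 16) : |a * b| ≤ 256 := by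
  rw [abs_mul]
  have a3 := abs_nonneg a
  have a4 := abs_nonneg b
  nlinarith

theorem step_sound {cols : List ℕ} {sc X Y : ℕ} (hm : validMat cols sc = true)
    (hX : valid X = true) (hY : valid Y = true) (h : stepOK cols sc X Y = true) :
    (8 : ℤ) • vec Y = ∑ q, vec X q • col cols q := by
  have hm' := hm
  unfold validMat at hm'
  rw [Bool.and_eq_true, Bool.and_eq_true] at hm'
  have hl : cols.length = 24 := Nat.eq_of_beq_eq_true hm'.1.1
  have hsc : cols.sum = sc := Nat.eq_of_beq_eq_true hm'.2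
  have h1 : mv cols X + 6272 * ONE = 8 * Y + 16 * (sc + ONE * (X % 8191)) :=
    Nat.eq_of_beq_eq_true h
  have hXd := valid_spec hX
  have hs : ∑ i ∈ Finset.range 24, dig X i < 8191 := by
    calc ∑ i ∈ Finset.range 24, dig X i ≤ ∑ i ∈ Finset.range 24, 31 :=
          Finset.sum_le_sum fun i hi => by
            have := hXd.2 i (Finset.mem_range.1 hi); omega
      _ < 8191 := by simp
  rw [mod_8191 24 X hXd.1 hs, mv_eq, hl] at h1
  rw [← sub_eq_zero]
  apply E_inj
  · intro p
    have e1 : ((8 : ℤ) • vec Y - ∑ q, vec X q • col cols q) p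
        = 8 * vec Y p - ∑ q, vec X q * col cols q p := by
      simp only [Pi.sub_apply, Pi.smul_apply, smul_eq_mul, Finset.sum_apply]
    rw [e1]
    have e2 := abs_sum_le (fun q => vec X q * col cols q p) 256
      (fun q => abs_mul_le (vec_bound hX q) (col_bound hm q p))
    have e3 := vec_bound hY p
    rw [abs_lt]
    rw [abs_le] at e2 e3
    constructor <;> omega
  · rw [map_sub, map_smul, map_sum]
    simp only [map_smul]
    simp only [E_col hm]
    rw [E_vec hY]
    have e2 : ∑ q : GolayPt, vec X q • (((cols.getD (idx q) 0 : ℕ) : ℤ) - 16 * ONE)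
        = ∑ i ∈ Finset.range 24, ((dig X i : ℤ) - 16) * (((cols.getD i 0 : ℕ) : ℤ) - 16 * ONE) := by
      rw [← sum_idx (fun i => ((dig X i : ℤ) - 16) * (((cols.getD i 0 : ℕ) : ℤ) - 16 * ONE))]
      rfl
    rw [e2]
    have e3 : ∑ i ∈ Finset.range 24, ((dig X i : ℤ) - 16) * (((cols.getD i 0 : ℕ) : ℤ) - 16 * ONE)
        = ∑ i ∈ Finset.range 24, (dig X i : ℤ) * ((cols.getD i 0 : ℕ) : ℤ)
          - 16 * ∑ i ∈ Finset.range 24, ((cols.getD i 0 : ℕ) : ℤ)
          - 16 * ONE * ∑ i ∈ Finset.range 24, (dig X i : ℤ) + 6144 * ONE := by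
      rw [Finset.mul_sum, Finset.mul_sum, ← Finset.sum_sub_distrib, ← Finset.sum_sub_distrib]
      have e4 : (6144 : ℤ) * ONE = ∑ i ∈ Finset.range 24, (256 * (ONE : ℤ)) := by
        rw [Finset.sum_const, Finset.card_range]; simp; ring
      rw [e4, ← Finset.sum_add_distrib]
      apply Finset.sum_congr rfl
      intro i _
      ring
    rw [e3]
    have e5 : ∑ i ∈ Finset.range 24, cols.getD i 0 = sc := by
      rw [← hsc, ← sum_range_getD, hl]
    have e6 : ((∑ i ∈ Finset.range 24, cols.getD i 0 : ℕ) : ℤ) = sc := by rw [e5]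
    have e7 : (((∑ i ∈ Finset.range 24, dig X i * cols.getD i 0) + 6272 * ONE : ℕ) : ℤ)
        = ((8 * Y + 16 * (sc + ONE * ∑ i ∈ Finset.range 24, dig X i) : ℕ) : ℤ) := by rw [h1]
    push_cast at e6 e7 ⊢
    rw [e6, smul_eq_mul]
    linarith

end Cfsg.Agent.Leech.Enc
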