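import Cfsg.Agent.SporadicStructure.LeechBase
import Cfsg.Agent.SporadicStructure.GolayEven
import Cfsg.Agent.SporadicA.GolayBase
import Cfsg.Agent.SporadicA.M24Mem

/-!
Elementary facts on the group `Co0` and short vectors of the lattice, used for the frame
transitivity arguments (Conway groups, McL, HS).
-/

set_option autoImplicit false
open Cfsg

namespace Cfsg.Agent.Leech.FrameAux

open Cfsg.Agent.SporadicStructure.LeechBase Cfsg.Agent.SporadicStructure.GolayEven

/-! ### norms and inner products -/

theorem sqNorm_def (x : GolayPt → ℤ) : sqNorm x = ∑ i, x i ^ 2 := rfl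

theorem dotInt_def (x y : GolayPt → ℤ) : dotInt x y = ∑ i, x i * y i := rfl

theorem dot_self (x : GolayPt → ℤ) : dotInt x x = sqNorm x := by
  rw [sqNorm_def, dotInt_def]
  exact Finset.sum_congr rfl fun i _ => (sq (x i)).symm

theorem dot_comm (x y : GolayPt → ℤ) : dotInt x y = dotInt y x := by
  rw [dotInt_def, dotInt_def]
  exact Finset.sum_congr rfl fun i _ => mul_comm _ _

theorem dot_add_left (x y z : GolayPt → ℤ) : dotInt (x + y) z = dotInt x z + dotInt y z := by
  simp only [dotInt_def, Pi.add_apply, add_mul, Finset.sum_add_distrib]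

theorem dot_sub_left (x y z : GolayPt → ℤ) : dotInt (x - y) z = dotInt x z - dotInt y z := by
  simp only [dotInt_def, Pi.sub_apply, sub_mul, Finset.sum_sub_distrib]

theorem dot_neg_left (x z : GolayPt → ℤ) : dotInt (-x) z = -dotInt x z := by
  simp only [dotInt_def, Pi.neg_apply, neg_mul, Finset.sum_neg_distrib]

theorem dot_add_right (x y z : GolayPt → ℤ) : dotInt x (y + z) = dotInt x y + dotInt x z := by
  rw [dot_comm, dot_add_left, dot_comm y, dot_comm z]

theorem dot_sub_right (x y z : GolayPt → ℤ) : dotInt x (y - z) = dotInt x y - dotInt x z := by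
  rw [dot_comm, dot_sub_left, dot_comm y, dot_comm z]

theorem dot_single_right (x : GolayPt → ℤ) (i : GolayPt) (a : ℤ) :
    dotInt x (Pi.single i a) = x i * a := by
  rw [dotInt_def, Finset.sum_eq_single i]
  · rw [Pi.single_eq_same]
  · intro j _ hj
    rw [Pi.single_eq_of_ne hj, mul_zero]
  · intro h; exact absurd (Finset.mem_univ i) h

theorem sqNorm_add (x y : GolayPt → ℤ) :
    sqNorm (x + y) = sqNorm x + 2 * dotInt x y + sqNorm y := by
  rw [← dot_self, dot_add_left, dot_add_right, dot_add_right, dot_self, dot_self, dot_comm y x]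
  ring

theorem sqNorm_sub (x y : GolayPt → ℤ) :
    sqNorm (x - y) = sqNorm x - 2 * dotInt x y + sqNorm y := by
  rw [← dot_self, dot_sub_left, dot_sub_right, dot_sub_right, dot_self, dot_self, dot_comm y x]
  ring

/-! ### elements of `Co0` -/

theorem co0_add (g : Co0) (v w : leechLattice) : g • (v + w) = g • v + g • w := g.2.1 v w

theorem co0_sqNorm (g : Co0) (v : leechLattice) :
    sqNorm ((g • v : leechLattice) : GolayPt → ℤ) = sqNorm (v : GolayPt → ℤ) := g.2.2 v

/-- The additive map given by an element of `Co0`. -/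
def toHom (g : Co0) : leechLattice →+ leechLattice :=
  AddMonoidHom.mk' (fun v => g • v) (co0_add g)

theorem toHom_apply (g : Co0) (v : leechLattice) : toHom g v = g • v := rfl

theorem co0_sub (g : Co0) (v w : leechLattice) : g • (v - w) = g • v - g • w :=
  map_sub (toHom g) v w

theorem co0_neg (g : Co0) (v : leechLattice) : g • (-v) = -(g • v) :=
  map_neg (toHom g) v

theorem co0_dot (g : Co0) (v w : leechLattice) :
    dotInt ((g • v : leechLattice) : GolayPt → ℤ) ((g • w : leechLattice) : GolayPt → ℤ) =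
      dotInt (v : GolayPt → ℤ) (w : GolayPt → ℤ) := by
  have h1 := co0_sqNorm g (v + w)
  rw [co0_add, AddSubgroup.coe_add, AddSubgroup.coe_add, sqNorm_add, sqNorm_add, co0_sqNorm,
    co0_sqNorm] at h1
  linarith

theorem co0_ext {g h : Co0} (H : ∀ v : leechLattice,
    ((g • v : leechLattice) : GolayPt → ℤ) = ((h • v : leechLattice) : GolayPt → ℤ)) : g = h := by
  apply Subtype.ext
  apply Equiv.ext
  intro v
  exact Subtype.ext (H v)

/-- Constructor of elements of `Co0`. -/
theorem exists_co0 (f : (GolayPt → ℤ) → (GolayPt → ℤ)) (f' : (GolayPt → ℤ) → (GolayPt → ℤ))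
    (hadd : ∀ x y, f (x + y) = f x + f y) (hff' : ∀ x, f (f' x) = x) (hf'f : ∀ x, f' (f x) = x)
    (hf : ∀ x ∈ leechLattice, f x ∈ leechLattice) (hf' : ∀ x ∈ leechLattice, f' x ∈ leechLattice)
    (hn : ∀ x, sqNorm (f x) = sqNorm x) :
    ∃ g : Co0, ∀ v : leechLattice, ((g • v : leechLattice) : GolayPt → ℤ) = f v := by
  let e : Equiv.Perm leechLattice :=
    { toFun := fun v => ⟨f v, hf v v.2⟩
      invFun := fun v => ⟨f' v, hf' v v.2⟩
      left_inv := fun v => Subtype.ext (hf'f v)
      right_inv := fun v => Subtype.ext (hff' v) }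
  refine ⟨⟨e, ?_, ?_⟩, ?_⟩
  · intro v w
    exact Subtype.ext (hadd v w)
  · intro v
    exact hn v
  · intro v
    rfl

/-! ### coordinate permutations from `M24` -/

theorem perm_mem_leech (σ : Equiv.Perm GolayPt) (hσ : σ ∈ M24) (x : GolayPt → ℤ)
    (hx : x ∈ leechLattice) : (fun i => x (σ.symm i)) ∈ leechLattice := by
  rw [mem_leech_iff] at hx ⊢
  obtain ⟨m, z, hz, hs, h⟩ := hx
  refine ⟨m, fun i => z (σ.symm i), ?_, ?_, fun i => h _⟩
  · exact (SporadicA.M24Mem.mem_M24_iff σ).1 hσ (red z) hz
  · rw [Equiv.sum_comp σ.symm z]; exact hs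

theorem exists_co0_of_perm (σ : Equiv.Perm GolayPt) (hσ : σ ∈ M24) :
    ∃ g : Co0, ∀ (u : leechLattice) (i : GolayPt),
      ((g • u : leechLattice) : GolayPt → ℤ) i = (u : GolayPt → ℤ) (σ.symm i) := by
  obtain ⟨g, hg⟩ := exists_co0 (fun x i => x (σ.symm i)) (fun x i => x (σ i))
    (fun x y => rfl) (fun x => by funext i; simp) (fun x => by funext i; simp)
    (perm_mem_leech σ hσ) (fun x hx => by
      have := perm_mem_leech σ⁻¹ (inv_mem hσ) x hx
      exact this) (fun x => by
      rw [sqNorm_def, sqNorm_def]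
      exact Equiv.sum_comp σ.symm (fun i => x i ^ 2))
  exact ⟨g, fun u i => by rw [hg u]⟩

/-! ### sign changes on code words -/

theorem sign_mem_leech (w : GolayPt → ZMod 2) (hw : w ∈ golayCode) (x : GolayPt → ℤ)
    (hx : x ∈ leechLattice) : (fun i => if w i = 0 then x i else -x i) ∈ leechLattice := by
  rw [mem_leech_iff] at hx ⊢
  obtain ⟨m, z, hz, hs, h⟩ := hx
  refine ⟨m, fun i => if w i = 0 then z i else -m - z i, ?_, ?_, fun i => ?_⟩
  · have : red (fun i => if w i = 0 then z i else -m - z i) = red z + (m : ZMod 2) • w := by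
      funext i
      simp only [red_apply, Pi.add_apply, Pi.smul_apply, smul_eq_mul]
      rcases zmod2_cases (w i) with h0 | h1
      · rw [if_pos h0, h0, mul_zero, add_zero]
      · rw [if_neg (by rw [h1]; decide), h1, mul_one]
        push_cast
        rw [sub_eq_add_neg, CharTwo.neg_eq, CharTwo.neg_eq, add_comm]
    rw [this]
    exact Submodule.add_mem _ hz (Submodule.smul_mem _ _ hw)
  · have h1 : ∑ i, (if w i = 0 then z i else -m - z i) =
        ∑ i, z i - (m * (support₂ w).card + 2 * ∑ i ∈ support₂ w, z i) := by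
      have h2 : ∀ i, (if w i = 0 then z i else -m - z i) =
          z i - (if i ∈ support₂ w then m + 2 * z i else 0) := by
        intro i
        by_cases h0 : w i = 0
        · rw [if_pos h0, if_neg (by rw [mem_support₂]; exact not_not.2 h0), sub_zero]
        · rw [if_neg h0, if_pos (by rw [mem_support₂]; exact h0)]; ring
      rw [Finset.sum_congr rfl fun i _ => h2 i, Finset.sum_sub_distrib, Finset.sum_ite_mem,
        Finset.univ_inter, Finset.sum_add_distrib, Finset.sum_const, ← Finset.mul_sum,
        nsmul_eq_mul, mul_comm m]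
    have h4 : (4 : ℤ) ∣ (support₂ w).card := by exact_mod_cast four_dvd_card hw
    have h2 : (2 : ℤ) ∣ ∑ i ∈ support₂ w, z i := by
      have h5 := two_dvd_card_inter hw hz
      have h6 : (∑ i ∈ support₂ w, (z i : ZMod 2)) = ((support₂ w ∩ support₂ (red z)).card : ℕ) := by
        rw [Finset.card_eq_sum_ones, Nat.cast_sum]
        rw [← Finset.sum_subset (Finset.inter_subset_left : support₂ w ∩ support₂ (red z) ⊆ _)]
        · apply Finset.sum_congr rfl
          intro i hi
          rw [Finset.mem_inter, mem_support₂_iff_one, mem_support₂_iff_one] at hi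
          rw [Nat.cast_one]
          exact hi.2
        · intro i hi hi'
          rw [Finset.mem_inter, not_and] at hi'
          have := hi' hi
          rw [mem_support₂, not_not] at this
          exact this
      have h7 : ((∑ i ∈ support₂ w, z i : ℤ) : ZMod 2) = 0 := by
        rw [Int.cast_sum, h6]
        exact (ZMod.natCast_eq_zero_iff _ _).2 h5
      exact (ZMod.intCast_zmod_eq_zero_iff_dvd _ 2).1 h7
    rw [h1]
    have h3 := hs.dvd
    rw [Int.modEq_iff_dvd]
    obtain ⟨a, ha⟩ := h4
    obtain ⟨b, hb⟩ := h2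
    rw [ha, hb]
    have : m * (4 * a) = 4 * (m * a) := by ring
    rw [this]
    omega
  · show (if w i = 0 then x i else -x i) = m + 2 * (if w i = 0 then z i else -m - z i)
    by_cases h0 : w i = 0
    · rw [if_pos h0, if_pos h0, h i]
    · rw [if_neg h0, if_neg h0, h i]; ring

theorem exists_co0_of_sign (w : GolayPt → ZMod 2) (hw : w ∈ golayCode) :
    ∃ g : Co0, ∀ (u : leechLattice) (i : GolayPt),
      ((g • u : leechLattice) : GolayPt → ℤ) i =
        if w i = 0 then (u : GolayPt → ℤ) i else -(u : GolayPt → ℤ) i := by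
  obtain ⟨g, hg⟩ := exists_co0 (fun x i => if w i = 0 then x i else -x i)
    (fun x i => if w i = 0 then x i else -x i)
    (fun x y => by
      funext i
      show (if w i = 0 then (x + y) i else -(x + y) i) = (if w i = 0 then x i else -x i) +
        (if w i = 0 then y i else -y i)
      split_ifs
      · rfl
      · rw [Pi.add_apply]; ring)
    (fun x => by funext i; dsimp only; split_ifs <;> simp)
    (fun x => by funext i; dsimp only; split_ifs <;> simp)
    (sign_mem_leech w hw) (sign_mem_leech w hw) (fun x => by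
      rw [sqNorm_def, sqNorm_def]
      apply Finset.sum_congr rfl
      intro i _
      split_ifs
      · rfl
      · ring)
  exact ⟨g, fun u i => by rw [hg u]⟩

/-! ### shapes of short vectors -/

/-- A lattice vector with one even coordinate is twice an integer vector `z` with `z mod 2` in the
code and coordinate sum divisible by 4. -/
theorem even_form {x : GolayPt → ℤ} (hx : x ∈ leechLattice) {i : GolayPt} (hi : (2 : ℤ) ∣ x i) :
    ∃ z : GolayPt → ℤ, red z ∈ golayCode ∧ (4 : ℤ) ∣ ∑ i, z i ∧ ∀ i, x i = 2 * z i := by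
  rw [mem_leech_iff] at hx
  obtain ⟨m, z, hz, hs, h⟩ := hx
  have hm : (2 : ℤ) ∣ m := by
    have := h i
    omega
  obtain ⟨k, hk⟩ := hm
  refine ⟨fun i => z i + k, ?_, ?_, fun i => by rw [h i, hk]; ring⟩
  · have : red (fun i => z i + k) = red z + (k : ZMod 2) • 1 := by
      funext i; simp [red]
    rw [this]
    exact Submodule.add_mem _ hz (Submodule.smul_mem _ _ one_mem_golayCode)
  · rw [Finset.sum_add_distrib]
    have h1 : ∑ i : GolayPt, k = 24 * k := by simp
    rw [h1]
    have h2 := hs.dvd
    rw [hk] at h2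
    omega

/-- Conversely. -/
theorem mem_of_even_form {x z : GolayPt → ℤ} (hz : red z ∈ golayCode) (hs : (4 : ℤ) ∣ ∑ i, z i)
    (h : ∀ i, x i = 2 * z i) : x ∈ leechLattice := by
  rw [mem_leech_iff]
  refine ⟨0, z, hz, ?_, fun i => by rw [h i]; ring⟩
  rw [Int.modEq_iff_dvd]
  omega

/-- A lattice vector with one odd coordinate has all coordinates odd. -/
theorem odd_of_odd {x : GolayPt → ℤ} (hx : x ∈ leechLattice) {i : GolayPt} (hi : ¬ (2 : ℤ) ∣ x i)
    (j : GolayPt) : ¬ (2 : ℤ) ∣ x j := by
  rw [mem_leech_iff] at hx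
  obtain ⟨m, z, -, -, h⟩ := hx
  have h1 := h i
  have h2 := h j
  omega

/-- The vector `4 e_i + 4 s e_j` (`s = ±1`, `i ≠ j`) lies in the lattice. -/
theorem four_four_mem (i j : GolayPt) (s : ℤ) (hs : s = 1 ∨ s = -1) :
    (Pi.single i 4 + Pi.single j (4 * s) : GolayPt → ℤ) ∈ leechLattice := by
  apply mem_of_even_form (z := Pi.single i 2 + Pi.single j (2 * s))
  · have : red (Pi.single i 2 + Pi.single j (2 * s)) = 0 := by
      funext k
      rw [red_apply, Pi.zero_apply]
      apply (ZMod.intCast_zmod_eq_zero_iff_dvd _ 2).2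
      simp only [Pi.add_apply, Pi.single_apply]
      split_ifs <;> omega
    rw [this]; exact Submodule.zero_mem _
  · simp only [Pi.add_apply, Finset.sum_add_distrib, Finset.sum_pi_single', Finset.mem_univ,
      if_true]
    rcases hs with rfl | rfl <;> norm_num
  · intro k
    simp only [Pi.add_apply, Pi.single_apply]
    split_ifs <;> ring

/-- The vector `8 e_i` lies in the lattice. -/
theorem eight_mem (i : GolayPt) : (Pi.single i 8 : GolayPt → ℤ) ∈ leechLattice := by
  have := four_four_mem i i 1 (Or.inl rfl)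
  rw [← Pi.single_add] at this
  exact this

/-- The vector `8 e_i` of the lattice. -/
def e8 (i : GolayPt) : leechLattice := ⟨Pi.single i 8, eight_mem i⟩

theorem coe_e8 (i : GolayPt) : (e8 i : GolayPt → ℤ) = Pi.single i 8 := rfl

theorem sqNorm_single (i : GolayPt) (a : ℤ) : sqNorm (Pi.single i a : GolayPt → ℤ) = a ^ 2 := by
  rw [← dot_self, dot_single_right, Pi.single_eq_same]; ring

/-- A minimal vector with a coordinate `4` is `4 e_i ± 4 e_j`. -/
theorem shape_four {x : GolayPt → ℤ} (hx : x ∈ leechLattice) (hn : sqNorm x = 32) {i : GolayPt}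
    (hi : x i = 4) : ∃ (j : GolayPt) (s : ℤ), j ≠ i ∧ (s = 1 ∨ s = -1) ∧
      x = Pi.single i 4 + Pi.single j (4 * s) := by
  obtain ⟨z, hz, -, h⟩ := even_form hx (i := i) (by rw [hi]; norm_num)
  have hzi : z i = 2 := by have := h i; omega
  have hsum : ∑ k, z k ^ 2 = 8 := by
    have h1 : sqNorm x = 4 * ∑ k, z k ^ 2 := by
      rw [sqNorm_def, Finset.mul_sum]
      exact Finset.sum_congr rfl fun k _ => by rw [h k]; ring
    omega
  -- all entries are even
  have heven : ∀ k, (2 : ℤ) ∣ z k := by
    by_contra hcon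
    push Not at hcon
    obtain ⟨k, hk⟩ := hcon
    have hk' : k ∈ support₂ (red z) := by
      rw [mem_support₂, red_apply]
      intro h0
      exact hk ((ZMod.intCast_zmod_eq_zero_iff_dvd _ 2).1 h0)
    have hcard : 8 ≤ (support₂ (red z)).card := by
      have h2 := SporadicA.GolayBase.card_of_mem_supports
        (s := support₂ (red z)) ((support₂_mem_supports _).2 hz)
      have h3 : 0 < (support₂ (red z)).card := Finset.card_pos.2 ⟨k, hk'⟩
      omega
    have hi' : i ∉ support₂ (red z) := by
      rw [mem_support₂, not_not, red_apply, hzi]; decide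
    have h4 : ∑ k ∈ insert i (support₂ (red z)), z k ^ 2 ≤ ∑ k, z k ^ 2 :=
      Finset.sum_le_sum_of_subset_of_nonneg (Finset.subset_univ _) fun _ _ _ => sq_nonneg _
    rw [Finset.sum_insert hi', hzi, hsum] at h4
    have h5 : ∑ k ∈ support₂ (red z), (1 : ℤ) ≤ ∑ k ∈ support₂ (red z), z k ^ 2 := by
      apply Finset.sum_le_sum
      intro a ha
      rw [mem_support₂, red_apply] at ha
      have h6 : z a ≠ 0 := by
        intro h0; rw [h0] at ha; exact ha rfl
      have := Int.one_le_abs h6
      nlinarith [sq_abs (z a)]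
    rw [Finset.sum_const, nsmul_eq_mul, mul_one] at h5
    have h7 : (8 : ℤ) ≤ (support₂ (red z)).card := by exact_mod_cast hcard
    linarith
  -- there is another nonzero coordinate
  have h8 : ∑ k ∈ Finset.univ.erase i, z k ^ 2 = 4 := by
    have := Finset.add_sum_erase Finset.univ (fun k => z k ^ 2) (Finset.mem_univ i)
    simp only [hzi] at this
    linarith
  have h9 : ∃ j ∈ Finset.univ.erase i, z j ^ 2 ≠ 0 := by
    apply Finset.exists_ne_zero_of_sum_ne_zero
    rw [h8]; norm_num
  obtain ⟨j, hj, hzj⟩ := h9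
  have hji : j ≠ i := Finset.ne_of_mem_erase hj
  have h10 : z j ^ 2 + ∑ k ∈ (Finset.univ.erase i).erase j, z k ^ 2 = 4 := by
    rw [Finset.add_sum_erase (Finset.univ.erase i) (fun k => z k ^ 2) hj]; exact h8
  have h11 : 0 ≤ ∑ k ∈ (Finset.univ.erase i).erase j, z k ^ 2 :=
    Finset.sum_nonneg fun _ _ => sq_nonneg _
  have h12 : z j = 2 ∨ z j = -2 := by
    obtain ⟨a, ha⟩ := heven j
    have h13 : a ≠ 0 := by
      intro h0; rw [h0] at ha; rw [ha] at hzj; exact hzj (by norm_num)
    have h14 : a ^ 2 ≤ 1 := by rw [ha] at h10; nlinarith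
    have h15 : a ≤ 1 := by nlinarith
    have h16 : -1 ≤ a := by nlinarith
    rcases (show a = 1 ∨ a = -1 by omega) with h | h <;> rw [h] at ha
    · left; exact ha
    · right; exact ha
  have h17 : ∑ k ∈ (Finset.univ.erase i).erase j, z k ^ 2 = 0 := by
    rcases h12 with h | h <;> rw [h] at h10 <;> linarith
  have h18 : ∀ k, k ≠ i → k ≠ j → z k = 0 := by
    intro k hki hkj
    have := (Finset.sum_eq_zero_iff_of_nonneg (fun _ _ => sq_nonneg _)).1 h17 k
      (Finset.mem_erase.2 ⟨hkj, Finset.mem_erase.2 ⟨hki, Finset.mem_univ k⟩⟩)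
    exact pow_eq_zero_iff (two_ne_zero) |>.1 this
  refine ⟨j, z j / 2, hji, ?_, ?_⟩
  · rcases h12 with h | h <;> rw [h] <;> norm_num
  · funext k
    rw [Pi.add_apply, Pi.single_apply, Pi.single_apply]
    by_cases hki : k = i
    · rw [if_pos hki, if_neg (by rw [hki]; exact hji.symm), hki, hi]; norm_num
    · rw [if_neg hki]
      by_cases hkj : k = j
      · rw [if_pos hkj, hkj, h j]
        rcases h12 with h | h <;> rw [h] <;> norm_num
      · rw [if_neg hkj, h k, h18 k hki hkj]; norm_num

end Cfsg.Agent.Leech.FrameAux
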