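import Cfsg.Agent.SporadicA.LeechSet
import Cfsg.Agent.SporadicA.GolayBase

/-!
The Higman–Sims configuration in the lattice: the minimal vectors `x` with
`∑ x + 4 x_∞ = ∑ x + 4 x_0 = 24` (that is, with customary inner products 3 and -3 with
`(5,1,1^22)` and `-(1,5,1^22)`) are `(4,4,0^22)`, the 22 vectors `(1,1,-3,1^21)` and the 77
vectors `2·1_O` for the octads `O` through both points.
-/

set_option autoImplicit false

namespace Cfsg.Agent.Leech.HSList

open Cfsg
open Cfsg.Agent.SporadicA

/-! ### Splitting sums -/

/-- The 22 points other than `none` and `some 0`. -/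
def rest : Finset GolayPt := Finset.univ.filter fun i => i ≠ none ∧ i ≠ some 0

theorem mem_rest {i : GolayPt} : i ∈ rest ↔ i ≠ none ∧ i ≠ some 0 := by
  simp only [rest, Finset.mem_filter, Finset.mem_univ, true_and]

theorem card_rest : rest.card = 22 := by decide

theorem univ_eq : (Finset.univ : Finset GolayPt) = insert none (insert (some 0) rest) := by
  decide

theorem sum_split {M : Type*} [AddCommMonoid M] (f : GolayPt → M) :
    ∑ i, f i = f none + (f (some 0) + ∑ i ∈ rest, f i) := by
  rw [univ_eq, Finset.sum_insert (by decide), Finset.sum_insert (by decide)]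

/-- The 23 points other than `none`. -/
def rest1 : Finset GolayPt := Finset.univ.filter fun i => i ≠ none

theorem mem_rest1 {i : GolayPt} : i ∈ rest1 ↔ i ≠ none := by
  simp only [rest1, Finset.mem_filter, Finset.mem_univ, true_and]

theorem card_rest1 : rest1.card = 23 := by decide

theorem univ_eq1 : (Finset.univ : Finset GolayPt) = insert none rest1 := by decide

theorem sum_split1 {M : Type*} [AddCommMonoid M] (f : GolayPt → M) :
    ∑ i, f i = f none + ∑ i ∈ rest1, f i := by
  rw [univ_eq1, Finset.sum_insert (by decide)]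

/-! ### The two kinds of lattice vectors -/

/-- A lattice vector is `2y` or `1 + 2y`, the odd positions of `y` forming a code word. -/
theorem even_or_odd {x : GolayPt → ℤ} (hx : x ∈ leechLattice) :
    (∃ y : GolayPt → ℤ, (∀ i, x i = 2 * y i) ∧
      (Finset.univ.filter fun i => y i % 2 = 1) ∈ supports (golayCode : Set (GolayPt → ZMod 2))) ∨
    (∃ y : GolayPt → ℤ, (∀ i, x i = 1 + 2 * y i) ∧
      (Finset.univ.filter fun i => y i % 2 = 1) ∈
        supports (golayCode : Set (GolayPt → ZMod 2))) := by
  rw [LeechSet.mem_leechLattice_iff] at hx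
  obtain ⟨m, hm, -, hk⟩ := hx
  have hm' : ∀ i, x i % 2 = m % 2 := hm
  rcases Int.emod_two_eq_zero_or_one m with h | h
  · left
    refine ⟨fun i => x i / 2, fun i => ?_, ?_⟩
    · have := hm' i
      show x i = 2 * (x i / 2)
      omega
    · have h2 := hk 2
      have : (Finset.univ.filter fun i => (x i / 2) % 2 = 1) =
          (Finset.univ.filter fun i => x i ≡ 2 [ZMOD 4]) := by
        ext i
        have := hm' i
        simp only [Finset.mem_filter, Finset.mem_univ, true_and]
        unfold Int.ModEq
        omega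
      rw [this]
      exact h2
  · right
    refine ⟨fun i => (x i - 1) / 2, fun i => ?_, ?_⟩
    · have := hm' i
      show x i = 1 + 2 * ((x i - 1) / 2)
      omega
    · have h2 := hk 3
      have : (Finset.univ.filter fun i => ((x i - 1) / 2) % 2 = 1) =
          (Finset.univ.filter fun i => x i ≡ 3 [ZMOD 4]) := by
        ext i
        have := hm' i
        simp only [Finset.mem_filter, Finset.mem_univ, true_and]
        unfold Int.ModEq
        omega
      rw [this]
      exact h2

/-! ### The three kinds of vectors -/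

/-- `(4,4,0^22)`. -/
def vA : GolayPt → ℤ := fun p => if p = none ∨ p = some 0 then 4 else 0

/-- `-3` at `i`, `1` elsewhere. -/
def vB (i : GolayPt) : GolayPt → ℤ := fun p => if p = i then -3 else 1

/-- `2` on `o`, `0` elsewhere. -/
def vC (o : Finset GolayPt) : GolayPt → ℤ := fun p => if p ∈ o then 2 else 0

theorem vA_mem : vA ∈ leechLattice := by
  rw [LeechSet.mem_leechLattice_iff]
  exact Spor.vecU_mem_leechSet

theorem vB_mem (i : GolayPt) : vB i ∈ leechLattice := by
  rw [LeechSet.mem_leechLattice_iff]
  refine Spor.mem_leechSet_of_const_mod_four (vB i) 1 1 rfl (fun p => ?_) ?_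
  · unfold vB
    split
    · decide
    · rfl
  · revert i; decide

theorem vC_mem {o : Finset GolayPt} (ho : o ∈ octads) : vC o ∈ leechLattice := by
  rw [LeechSet.mem_leechLattice_iff']
  refine ⟨0, fun p => if p ∈ o then 1 else 0, fun p => ?_, ?_, ?_⟩
  · show (if p ∈ o then (2 : ℤ) else 0) = 0 + 2 * (if p ∈ o then 1 else 0)
    split <;> rfl
  · have : ∑ i, vC o i = 16 := by
      unfold vC
      rw [← Finset.sum_filter]
      simp only [Finset.filter_mem_eq_inter, Finset.univ_inter, Finset.sum_const, ho.2]
      rfl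
    rw [this]
    decide
  · have h := (LeechSet.mem_supports_iff _ _).1 ho.1
    have e : (fun p => (((if p ∈ o then 1 else 0 : ℤ)) : ZMod 2)) =
        (fun p => if p ∈ o then (1 : ZMod 2) else 0) := by
      funext p
      split <;> simp
    rw [e]
    exact h

/-! ### The classification -/

theorem mul_pred_nonneg (y : ℤ) : 0 ≤ y * (y - 1) := by
  rcases le_or_gt 1 y with h | h
  · exact mul_nonneg (by omega) (by omega)
  · exact mul_nonneg_of_nonpos_of_nonpos (by omega) (by omega)

theorem classify {x : GolayPt → ℤ} (hx : x ∈ leechLattice) (hn : ∑ i, x i ^ 2 = 32)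
    (h1 : ∑ i, x i + 4 * x none = 24) (h2 : ∑ i, x i + 4 * x (some 0) = 24) :
    x = vA ∨ (∃ i, i ≠ none ∧ i ≠ some 0 ∧ x = vB i) ∨
      (∃ o ∈ octads, none ∈ o ∧ some 0 ∈ o ∧ x = vC o) := by
  rcases even_or_odd hx with ⟨y, hy, hc⟩ | ⟨y, hy, hc⟩
  · simp only [hy, mul_pow, ← Finset.mul_sum] at hn h1 h2
    have ht : y (some 0) = y none := by linarith
    rw [sum_split, ht] at hn h1
    set s := y none with hs
    have hS : ∑ i ∈ rest, y i = 12 - 6 * s := by linarith
    have hQ : ∑ i ∈ rest, y i ^ 2 = 8 - 2 * s ^ 2 := by linarith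
    have hP : ∑ i ∈ rest, y i * (y i - 1) = -2 * ((s - 1) * (s - 2)) := by
      have : ∑ i ∈ rest, y i * (y i - 1) = ∑ i ∈ rest, y i ^ 2 - ∑ i ∈ rest, y i := by
        rw [← Finset.sum_sub_distrib]
        exact Finset.sum_congr rfl fun i _ => by ring
      rw [this, hS, hQ]
      ring
    have hnn : 0 ≤ ∑ i ∈ rest, y i * (y i - 1) :=
      Finset.sum_nonneg fun i _ => mul_pred_nonneg (y i)
    have hs12 : s = 1 ∨ s = 2 := by
      rw [hP] at hnn
      by_contra hcon
      have : 0 < (s - 1) * (s - 2) := by
        rcases lt_or_ge s 1 with h | h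
        · exact mul_pos_of_neg_of_neg (by omega) (by omega)
        · exact mul_pos (by omega) (by omega)
      linarith
    have hz : ∀ i ∈ rest, y i = 0 ∨ y i = 1 := by
      have h0 : ∑ i ∈ rest, y i * (y i - 1) = 0 := by
        rw [hP]
        rcases hs12 with h | h <;> rw [h] <;> norm_num
      have := (Finset.sum_eq_zero_iff_of_nonneg fun i _ => mul_pred_nonneg (y i)).1 h0
      intro i hi
      rcases mul_eq_zero.1 (this i hi) with h | h
      · exact Or.inl h
      · exact Or.inr (by linarith)
    rcases hs12 with h | h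
    · right; right
      have hall : ∀ i, y i = 0 ∨ y i = 1 := by
        intro i
        by_cases hi : i ∈ rest
        · exact hz i hi
        · rw [mem_rest, not_and_or, not_not, not_not] at hi
          rcases hi with rfl | rfl
          · right; rw [← hs, h]
          · right; rw [ht, h]
      refine ⟨Finset.univ.filter fun i => y i % 2 = 1, ⟨hc, ?_⟩, ?_, ?_, ?_⟩
      · have h8 : ∑ i, y i = 8 := by
          rw [sum_split, ht, hS, ← hs, h]
          norm_num
        have e : ∑ i, y i = ((Finset.univ.filter fun i => y i % 2 = 1).card : ℤ) := by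
          rw [Finset.card_filter]
          push_cast
          refine Finset.sum_congr rfl fun i _ => ?_
          rcases hall i with hi | hi <;> rw [hi] <;> norm_num
        rw [h8] at e
        exact_mod_cast e.symm
      · simp only [Finset.mem_filter, Finset.mem_univ, true_and]
        rw [← hs, h]
        norm_num
      · simp only [Finset.mem_filter, Finset.mem_univ, true_and]
        rw [ht, h]
        norm_num
      · funext i
        unfold vC
        simp only [Finset.mem_filter, Finset.mem_univ, true_and]
        rw [hy i]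
        rcases hall i with hi | hi <;> rw [hi] <;> norm_num
    · left
      have hz0 : ∀ i ∈ rest, y i = 0 := by
        have h0 : ∑ i ∈ rest, y i = 0 := by rw [hS, h]; norm_num
        refine (Finset.sum_eq_zero_iff_of_nonneg fun i hi => ?_).1 h0
        rcases hz i hi with h | h <;> rw [h]
        norm_num
      funext i
      unfold vA
      by_cases hi : i ∈ rest
      · rw [hy i, hz0 i hi]
        rw [mem_rest] at hi
        rw [if_neg]
        · norm_num
        · rintro (h | h)
          · exact hi.1 h
          · exact hi.2 h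
      · rw [mem_rest, not_and_or, not_not, not_not] at hi
        rw [if_pos hi, hy i]
        rcases hi with rfl | rfl
        · rw [← hs, h]; norm_num
        · rw [ht, h]; norm_num
  · have hA : ∑ i : GolayPt, x i = 24 + 2 * ∑ i, y i := by
      simp only [hy, Finset.sum_add_distrib, ← Finset.mul_sum]
      simp
    have hB : ∑ i : GolayPt, x i ^ 2 = 24 + 4 * ∑ i, y i + 4 * ∑ i, y i ^ 2 := by
      have : ∀ i, x i ^ 2 = 1 + 4 * y i + 4 * y i ^ 2 := fun i => by rw [hy i]; ring
      simp only [this, Finset.sum_add_distrib, ← Finset.mul_sum]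
      simp
    rw [hB] at hn
    rw [hA, hy none] at h1
    rw [hA, hy (some 0)] at h2
    have ht : y (some 0) = y none := by linarith
    rw [sum_split, sum_split, ht] at hn
    rw [sum_split, ht] at h1
    set s := y none with hs
    have hS : ∑ i ∈ rest, y i = -2 - 6 * s := by linarith
    have hQ : ∑ i ∈ rest, y i ^ 2 = 4 + 4 * s - 2 * s ^ 2 := by linarith
    have hP : ∑ i ∈ rest, (-y i) * (-y i - 1) = 2 - 2 * (s * (s + 1)) := by
      have : ∑ i ∈ rest, (-y i) * (-y i - 1) = ∑ i ∈ rest, y i ^ 2 + ∑ i ∈ rest, y i := by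
        rw [← Finset.sum_add_distrib]
        exact Finset.sum_congr rfl fun i _ => by ring
      rw [this, hS, hQ]
      ring
    have hnn : 0 ≤ ∑ i ∈ rest, (-y i) * (-y i - 1) :=
      Finset.sum_nonneg fun i _ => mul_pred_nonneg (-y i)
    have hnq : 0 ≤ ∑ i ∈ rest, y i ^ 2 := Finset.sum_nonneg fun i _ => sq_nonneg _
    rw [hP] at hnn
    rw [hQ] at hnq
    have hs0 : s = 0 := by
      rcases lt_or_ge s 0 with h | h
      · exfalso
        nlinarith
      · rcases lt_or_ge 0 s with h' | h'
        · exfalso
          nlinarith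
        · omega
    rw [hs0] at hS hQ
    norm_num at hS hQ
    right; left
    -- all `y i` are even
    have hcard : (Finset.univ.filter fun i => y i % 2 = 1).card = 0 := by
      have hle : ((Finset.univ.filter fun i => y i % 2 = 1).card : ℤ) ≤ ∑ i, y i ^ 2 := by
        rw [Finset.card_filter]
        push_cast
        refine Finset.sum_le_sum fun i _ => ?_
        split
        · next hodd =>
          have : y i ≠ 0 := by omega
          have := Int.one_le_abs this
          nlinarith [sq_abs (y i)]
        · exact sq_nonneg _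
      rw [sum_split, ht, hQ, ← hs, hs0] at hle
      norm_num at hle
      rcases GolayBase.card_of_mem_supports hc with h | h | h | h | h
      · exact h
      all_goals rw [h] at hle; norm_num at hle
    have heven : ∀ i, y i % 2 = 0 := by
      intro i
      rw [Finset.card_eq_zero, Finset.filter_eq_empty_iff] at hcard
      have := hcard (Finset.mem_univ i)
      omega
    obtain ⟨i, hi, hi0⟩ : ∃ i ∈ rest, y i ≠ 0 := by
      by_contra hcon
      push Not at hcon
      rw [Finset.sum_eq_zero (fun i hi => hcon i hi)] at hS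
      norm_num at hS
    have h4 : 4 ≤ y i ^ 2 := by
      have h2 : 2 ≤ |y i| := by
        have := heven i
        have := Int.one_le_abs hi0
        rcases abs_cases (y i) with h | h <;> omega
      nlinarith [sq_abs (y i)]
    rw [← Finset.add_sum_erase _ _ hi] at hS hQ
    have hr0 : ∑ j ∈ rest.erase i, y j ^ 2 = 0 := by
      have : 0 ≤ ∑ j ∈ rest.erase i, y j ^ 2 := Finset.sum_nonneg fun i _ => sq_nonneg _
      linarith
    have hj0 : ∀ j ∈ rest.erase i, y j = 0 := by
      intro j hj
      have := (Finset.sum_eq_zero_iff_of_nonneg fun i _ => sq_nonneg _).1 hr0 j hj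
      exact pow_eq_zero_iff (two_ne_zero) |>.1 this
    rw [Finset.sum_eq_zero hj0] at hS
    refine ⟨i, (mem_rest.1 hi).1, (mem_rest.1 hi).2, ?_⟩
    funext j
    unfold vB
    split
    · next h => rw [h, hy i]; linarith
    · next h =>
      have : y j = 0 := by
        by_cases hj : j ∈ rest
        · exact hj0 j (Finset.mem_erase.2 ⟨h, hj⟩)
        · rw [mem_rest, not_and_or, not_not, not_not] at hj
          rcases hj with rfl | rfl
          · rw [← hs, hs0]
          · rw [ht, hs0]
      rw [hy j, this]
      norm_num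

/-! ### The 77 octads through two points -/

/-- The octads through `none` and `some 0`. -/
def hexadOctads : Set (Finset GolayPt) := {o | o ∈ octads ∧ none ∈ o ∧ some 0 ∈ o}

/-- Their indices in the list of code words. -/
def idx77 : Finset ℕ := (Finset.range 4096).filter fun i =>
  Nat.beq (GolayBase.popcount (GolayBase.enc i)) 8 && (GolayBase.enc i).testBit 23 &&
    (GolayBase.enc i).testBit 0

theorem card_idx77 : idx77.card = 77 := by decide +kernel

theorem mem_idx77 {i : ℕ} : i ∈ idx77 ↔ i < 4096 ∧ GolayBase.popcount (GolayBase.enc i) = 8 ∧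
    (GolayBase.enc i).testBit 23 = true ∧ (GolayBase.enc i).testBit 0 = true := by
  unfold idx77
  rw [Finset.mem_filter, Finset.mem_range, Bool.and_eq_true, Bool.and_eq_true, and_assoc]
  have : (GolayBase.popcount (GolayBase.enc i)).beq 8 = true ↔
      GolayBase.popcount (GolayBase.enc i) = 8 := ⟨Nat.eq_of_beq_eq_true, fun h => by rw [h]; rfl⟩
  rw [this]

theorem hexadOctads_eq :
    hexadOctads = (fun i => GolayBase.fin (GolayBase.enc i)) '' (idx77 : Set ℕ) := by
  ext o
  rw [Set.mem_image]
  simp only [Finset.mem_coe, mem_idx77]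
  constructor
  · rintro ⟨ho, h1, h2⟩
    have hc := (GolayBase.mem_supports_iff o).1 ho.1
    obtain ⟨i, hi, he⟩ := GolayBase.isCode_iff_exists.1 hc
    have hf : GolayBase.fin (GolayBase.enc i) = o := by rw [← he, GolayBase.fin_maskOf]
    refine ⟨i, ⟨hi, ?_, ?_, ?_⟩, hf⟩
    · rw [← GolayBase.card_fin, hf]; exact ho.2
    · rw [← hf, GolayBase.mem_fin] at h1; exact h1
    · rw [← hf, GolayBase.mem_fin] at h2; exact h2
  · rintro ⟨i, ⟨hi, h1, h2, h3⟩, rfl⟩
    refine ⟨⟨?_, ?_⟩, ?_, ?_⟩
    · exact (GolayBase.fin_mem_supports_iff (GolayBase.enc_lt i)).2 (GolayBase.isCode_enc i)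
    · rw [GolayBase.card_fin, h1]
    · exact GolayBase.mem_fin.2 h2
    · exact GolayBase.mem_fin.2 h3

theorem ncard_hexadOctads : hexadOctads.ncard = 77 := by
  have hinj : Set.InjOn (fun i => GolayBase.fin (GolayBase.enc i)) (idx77 : Set ℕ) := by
    intro i hi j hj h
    have hi' : i < 4096 := (mem_idx77.1 hi).1
    have hj' : j < 4096 := (mem_idx77.1 hj).1
    exact GolayBase.enc_injOn hi' hj'
      (GolayBase.fin_injective (GolayBase.enc_lt i) (GolayBase.enc_lt j) h)
  rw [hexadOctads_eq, hinj.ncard_image, Set.ncard_coe_finset, card_idx77]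

/-! ### Inner products -/

theorem sum_sq_vA : ∑ i, vA i ^ 2 = 32 := by decide
theorem sum_vA : ∑ i, vA i = 8 := by decide

theorem sum_sq_vB (i : GolayPt) : ∑ p, vB i p ^ 2 = 32 := by revert i; decide
theorem sum_vB (i : GolayPt) : ∑ p, vB i p = 20 := by revert i; decide

theorem vB_of_ne {i p : GolayPt} (h : i ≠ p) : vB i p = 1 := if_neg (Ne.symm h)

theorem sum_vC {o : Finset GolayPt} (ho : o ∈ octads) : ∑ p, vC o p = 16 := by
  unfold vC
  rw [← Finset.sum_filter]
  simp only [Finset.filter_mem_eq_inter, Finset.univ_inter, Finset.sum_const, ho.2]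
  rfl

theorem sum_sq_vC {o : Finset GolayPt} (ho : o ∈ octads) : ∑ p, vC o p ^ 2 = 32 := by
  have : ∀ p, vC o p ^ 2 = 2 * vC o p := by
    intro p
    unfold vC
    split <;> norm_num
  simp only [this, ← Finset.mul_sum, sum_vC ho]
  norm_num

/-- The inner product with `(4,4,0^22)`. -/
theorem sum_vA_mul (x : GolayPt → ℤ) : ∑ i, vA i * x i = 4 * x none + 4 * x (some 0) := by
  rw [sum_split]
  have : ∑ i ∈ rest, vA i * x i = 0 := by
    refine Finset.sum_eq_zero fun i hi => ?_
    rw [mem_rest] at hi
    have : vA i = 0 := if_neg (by rintro (h | h); exacts [hi.1 h, hi.2 h])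
    rw [this, zero_mul]
  rw [this]
  have h1 : vA none = 4 := rfl
  have h2 : vA (some 0) = 4 := rfl
  rw [h1, h2]
  ring

theorem vB_injective : Function.Injective vB := by
  intro i j h
  by_contra hij
  have h1 : vB i i = -3 := if_pos rfl
  have h2 : vB j i = 1 := if_neg hij
  rw [h, h2] at h1
  norm_num at h1

theorem vC_injective : Function.Injective vC := by
  intro o o' h
  ext p
  have h1 : p ∈ o ↔ vC o p = 2 := by
    unfold vC
    split <;> simp_all
  have h2 : p ∈ o' ↔ vC o' p = 2 := by
    unfold vC
    split <;> simp_all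
  rw [h1, h2, h]

/-! ### Existence of one of the 100 vectors -/

theorem sum_sq_ge {y : GolayPt → ℤ} (h : ∀ i ∈ rest1, y i ≠ 0) :
    23 ≤ ∑ i ∈ rest1, y i ^ 2 := by
  have h1 : ∑ i ∈ rest1, (1 : ℤ) ≤ ∑ i ∈ rest1, y i ^ 2 := by
    refine Finset.sum_le_sum fun i hi => ?_
    have := Int.one_le_abs (h i hi)
    nlinarith [sq_abs (y i)]
  rw [Finset.sum_const, card_rest1] at h1
  simpa using h1

/-- For a minimal vector `t` with inner product 16 with `(5,1^23)` some coordinate other than that
at `none` is `-t_∞` or `4 - t_∞`. -/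
theorem exists_index {t : GolayPt → ℤ} (ht : t ∈ leechLattice) (hn : ∑ i, t i ^ 2 = 32)
    (h1 : ∑ i, t i + 4 * t none = 16) :
    ∃ i, i ≠ none ∧ (t i = - t none ∨ t i = 4 - t none) := by
  by_contra hcon
  push Not at hcon
  rcases even_or_odd ht with ⟨y, hy, hc⟩ | ⟨y, hy, hc⟩
  · simp only [hy, mul_pow, ← Finset.mul_sum] at hn h1 hcon
    rw [sum_split1] at hn h1
    set a := y none with ha
    have hS : ∑ i ∈ rest1, y i = 8 - 5 * a := by linarith
    have hQ : ∑ i ∈ rest1, y i ^ 2 = 8 - a ^ 2 := by linarith
    have hP : ∑ i ∈ rest1, y i * (y i - 1) = a * (5 - a) := by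
      have : ∑ i ∈ rest1, y i * (y i - 1) = ∑ i ∈ rest1, y i ^ 2 - ∑ i ∈ rest1, y i := by
        rw [← Finset.sum_sub_distrib]
        exact Finset.sum_congr rfl fun i _ => by ring
      rw [this, hS, hQ]
      ring
    have hnn : 0 ≤ ∑ i ∈ rest1, y i * (y i - 1) :=
      Finset.sum_nonneg fun i _ => mul_pred_nonneg (y i)
    have hnq : 0 ≤ ∑ i ∈ rest1, y i ^ 2 := Finset.sum_nonneg fun i _ => sq_nonneg _
    rw [hP] at hnn
    rw [hQ] at hnq
    have ha0 : 0 ≤ a := by
      by_contra h
      nlinarith
    have ha3 : a < 3 := by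
      by_contra h
      nlinarith
    have hcon' : ∀ i ∈ rest1, y i ≠ -a ∧ y i ≠ 2 - a := by
      intro i hi
      have := hcon i (mem_rest1.1 hi)
      constructor
      · intro h
        apply this.1
        rw [h]; ring
      · intro h
        apply this.2
        rw [h]; ring
    have hcases : a = 0 ∨ a = 1 ∨ a = 2 := by omega
    rcases hcases with h | h | h
    · have := sum_sq_ge (y := y) fun i hi h0 => (hcon' i hi).1 (by rw [h0, h]; rfl)
      rw [hQ, h] at this
      norm_num at this
    · rw [h] at hS hQ
      norm_num at hS hQ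
      have hd : ∀ i ∈ rest1, (2 : ℤ) ∣ y i := by
        intro i hi
        have h7 : y i ^ 2 ≤ 7 := by
          rw [← hQ]
          exact Finset.single_le_sum (f := fun i => y i ^ 2) (fun i _ => sq_nonneg _) hi
        have hu : y i < 3 := by nlinarith
        have hl : -3 < y i := by nlinarith
        have := hcon' i hi
        rw [h] at this
        omega
      have := Finset.dvd_sum hd
      rw [hS] at this
      omega
    · have := sum_sq_ge (y := y) fun i hi h0 => (hcon' i hi).2 (by rw [h0, h]; rfl)
      rw [hQ, h] at this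
      norm_num at this
  · have hA : ∑ i : GolayPt, t i = 24 + 2 * ∑ i, y i := by
      simp only [hy, Finset.sum_add_distrib, ← Finset.mul_sum]
      simp
    have hB : ∑ i : GolayPt, t i ^ 2 = 24 + 4 * ∑ i, y i + 4 * ∑ i, y i ^ 2 := by
      have : ∀ i, t i ^ 2 = 1 + 4 * y i + 4 * y i ^ 2 := fun i => by rw [hy i]; ring
      simp only [this, Finset.sum_add_distrib, ← Finset.mul_sum]
      simp
    rw [hB] at hn
    rw [hA, hy none] at h1
    simp only [hy] at hcon
    rw [sum_split1, sum_split1] at hn
    rw [sum_split1] at h1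
    set a := y none with ha
    have hS : ∑ i ∈ rest1, y i = -6 - 5 * a := by linarith
    have hQ : ∑ i ∈ rest1, y i ^ 2 = 8 + 4 * a - a ^ 2 := by linarith
    have hP : ∑ i ∈ rest1, (-y i) * (-y i - 1) = (1 - a) * (a + 2) := by
      have : ∑ i ∈ rest1, (-y i) * (-y i - 1) = ∑ i ∈ rest1, y i ^ 2 + ∑ i ∈ rest1, y i := by
        rw [← Finset.sum_add_distrib]
        exact Finset.sum_congr rfl fun i _ => by ring
      rw [this, hS, hQ]
      ring
    have hnn : 0 ≤ ∑ i ∈ rest1, (-y i) * (-y i - 1) :=
      Finset.sum_nonneg fun i _ => mul_pred_nonneg (-y i)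
    have hnq : 0 ≤ ∑ i ∈ rest1, y i ^ 2 := Finset.sum_nonneg fun i _ => sq_nonneg _
    rw [hP] at hnn
    rw [hQ] at hnq
    have ha0 : -2 < a := by
      by_contra h
      nlinarith
    have ha3 : a < 2 := by
      by_contra h
      nlinarith
    have hcon' : ∀ i ∈ rest1, y i ≠ -1 - a ∧ y i ≠ 1 - a := by
      intro i hi
      have := hcon i (mem_rest1.1 hi)
      constructor
      · intro h
        apply this.1
        rw [h]; ring
      · intro h
        apply this.2
        rw [h]; ring
    have hcases : a = -1 ∨ a = 0 ∨ a = 1 := by omega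
    rcases hcases with h | h | h
    · have := sum_sq_ge (y := y) fun i hi h0 => (hcon' i hi).1 (by rw [h0, h]; rfl)
      rw [hQ, h] at this
      norm_num at this
    · rw [h] at hS hQ
      norm_num at hS hQ
      have h2 : 0 ≤ ∑ i ∈ rest1, (y i ^ 2 + 2 * y i) := by
        refine Finset.sum_nonneg fun i hi => ?_
        have := (hcon' i hi).1
        rw [h] at this
        have h3 : y i + 1 ≠ 0 := by omega
        have := Int.one_le_abs h3
        nlinarith [sq_abs (y i + 1)]
      rw [Finset.sum_add_distrib, ← Finset.mul_sum, hS, hQ] at h2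
      norm_num at h2
    · have := sum_sq_ge (y := y) fun i hi h0 => (hcon' i hi).2 (by rw [h0, h]; rfl)
      rw [hQ, h] at this
      norm_num at this

end Cfsg.Agent.Leech.HSList
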