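import Mathlib
import Cfsg.Prelude.Def_Sporadic_a
import Cfsg.Prelude.Def_Spor_Conway
import Cfsg.Agent.Leech.Norm
import Cfsg.Agent.SporadicA.LeechSet
import Cfsg.Agent.SporadicA.GolayWeight
import Cfsg.Agent.S0358

set_option autoImplicit false

/-!
The index of the lattice in the group of all integer vectors.
-/

namespace Cfsg.Agent.Leech.Index

open Finset Cfsg Cfsg.Agent.Leech.Norm Cfsg.Agent.SporadicA.LeechSet

/-- reduction modulo 2 of an integer vector -/
def red : (GolayPt → ℤ) →+ (GolayPt → ZMod 2) where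
  toFun x := fun i => (x i : ZMod 2)
  map_zero' := by funext i; simp
  map_add' x y := by funext i; simp

theorem red_apply (x : GolayPt → ℤ) (i : GolayPt) : red x i = (x i : ZMod 2) := rfl

theorem intCast_eq_zero_iff (a : ℤ) : (a : ZMod 2) = 0 ↔ a % 2 = 0 := by
  rw [ZMod.intCast_zmod_eq_zero_iff_dvd]
  push_cast
  omega

theorem intCast_eq_one_iff (a : ℤ) : (a : ZMod 2) = 1 ↔ a % 2 = 1 := by
  have h : (a : ZMod 2) = 1 ↔ ((a - 1 : ℤ) : ZMod 2) = 0 := by
    push_cast
    exact sub_eq_zero.symm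
  rw [h, intCast_eq_zero_iff]
  omega

theorem red_surjective : Function.Surjective red := by
  intro w
  refine ⟨fun i => ((w i).val : ℤ), ?_⟩
  funext i
  rw [red_apply]
  push_cast
  rw [ZMod.natCast_val, ZMod.cast_id]

/-- doubling -/
def dbl : (GolayPt → ℤ) →+ (GolayPt → ℤ) where
  toFun x := fun i => 2 * x i
  map_zero' := by funext i; simp
  map_add' x y := by funext i; simp [mul_add]

theorem dbl_injective : Function.Injective dbl := by
  intro x y h
  funext i
  have := congrFun h i
  change 2 * x i = 2 * y i at this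
  omega

/-- vectors with even coordinates -/
def K1 : AddSubgroup (GolayPt → ℤ) := red.ker

theorem mem_K1 (x : GolayPt → ℤ) : x ∈ K1 ↔ ∀ i, x i % 2 = 0 := by
  unfold K1
  rw [AddMonoidHom.mem_ker]
  constructor
  · intro h i
    exact (intCast_eq_zero_iff _).mp (congrFun h i)
  · intro h
    funext i
    exact (intCast_eq_zero_iff _).mpr (h i)

theorem card_words : Nat.card (GolayPt → ZMod 2) = 2 ^ 24 := by
  rw [Nat.card_fun, Nat.card_zmod]
  congr 1
  simp [GolayPt]

theorem K1_index : K1.index = 2 ^ 24 := by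
  unfold K1
  rw [AddSubgroup.index_ker, AddMonoidHom.range_eq_top.mpr red_surjective, AddSubgroup.card_top, card_words]

theorem K1_eq_map : K1 = AddSubgroup.map dbl ⊤ := by
  ext x
  rw [mem_K1, AddSubgroup.mem_map]
  constructor
  · intro h
    refine ⟨fun i => x i / 2, AddSubgroup.mem_top _, ?_⟩
    funext i
    have := h i
    change 2 * (x i / 2) = x i
    omega
  · rintro ⟨y, -, rfl⟩ i
    change (2 * y i) % 2 = 0
    omega

/-- twice the vectors reducing to a code word -/
def K2 : AddSubgroup (GolayPt → ℤ) := AddSubgroup.map dbl (AddSubgroup.comap red golayCode.toAddSubgroup)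

theorem mem_K2 (x : GolayPt → ℤ) :
    x ∈ K2 ↔ (∀ i, x i % 2 = 0) ∧ (Finset.univ.filter fun i => x i % 4 = 2) ∈ GS := by
  have key : ∀ y : GolayPt → ℤ, indic (Finset.univ.filter fun i => (2 * y i) % 4 = 2) = red y := by
    intro y
    funext i
    rw [red_apply]
    unfold indic
    simp only [mem_filter, mem_univ, true_and]
    split_ifs with h
    · exact ((intCast_eq_one_iff _).mpr (by omega)).symm
    · exact ((intCast_eq_zero_iff _).mpr (by omega)).symm
  unfold K2
  rw [AddSubgroup.mem_map]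
  constructor
  · rintro ⟨y, hy, rfl⟩
    refine ⟨fun i => ?_, ?_⟩
    · change (2 * y i) % 2 = 0
      omega
    · rw [mem_GS_iff]
      change indic (Finset.univ.filter fun i => (2 * y i) % 4 = 2) ∈ golayCode
      rw [key]
      exact hy
  · rintro ⟨h, hx⟩
    have hxy : x = fun i => 2 * (x i / 2) := by funext i; have := h i; omega
    refine ⟨fun i => x i / 2, ?_, hxy.symm⟩
    rw [AddSubgroup.mem_comap]
    change red (fun i => x i / 2) ∈ golayCode
    rw [← key, ← mem_GS_iff]
    rw [hxy] at hx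
    exact hx

theorem card_golay : Nat.card golayCode = 2 ^ 12 := by
  rw [Cfsg.Agent.S0358.card_golayCode]; norm_num

theorem golay_index : golayCode.toAddSubgroup.index = 2 ^ 12 := by
  have h := AddSubgroup.card_mul_index golayCode.toAddSubgroup
  rw [card_words] at h
  have h2 : Nat.card golayCode.toAddSubgroup = 2 ^ 12 := card_golay
  rw [h2] at h
  exact Nat.eq_of_mul_eq_mul_left (by norm_num : 0 < 2 ^ 12) (h.trans (by norm_num))

theorem K2_relIndex : K2.relIndex K1 = 2 ^ 12 := by
  unfold K2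
  rw [K1_eq_map, AddSubgroup.relIndex_map_map_of_injective _ _ dbl_injective,
    AddSubgroup.relIndex_top_right, AddSubgroup.index_comap_of_surjective _ red_surjective, golay_index]

/-- the even vectors of the lattice -/
def K3 : AddSubgroup (GolayPt → ℤ) := leechLattice ⊓ K1

theorem mem_K3 (x : GolayPt → ℤ) : x ∈ K3 ↔ x ∈ K2 ∧ (∑ i, x i) % 8 = 0 := by
  unfold K3
  rw [AddSubgroup.mem_inf, mem_leechLattice_iff, mem_K1, mem_K2]
  constructor
  · rintro ⟨h, h'⟩
    rw [mem_iff_of_even h'] at h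
    exact ⟨⟨h', h.2⟩, h.1⟩
  · rintro ⟨⟨h', h⟩, hs⟩
    exact ⟨(mem_iff_of_even h').mpr ⟨hs, h⟩, h'⟩

/-- the sum of the coordinates of a vector of `K2` is divisible by 4 -/
theorem sum_K2 {x : GolayPt → ℤ} (hx : x ∈ K2) : (∑ i, x i) % 4 = 0 := by
  rw [mem_K2] at hx
  obtain ⟨h, hc⟩ := hx
  have h4 : (Finset.univ.filter fun i => x i % 4 = 2).card % 4 = 0 := by
    obtain ⟨w, hw, hw'⟩ := hc
    have := Cfsg.Agent.SporadicA.GolayWeight.four_dvd_weight hw
    rw [hw'] at this
    omega
  have h1 : (∑ i, x i) ≡ ∑ i : GolayPt, (if x i % 4 = 2 then (2 : ℤ) else 0) [ZMOD 4] := by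
    refine Int.ModEq.sum fun i _ => ?_
    have := h i
    unfold Int.ModEq
    split_ifs <;> omega
  have h2 : ∑ i : GolayPt, (if x i % 4 = 2 then (2 : ℤ) else 0)
      = 2 * ((Finset.univ.filter fun i => x i % 4 = 2).card : ℤ) := by
    rw [← Finset.sum_filter, Finset.sum_const, nsmul_eq_mul]; ring
  rw [h2] at h1
  unfold Int.ModEq at h1
  omega

theorem K3_relIndex_K2 : K3.relIndex K2 = 2 := by
  rw [AddSubgroup.relIndex_eq_two_iff]
  have hsum : ∑ i, (Pi.single none 4 : GolayPt → ℤ) i = 4 := by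
    rw [Finset.sum_pi_single']; simp
  have ha : (Pi.single none 4 : GolayPt → ℤ) ∈ K2 := by
    rw [mem_K2]
    have h0 : ∀ i : GolayPt, (Pi.single none 4 : GolayPt → ℤ) i % 4 = 0 := by
      intro i
      by_cases hi : i = none
      · subst hi; simp
      · simp [Pi.single_eq_of_ne hi]
    refine ⟨fun i => by have := h0 i; omega, ?_⟩
    have : (Finset.univ.filter fun i => (Pi.single none 4 : GolayPt → ℤ) i % 4 = 2) = ∅ := by
      apply Finset.filter_false_of_mem
      intro i _ h
      rw [h0 i] at h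
      omega
    rw [this]
    exact empty_mem_GS
  refine ⟨Pi.single none 4, ha, fun b hb => ?_⟩
  have h1 : (∑ i, (b + (Pi.single none 4 : GolayPt → ℤ)) i) = (∑ i, b i) + 4 := by
    rw [← hsum, ← Finset.sum_add_distrib]; rfl
  have h2 := sum_K2 hb
  have h3 : b + (Pi.single none 4 : GolayPt → ℤ) ∈ K2 := K2.add_mem hb ha
  rw [mem_K3, mem_K3, h1]
  by_cases h : (∑ i, b i) % 8 = 0
  · right
    exact ⟨⟨hb, h⟩, fun h' => by have := h'.2; omega⟩
  · left
    exact ⟨⟨h3, by omega⟩, fun h' => h h'.2⟩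

theorem K3_relIndex_leech : K3.relIndex leechLattice = 2 := by
  rw [AddSubgroup.relIndex_eq_two_iff]
  refine ⟨Spor.vecV, AddSubgroup.subset_closure Spor.vecV_mem_leechSet, fun b hb => ?_⟩
  have hv : ∀ i, Spor.vecV i % 2 = 1 := by
    intro i; unfold Spor.vecV; split_ifs <;> rfl
  have hsum : b + Spor.vecV ∈ leechLattice :=
    leechLattice.add_mem hb (AddSubgroup.subset_closure Spor.vecV_mem_leechSet)
  unfold K3
  rw [AddSubgroup.mem_inf, AddSubgroup.mem_inf, mem_K1, mem_K1]
  rcases parity_of_mem ((mem_leechLattice_iff b).mp hb) with h | h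
  · right
    refine ⟨⟨hb, h⟩, fun h' => ?_⟩
    have h1 : (b none + Spor.vecV none) % 2 = 0 := h'.2 none
    have h2 := h none
    have h3 := hv none
    omega
  · left
    refine ⟨⟨hsum, fun i => ?_⟩, fun h' => ?_⟩
    · change (b i + Spor.vecV i) % 2 = 0
      have h2 := h i
      have h3 := hv i
      omega
    · have h1 := h'.2 none
      have h2 := h none
      omega

theorem leech_index : leechLattice.index = 2 ^ 36 := by
  have hK21 : K2 ≤ K1 := fun x hx => (mem_K1 x).mpr ((mem_K2 x).mp hx).1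
  have hK32 : K3 ≤ K2 := fun x hx => ((mem_K3 x).mp hx).1
  have h1 := AddSubgroup.relIndex_mul_index (show K3 ≤ leechLattice from inf_le_left)
  have h2 := AddSubgroup.relIndex_mul_index hK32
  have h3 := AddSubgroup.relIndex_mul_index hK21
  rw [K3_relIndex_leech] at h1
  rw [K3_relIndex_K2] at h2
  rw [K2_relIndex, K1_index] at h3
  rw [← h2, ← h3] at h1
  exact Nat.eq_of_mul_eq_mul_left (by norm_num : 0 < 2) (h1.trans (by norm_num))

end Cfsg.Agent.Leech.Index
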