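import Cfsg.Prelude.Def_Sporadic_a

/-!
# The Leech lattice: `leechLattice` is the set `leechSet`

Normal form `x = m + 2 z` with `z mod 2` a codeword; no fact about the Golay code is needed beyond
being a linear code that contains the all-ones word.
-/

set_option autoImplicit false

namespace Cfsg.Agent.Leech.LeechSet900

open Cfsg Finset

theorem zmod2_eq_of_ne_zero_iff {a b : ZMod 2} (h : a ≠ 0 ↔ b ≠ 0) : a = b := by
  revert a b; decide

theorem one_mem : (1 : GolayPt → ZMod 2) ∈ golayCode :=
  Submodule.subset_span (Set.mem_union_right _ rfl)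

theorem support₂_mem {w : GolayPt → ZMod 2} (hw : w ∈ golayCode) :
    support₂ w ∈ supports (golayCode : Set (GolayPt → ZMod 2)) := ⟨w, hw, rfl⟩

theorem intCast_ne_zero_iff (a : ℤ) : (a : ZMod 2) ≠ 0 ↔ a % 2 = 1 := by
  rw [Ne, ZMod.intCast_zmod_eq_zero_iff_dvd]; omega

/-- Normal form of the elements of `leechSet`. -/
theorem mem_leechSet_iff (x : GolayPt → ℤ) : x ∈ leechSet ↔
    ∃ (m : ℤ) (z : GolayPt → ℤ), (∀ i, x i = m + 2 * z i) ∧ (∑ i, x i ≡ 4 * m [ZMOD 8]) ∧
      (fun i => (z i : ZMod 2)) ∈ golayCode := by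
  constructor
  · rintro ⟨m, hm, hs, hk⟩
    have hx : ∀ i, x i = m + 2 * ((x i - m) / 2) := by
      intro i
      have := hm i
      unfold Int.ModEq at this
      omega
    refine ⟨m, fun i => (x i - m) / 2, hx, hs, ?_⟩
    obtain ⟨c, hc, hce⟩ := hk (m + 2)
    have : (fun i => (((x i - m) / 2 : ℤ) : ZMod 2)) = c := by
      funext i
      apply zmod2_eq_of_ne_zero_iff
      have h1 : i ∈ support₂ c ↔ x i ≡ m + 2 [ZMOD 4] := by
        rw [hce]; simp
      have h2 : i ∈ support₂ c ↔ c i ≠ 0 := by simp [support₂]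
      rw [← h2, h1, intCast_ne_zero_iff]
      have := hx i
      unfold Int.ModEq
      omega
    rw [this]; exact hc
  · rintro ⟨m, z, hx, hs, hz⟩
    refine ⟨m, fun i => ?_, hs, fun k => ?_⟩
    · rw [hx i]; unfold Int.ModEq; omega
    · by_cases hk : k ≡ m [ZMOD 2]
      · obtain ⟨j, hj⟩ : ∃ j, k = m + 2 * j := by
          unfold Int.ModEq at hk
          exact ⟨(k - m) / 2, by omega⟩
        have hmem : (fun i => ((z i + j + 1 : ℤ) : ZMod 2)) ∈ golayCode := by
          have : (fun i => ((z i + j + 1 : ℤ) : ZMod 2)) =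
              (fun i => (z i : ZMod 2)) + ((j : ZMod 2) + 1) • (1 : GolayPt → ZMod 2) := by
            funext i; simp [add_assoc]
          rw [this]
          exact golayCode.add_mem hz (golayCode.smul_mem _ one_mem)
        convert support₂_mem hmem using 1
        ext i
        simp only [mem_filter, mem_univ, true_and, support₂]
        rw [intCast_ne_zero_iff, hx i, hj]
        unfold Int.ModEq
        omega
      · convert support₂_mem (golayCode.zero_mem) using 1
        ext i
        simp only [mem_filter, mem_univ, true_and, support₂, Pi.zero_apply, ne_eq,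
          not_true_eq_false, iff_false]
        rw [hx i]
        unfold Int.ModEq at hk ⊢
        omega

/-- `leechSet` as an additive subgroup. -/
def leechSub : AddSubgroup (GolayPt → ℤ) where
  carrier := leechSet
  zero_mem' := by
    rw [mem_leechSet_iff]
    refine ⟨0, 0, by simp, by simp, ?_⟩
    convert golayCode.zero_mem using 1
    funext i; simp
  add_mem' := by
    intro x y hx hy
    rw [mem_leechSet_iff] at *
    obtain ⟨m, z, h1, h2, h3⟩ := hx
    obtain ⟨n, w, g1, g2, g3⟩ := hy
    refine ⟨m + n, z + w, fun i => ?_, ?_, ?_⟩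
    · simp only [Pi.add_apply, h1 i, g1 i]; ring
    · simp only [Pi.add_apply, sum_add_distrib, mul_add]
      exact h2.add g2
    · have := golayCode.add_mem h3 g3
      convert this using 1
      funext i; simp
  neg_mem' := by
    intro x hx
    rw [mem_leechSet_iff] at *
    obtain ⟨m, z, h1, h2, h3⟩ := hx
    refine ⟨-m, -z, fun i => ?_, ?_, ?_⟩
    · simp only [Pi.neg_apply, h1 i]; ring
    · simp only [Pi.neg_apply, sum_neg_distrib, mul_neg]
      exact h2.neg
    · have := golayCode.neg_mem h3
      convert this using 1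
      funext i; simp

theorem leechLattice_eq : leechLattice = leechSub := by
  apply le_antisymm
  · exact (AddSubgroup.closure_le _).2 (fun x hx => hx)
  · exact fun x hx => AddSubgroup.subset_closure hx

theorem mem_leechLattice_iff_leechSet (x : GolayPt → ℤ) : x ∈ leechLattice ↔ x ∈ leechSet := by
  rw [leechLattice_eq]; rfl

/-- Normal form of the elements of `leechLattice`. -/
theorem mem_leechLattice_iff (x : GolayPt → ℤ) : x ∈ leechLattice ↔
    ∃ (m : ℤ) (z : GolayPt → ℤ), (∀ i, x i = m + 2 * z i) ∧ (∑ i, x i ≡ 4 * m [ZMOD 8]) ∧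
      (fun i => (z i : ZMod 2)) ∈ golayCode := by
  rw [mem_leechLattice_iff_leechSet, mem_leechSet_iff]

end Cfsg.Agent.Leech.LeechSet900
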