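import Cfsg.Agent.Leech.Word

/-!
# Packing indicator vectors of masks, and counting with packed vectors
-/

set_option autoImplicit false

namespace Cfsg.Agent.Leech.Pack

open Cfsg Cfsg.Agent.SporadicA.GolayBase Cfsg.Agent.Leech.Enc

/-- `∑ 8192 ^ i` over the bits `i < n` of `m`. -/
def spr : ℕ → ℕ → ℕ
  | 0, _ => 0
  | n + 1, m => Nat.add (Nat.mod m 2) (Nat.mul 8192 (spr n (Nat.div m 2)))

/-- `∑ 8192 ^ i` over the 24 lowest bits of `m`. -/
def spread (m : ℕ) : ℕ := spr 24 m

theorem spr_eq (n m : ℕ) :
    spr n m = ∑ i ∈ Finset.range n, (if m.testBit i then 1 else 0) * 8192 ^ i := by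
  induction n generalizing m with
  | zero => rfl
  | succ n ih =>
    have h : spr (n + 1) m = m % 2 + 8192 * spr n (m / 2) := rfl
    rw [h, ih, Finset.sum_range_succ', Finset.mul_sum, add_comm]
    congr 1
    · apply Finset.sum_congr rfl
      intro i _
      rw [Nat.testBit_succ, pow_succ]
      ring
    · rw [Nat.testBit_zero]
      rcases Nat.mod_two_eq_zero_or_one m with h | h <;> simp [h]

/-- The indicator vector of a set of points. -/
def ind (s : Finset GolayPt) : GolayPt → ℤ := fun p => if p ∈ s then 1 else 0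

theorem E_ind (m : ℕ) : E (ind (fin m)) = spread m := by
  rw [E_apply, spread, spr_eq]
  push_cast
  rw [← sum_idx (fun i => (if m.testBit i = true then (1 : ℤ) else 0) * 8192 ^ i)]
  apply Finset.sum_congr rfl
  intro p _
  unfold ind
  simp only [mem_fin]

/-- A small vector is the vector of its packed number. -/
theorem vec_eq {X : ℕ} (hX : valid X = true) {x : GolayPt → ℤ} (hx : ∀ p, |x p| ≤ 16)
    (h : E x + 16 * ONE = X) : vec X = x := by
  rw [← sub_eq_zero]
  apply E_inj
  · intro p
    have h1 := vec_bound hX p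
    have h2 := hx p
    rw [Pi.sub_apply, abs_lt]
    rw [abs_le] at h1 h2
    constructor <;> omega
  · rw [map_sub, E_vec hX, ← h]
    ring

theorem vec_injOn {X Y : ℕ} (hX : valid X = true) (hY : valid Y = true) (h : vec X = vec Y) :
    X = Y := by
  have h1 := E_vec hX
  have h2 := E_vec hY
  rw [h, h2] at h1
  have : (X : ℤ) = Y := by linarith
  exact_mod_cast this

/-- Counting a set of vectors given by a list of packed vectors. -/
theorem ncard_of_list (L : List ℕ) (hv : ∀ X ∈ L, valid X = true) (hn : L.Nodup)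
    (S : Set (GolayPt → ℤ)) (hS : ∀ x, x ∈ S ↔ ∃ X ∈ L, x = vec X) : S.ncard = L.length := by
  classical
  have h1 : S = vec '' (L.toFinset : Set ℕ) := by
    ext x
    rw [hS, Set.mem_image]
    constructor
    · rintro ⟨X, hX, rfl⟩
      exact ⟨X, by simpa using hX, rfl⟩
    · rintro ⟨X, hX, rfl⟩
      exact ⟨X, by simpa using hX, rfl⟩
  rw [h1, Set.ncard_image_of_injOn, Set.ncard_coe_finset, List.toFinset_card_of_nodup hn]
  intro X hX Y hY h
  exact vec_injOn (hv X (by simpa using hX)) (hv Y (by simpa using hY)) h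

end Cfsg.Agent.Leech.Pack
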