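import Cfsg.Agent.Leech.Enc

/-!
# Words in explicit elements of `Co0` applied to packed Leech vectors

`run gens w X X0` applies the word `w` (indices into the list `gens` of packed matrices) to the
packed vector `X`, checking every step, and compares the result with `X0`.
-/

set_option autoImplicit false

namespace Cfsg.Agent.Leech.Word

open Cfsg Cfsg.Agent.SporadicA.GolayBase Cfsg.Agent.Leech.Enc

/-- `g` acts on the lattice as one eighth of the packed matrix `m = (sum of columns, columns)`. -/
def IsMat (m : ℕ × List ℕ) (g : Co0) : Prop :=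
  validMat m.2 m.1 = true ∧ ∀ x : leechLattice,
    (8 : ℤ) • ((g • x : leechLattice) : GolayPt → ℤ) = ∑ q, (x : GolayPt → ℤ) q • col m.2 q

/-- One step of the action on packed vectors (to be checked with `stepOK`). -/
def act (m : ℕ × List ℕ) (X : ℕ) : ℕ :=
  Nat.div (Nat.sub (Nat.add (mv m.2 X) (Nat.mul 6272 ONE))
    (Nat.mul 16 (Nat.add m.1 (Nat.mul ONE (Nat.mod X 8191))))) 8

/-- Apply a word of generator indices to `X` and compare with `X0`. -/
def run (gens : List (ℕ × List ℕ)) : List ℕ → ℕ → ℕ → Bool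
  | [], X, X0 => Nat.beq X X0
  | k :: w, X, X0 =>
    valid (act (gens.getD k (0, [])) X) &&
    (stepOK (gens.getD k (0, [])).2 (gens.getD k (0, [])).1 X (act (gens.getD k (0, [])) X) &&
    run gens w (act (gens.getD k (0, [])) X) X0)

theorem step_eq {m : ℕ × List ℕ} {g : Co0} (hg : IsMat m g) {X Y : ℕ} (hX : valid X = true)
    (hY : valid Y = true) (h : stepOK m.2 m.1 X Y = true) (x : leechLattice)
    (hx : (x : GolayPt → ℤ) = vec X) : ((g • x : leechLattice) : GolayPt → ℤ) = vec Y := by
  have h1 := step_sound hg.1 hX hY h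
  have h2 := hg.2 x
  rw [hx, ← h1] at h2
  funext p
  have h3 := congrFun h2 p
  simp only [Pi.smul_apply, smul_eq_mul] at h3
  omega

/-- Soundness of `run`. -/
theorem run_sound (gens : List (ℕ × List ℕ)) (H : Subgroup Co0)
    (hgens : ∀ k, k < gens.length → ∃ g ∈ H, IsMat (gens.getD k (0, [])) g) (X0 : ℕ) :
    ∀ (w : List ℕ) (X : ℕ), (∀ k ∈ w, k < gens.length) → valid X = true →
      run gens w X X0 = true → ∀ x : leechLattice, (x : GolayPt → ℤ) = vec X →
      ∃ g ∈ H, ((g • x : leechLattice) : GolayPt → ℤ) = vec X0 := by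
  intro w
  induction w with
  | nil =>
    intro X _ _ h x hx
    refine ⟨1, H.one_mem, ?_⟩
    rw [one_smul, hx, Nat.eq_of_beq_eq_true h]
  | cons k w ih =>
    intro X hw hX h x hx
    have hk : k < gens.length := hw k List.mem_cons_self
    obtain ⟨g, hgH, hg⟩ := hgens k hk
    unfold run at h
    rw [Bool.and_eq_true, Bool.and_eq_true] at h
    obtain ⟨h1, h2, h3⟩ := h
    have h4 := step_eq hg hX h1 h2 x hx
    obtain ⟨g', hg'H, hg'⟩ := ih _ (fun j hj => hw j (List.mem_cons_of_mem _ hj)) h1 h3
      (g • x) h4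
    refine ⟨g' * g, H.mul_mem hg'H hgH, ?_⟩
    rw [mul_smul]
    exact hg'

end Cfsg.Agent.Leech.Word
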